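import Cfsg.Agent.Lib.PermComp.Core

/-! The conjugates of an involution of `McL`, as words. -/

set_option autoImplicit false
set_option maxRecDepth 100000

namespace Cfsg.Agent.Lib.McLCent.Data

open _root_.Cfsg.Agent.Lib.PermComp.Core

/-- Digits base four of a number with leading digit one. -/
noncomputable def decF (fuel : Nat) : Nat → List Nat :=
  Nat.rec (fun _ => []) (fun _ ih n => Bool.rec (List.cons (Nat.mod n 4) (force (Nat.div n 4) ih)) [] (Nat.blt n 2)) fuel

def orb0 : List Nat := [nat_lit 453702,nat_lit 87091,nat_lit 1287408,nat_lit 7760,nat_lit 82340,nat_lit 109676,nat_lit 103168,nat_lit 1051734,nat_lit 413619,nat_lit 282627,nat_lit 502780,nat_lit 17748,nat_lit 104730,nat_lit 1382982,nat_lit 1388630,nat_lit 103786,nat_lit 328004,nat_lit 2092118,nat_lit 328703,nat_lit 328702,nat_lit 130287,nat_lit 345769,nat_lit 1376362,nat_lit 1392879,nat_lit 4166,nat_lit 278417,nat_lit 328730,nat_lit 1370517,nat_lit 1642138,nat_lit 4517978,nat_lit 1217,nat_lit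 279889,nat_lit 348566,nat_lit 1458236,nat_lit 430426,nat_lit 1661595,nat_lit 66649,nat_lit 348506,nat_lit 328975,nat_lit 289134,nat_lit 1292716,nat_lit 1724436,nat_lit 81856,nat_lit 421103,nat_lit 331515,nat_lit 5722,nat_lit 1107310,nat_lit 266682,nat_lit 1051,nat_lit 1126822,nat_lit 409939,nat_lit 17413,nat_lit 289086,nat_lit 1343,nat_lit 25621,nat_lit 1115219,nat_lit 19562,nat_lit 311641,nat_lit 266243,nat_lit 103366,nat_lit 276900,nat_lit 349082,nat_lit 413462,nat_lit 463792,nat_lit 1104,nat_lit 1748545,nat_lit 282277,nat_lit 71999,nat_lit 376527,nat_lit 453264,nat_lit 28611,nat_lit 27542,nat_lit 502105,nat_lit 110673,nat_lit 125505,nat_lit 5566,nat_lit 328716,nat_lit 322115,nat_lit 328764,nat_lit 431856,nat_lit 1052691,nat_lit 22868,nat_lit 72427,nat_lit 435865,nat_lit 115695,nat_lit 370009,nat_lit 348393,nat_lit 1381652,nat_lit 17404,nat_lit 267321,nat_lit 1771,nat_lit 263524,nat_lit 266004,nat_lit 1503674,nat_lit 68693,nat_lit 465516,nat_lit 277274,nat_lit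 17323,nat_lit 372837,nat_lit 114459,nat_lit 110233,nat_lit 263146,nat_lit 31482,nat_lit 107717,nat_lit 369945,nat_lit 1246515,nat_lit 322618,nat_lit 438534,nat_lit 110351,nat_lit 21310,nat_lit 416704,nat_lit 263593,nat_lit 1282960,nat_lit 110350,nat_lit 80590,nat_lit 312316,nat_lit 108239,nat_lit 1463283,nat_lit 431408,nat_lit 315121,nat_lit 1336324,nat_lit 4433596,nat_lit 420923,nat_lit 71957,nat_lit 265792,nat_lit 437313,nat_lit 1414848,nat_lit 21438,nat_lit 17809,nat_lit 17811,nat_lit 1817689,nat_lit 1763057,nat_lit 284351,nat_lit 266267,nat_lit 92736,nat_lit 81727,nat_lit 4118,nat_lit 283025,nat_lit 327279,nat_lit 7237,nat_lit 1314457,nat_lit 465814,nat_lit 280229,nat_lit 323343,nat_lit 85099,nat_lit 1331406,nat_lit 103374,nat_lit 440940,nat_lit 70655,nat_lit 1130586,nat_lit 290449,nat_lit 91155,nat_lit 31333,nat_lit 289214,nat_lit 1137238,nat_lit 25939,nat_lit 105107,nat_lit 18069,nat_lit 27588,nat_lit 129956,nat_lit 509135,nat_lit 332223,nat_lit 431441,nat_lit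 326606,nat_lit 88766,nat_lit 21839,nat_lit 343280,nat_lit 1053696,nat_lit 5824,nat_lit 82244,nat_lit 372314,nat_lit 111595,nat_lit 6421,nat_lit 1131519,nat_lit 87312,nat_lit 78079,nat_lit 1309338,nat_lit 520190,nat_lit 328987,nat_lit 81659,nat_lit 349950,nat_lit 1330245,nat_lit 327658,nat_lit 66645,nat_lit 1249216,nat_lit 365548,nat_lit 127315,nat_lit 355068,nat_lit 278421,nat_lit 462400,nat_lit 282672,nat_lit 1053781,nat_lit 1273,nat_lit 282709,nat_lit 410938,nat_lit 1061168,nat_lit 1504153,nat_lit 25839,nat_lit 20785,nat_lit 104083,nat_lit 333567,nat_lit 285676,nat_lit 278970,nat_lit 69999,nat_lit 266214,nat_lit 430387,nat_lit 103509,nat_lit 1396335,nat_lit 375097,nat_lit 275354,nat_lit 69221,nat_lit 85692,nat_lit 92467,nat_lit 66534,nat_lit 431535,nat_lit 465902,nat_lit 115686,nat_lit 267333,nat_lit 332011,nat_lit 375129,nat_lit 85659,nat_lit 102458,nat_lit 130052,nat_lit 28305,nat_lit 111593,nat_lit 113606,nat_lit 1676538,nat_lit 263103,nat_lit 267161,nat_lit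 92464,nat_lit 6485,nat_lit 1126422,nat_lit 66625,nat_lit 1653653,nat_lit 1282843,nat_lit 4497,nat_lit 1374785,nat_lit 283641,nat_lit 91369,nat_lit 69886,nat_lit 81488,nat_lit 321179,nat_lit 441062,nat_lit 441366,nat_lit 105457,nat_lit 460051,nat_lit 262214,nat_lit 1776633,nat_lit 5131503,nat_lit 126554,nat_lit 115091,nat_lit 1055684,nat_lit 327761,nat_lit 442689,nat_lit 113893,nat_lit 371035,nat_lit 518490,nat_lit 86001,nat_lit 265317,nat_lit 22169,nat_lit 1332240,nat_lit 263274,nat_lit 1133797,nat_lit 5187,nat_lit 326683,nat_lit 31722,nat_lit 91577,nat_lit 1074480,nat_lit 65772,nat_lit 80916,nat_lit 6425,nat_lit 66897,nat_lit 1113769,nat_lit 20377,nat_lit 19515,nat_lit 1863445,nat_lit 1328726,nat_lit 1053681,nat_lit 344089,nat_lit 87749,nat_lit 1304236,nat_lit 1655827,nat_lit 28720,nat_lit 1461851,nat_lit 1639446,nat_lit 4608076,nat_lit 17297,nat_lit 409667,nat_lit 1137221,nat_lit 7173,nat_lit 26202,nat_lit 21478,nat_lit 80659,nat_lit 279876,nat_lit 523156,nat_lit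 86284,nat_lit 288005,nat_lit 1249531,nat_lit 7078,nat_lit 1393870,nat_lit 83372,nat_lit 266447,nat_lit 130713,nat_lit 107796,nat_lit 1360100,nat_lit 127259,nat_lit 1260458,nat_lit 520086,nat_lit 1055396,nat_lit 416534,nat_lit 276911,nat_lit 332773,nat_lit 1861958,nat_lit 104794,nat_lit 365500,nat_lit 520091,nat_lit 81614,nat_lit 66454,nat_lit 321850,nat_lit 113691,nat_lit 94124,nat_lit 1666298,nat_lit 274671,nat_lit 27300,nat_lit 103849,nat_lit 1287444,nat_lit 94181,nat_lit 1222,nat_lit 323244,nat_lit 437488,nat_lit 269115,nat_lit 27590,nat_lit 504741,nat_lit 1369172,nat_lit 1375120,nat_lit 127002,nat_lit 443313,nat_lit 1850,nat_lit 1676721,nat_lit 327936,nat_lit 265243,nat_lit 8188,nat_lit 94204,nat_lit 1141839,nat_lit 1314415,nat_lit 110166,nat_lit 1109582,nat_lit 113235,nat_lit 1250667,nat_lit 1066726,nat_lit 70060,nat_lit 263119,nat_lit 90,nat_lit 1129702,nat_lit 430384,nat_lit 31509,nat_lit 69610,nat_lit 19536,nat_lit 1141423,nat_lit 282395,nat_lit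 343033,nat_lit 4198313,nat_lit 289795,nat_lit 130129,nat_lit 1764358,nat_lit 105466,nat_lit 410044,nat_lit 125249,nat_lit 501142,nat_lit 103857,nat_lit 16827,nat_lit 1288539,nat_lit 284051,nat_lit 5540,nat_lit 1049860,nat_lit 65561,nat_lit 72421,nat_lit 313072,nat_lit 21836,nat_lit 1642544,nat_lit 278629,nat_lit 1101397,nat_lit 104726,nat_lit 348590,nat_lit 116158,nat_lit 1461904,nat_lit 2026,nat_lit 67227,nat_lit 113236,nat_lit 114245,nat_lit 18086,nat_lit 20751,nat_lit 520196,nat_lit 457423,nat_lit 1055397,nat_lit 268971,nat_lit 350884,nat_lit 1283151,nat_lit 69722,nat_lit 1894704,nat_lit 113664,nat_lit 312581,nat_lit 370961,nat_lit 274518,nat_lit 26319,nat_lit 107772,nat_lit 340079,nat_lit 414635,nat_lit 127254,nat_lit 1068099,nat_lit 364739,nat_lit 266212,nat_lit 284074,nat_lit 330842,nat_lit 507916,nat_lit 7059,nat_lit 523013,nat_lit 1048937,nat_lit 465686,nat_lit 109588,nat_lit 1049582,nat_lit 416086,nat_lit 418865,nat_lit 1664063,nat_lit 1817657,nat_lit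 465870,nat_lit 32700,nat_lit 312591,nat_lit 82971,nat_lit 1107215,nat_lit 1048889,nat_lit 1112837,nat_lit 21566,nat_lit 343017,nat_lit 31397,nat_lit 443,nat_lit 267066,nat_lit 107788,nat_lit 21786,nat_lit 114788,nat_lit 114416,nat_lit 1421211,nat_lit 82347,nat_lit 1855504,nat_lit 1331098,nat_lit 1749268,nat_lit 4523355,nat_lit 344405,nat_lit 1330406,nat_lit 130753,nat_lit 322246,nat_lit 21925,nat_lit 92752,nat_lit 1101582,nat_lit 116458,nat_lit 1774014,nat_lit 290470,nat_lit 23280,nat_lit 86223,nat_lit 344129,nat_lit 289089,nat_lit 87296,nat_lit 1098751,nat_lit 1287887,nat_lit 93889,nat_lit 460369,nat_lit 82948,nat_lit 517139,nat_lit 27670,nat_lit 67156,nat_lit 80910,nat_lit 328704,nat_lit 22894,nat_lit 65977,nat_lit 290801,nat_lit 276755,nat_lit 1055545,nat_lit 446062,nat_lit 1107,nat_lit 17306,nat_lit 1685819,nat_lit 1114393,nat_lit 68859,nat_lit 1289124,nat_lit 1764117,nat_lit 414723,nat_lit 1115468,nat_lit 69204,nat_lit 371653,nat_lit 329109,nat_lit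 409956,nat_lit 1293392,nat_lit 375748,nat_lit 371967,nat_lit 86329,nat_lit 331347,nat_lit 130149,nat_lit 32676,nat_lit 22207,nat_lit 1403568,nat_lit 497002,nat_lit 1333999,nat_lit 1055338,nat_lit 69190,nat_lit 72643,nat_lit 102732,nat_lit 411217,nat_lit 1156689,nat_lit 110511,nat_lit 80900,nat_lit 1746324,nat_lit 1245589,nat_lit 370064,nat_lit 503707,nat_lit 70588,nat_lit 16443,nat_lit 328789,nat_lit 103758,nat_lit 1369403,nat_lit 326762,nat_lit 1061308,nat_lit 6971,nat_lit 1429,nat_lit 5153987,nat_lit 411203,nat_lit 279877,nat_lit 1894835,nat_lit 29695,nat_lit 277178,nat_lit 371430,nat_lit 5241920,nat_lit 328939,nat_lit 17435,nat_lit 350998,nat_lit 1108287,nat_lit 1307540,nat_lit 465862,nat_lit 1156348,nat_lit 276912,nat_lit 86287,nat_lit 71952,nat_lit 1052414,nat_lit 334833,nat_lit 461929,nat_lit 326297,nat_lit 68673,nat_lit 289188,nat_lit 26895,nat_lit 369871,nat_lit 342320,nat_lit 315365,nat_lit 65868,nat_lit 343702,nat_lit 6614611,nat_lit 93274,nat_lit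 1136910,nat_lit 347920,nat_lit 29009,nat_lit 348249,nat_lit 1675705,nat_lit 102649,nat_lit 86272,nat_lit 328958,nat_lit 65562,nat_lit 81615,nat_lit 86459,nat_lit 372985,nat_lit 457499,nat_lit 32335,nat_lit 326330,nat_lit 263872,nat_lit 518448,nat_lit 109161,nat_lit 127323,nat_lit 283589,nat_lit 280131,nat_lit 266502,nat_lit 265238,nat_lit 27724,nat_lit 130064,nat_lit 21782,nat_lit 1130835,nat_lit 1765180,nat_lit 267524,nat_lit 1283774,nat_lit 5040,nat_lit 511653,nat_lit 327950,nat_lit 342636,nat_lit 25862,nat_lit 364803,nat_lit 124176,nat_lit 312304,nat_lit 4438458,nat_lit 1687290,nat_lit 495894,nat_lit 372484,nat_lit 333379,nat_lit 340287,nat_lit 285424,nat_lit 107776,nat_lit 20035,nat_lit 1069139,nat_lit 103403,nat_lit 102846,nat_lit 86038,nat_lit 275391,nat_lit 20454,nat_lit 1107020,nat_lit 85103,nat_lit 69381,nat_lit 496625,nat_lit 66843,nat_lit 86043,nat_lit 93292,nat_lit 453196,nat_lit 290385,nat_lit 502550,nat_lit 87358,nat_lit 27717,nat_lit 4217537,nat_lit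 91214,nat_lit 463104,nat_lit 4177,nat_lit 1287764,nat_lit 130111,nat_lit 20227,nat_lit 279891,nat_lit 355411,nat_lit 323642,nat_lit 269252,nat_lit 437145,nat_lit 115797,nat_lit 130630,nat_lit 420206,nat_lit 331504,nat_lit 72020,nat_lit 66309,nat_lit 82862,nat_lit 326315,nat_lit 1839097,nat_lit 110896,nat_lit 1101392,nat_lit 109372,nat_lit 343660,nat_lit 1336644,nat_lit 69201,nat_lit 343742,nat_lit 278521,nat_lit 6917,nat_lit 80559,nat_lit 110843,nat_lit 1332241,nat_lit 1655868,nat_lit 465598,nat_lit 83270,nat_lit 265818,nat_lit 521188,nat_lit 372812,nat_lit 1162479,nat_lit 1450,nat_lit 103321,nat_lit 349104,nat_lit 110848,nat_lit 349787,nat_lit 289125,nat_lit 1305155,nat_lit 91375,nat_lit 2003946,nat_lit 455100,nat_lit 1250543,nat_lit 523030,nat_lit 349210,nat_lit 114340,nat_lit 279546,nat_lit 282276,nat_lit 413454,nat_lit 116374,nat_lit 345281,nat_lit 1127359,nat_lit 4441345,nat_lit 265915,nat_lit 523014,nat_lit 322638,nat_lit 4348,nat_lit 86958,nat_lit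 1250364,nat_lit 1769876,nat_lit 280307,nat_lit 28670,nat_lit 289361,nat_lit 412908,nat_lit 1484197,nat_lit 86107,nat_lit 27225,nat_lit 284993,nat_lit 266687,nat_lit 420462,nat_lit 1486654,nat_lit 278784,nat_lit 17689,nat_lit 87722,nat_lit 370240,nat_lit 23492,nat_lit 6465,nat_lit 69955,nat_lit 1260207,nat_lit 431707,nat_lit 69958,nat_lit 113381,nat_lit 114607,nat_lit 126533,nat_lit 328752,nat_lit 1894982,nat_lit 430874,nat_lit 328955,nat_lit 1316102,nat_lit 459749,nat_lit 80591,nat_lit 334084,nat_lit 1283498,nat_lit 20784,nat_lit 92432,nat_lit 2031297,nat_lit 1392293,nat_lit 1403536,nat_lit 114404,nat_lit 523499,nat_lit 1109073,nat_lit 508015,nat_lit 70405,nat_lit 369987,nat_lit 4214521,nat_lit 27449,nat_lit 21264,nat_lit 86842,nat_lit 5102,nat_lit 365315,nat_lit 1989310,nat_lit 4411,nat_lit 349092,nat_lit 108985,nat_lit 452172,nat_lit 320602,nat_lit 464144,nat_lit 20478,nat_lit 458350,nat_lit 372307,nat_lit 375556,nat_lit 498276,nat_lit 1101564,nat_lit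 457044,nat_lit 80217,nat_lit 332176,nat_lit 1421210,nat_lit 461827,nat_lit 88724,nat_lit 289381,nat_lit 263147,nat_lit 1248955,nat_lit 23125,nat_lit 462875,nat_lit 69873,nat_lit 1151316,nat_lit 312208,nat_lit 86949,nat_lit 320531,nat_lit 285363,nat_lit 1658865,nat_lit 1115136,nat_lit 1829692,nat_lit 282705,nat_lit 115994,nat_lit 364736,nat_lit 105404,nat_lit 82010,nat_lit 23322,nat_lit 1746001,nat_lit 19461,nat_lit 1705,nat_lit 1136915,nat_lit 80449,nat_lit 2004068,nat_lit 321177,nat_lit 1501761,nat_lit 328960,nat_lit 107718,nat_lit 328598,nat_lit 23270,nat_lit 1360847,nat_lit 1658902,nat_lit 1063984,nat_lit 1107311,nat_lit 4981676,nat_lit 366334,nat_lit 126950,nat_lit 1323413,nat_lit 82705,nat_lit 7407,nat_lit 102451,nat_lit 431126,nat_lit 420666,nat_lit 517883,nat_lit 290790,nat_lit 438017,nat_lit 1658453,nat_lit 86010,nat_lit 4298305,nat_lit 474896,nat_lit 104014,nat_lit 1064531,nat_lit 416106,nat_lit 313065,nat_lit 372986,nat_lit 1141702,nat_lit 355046,nat_lit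 348236,nat_lit 111034,nat_lit 127280,nat_lit 32508,nat_lit 6899,nat_lit 80197,nat_lit 4265153,nat_lit 69950,nat_lit 1332309,nat_lit 353612,nat_lit 1485221,nat_lit 1133811,nat_lit 364741,nat_lit 102489,nat_lit 1065011,nat_lit 110336,nat_lit 1500475,nat_lit 439269,nat_lit 279868,nat_lit 504140,nat_lit 66304,nat_lit 355388,nat_lit 312262,nat_lit 420517,nat_lit 87486,nat_lit 463961,nat_lit 87045,nat_lit 27646,nat_lit 322565,nat_lit 349891,nat_lit 410943,nat_lit 437328,nat_lit 276846,nat_lit 277247,nat_lit 16702,nat_lit 345363,nat_lit 430340,nat_lit 288091,nat_lit 25701,nat_lit 518723,nat_lit 437840,nat_lit 523492,nat_lit 125235,nat_lit 1097982,nat_lit 334421,nat_lit 124593,nat_lit 1120876,nat_lit 2032731,nat_lit 5135097,nat_lit 18148,nat_lit 289708,nat_lit 1327935,nat_lit 1314899,nat_lit 71057,nat_lit 1069120,nat_lit 31814,nat_lit 113087,nat_lit 373744,nat_lit 333489,nat_lit 1403891,nat_lit 110156,nat_lit 265454,nat_lit 130133,nat_lit 348606,nat_lit 105391,nat_lit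 118502,nat_lit 1121278,nat_lit 82030,nat_lit 1402302,nat_lit 127045,nat_lit 266213,nat_lit 1463550,nat_lit 371628,nat_lit 126043,nat_lit 78,nat_lit 127231,nat_lit 1130819,nat_lit 20736,nat_lit 353487,nat_lit 104020,nat_lit 32357,nat_lit 1424614,nat_lit 322671,nat_lit 1413521,nat_lit 517146,nat_lit 340230,nat_lit 130278,nat_lit 342382,nat_lit 1119206,nat_lit 81942,nat_lit 32443,nat_lit 267193,nat_lit 71082,nat_lit 364949,nat_lit 269060,nat_lit 284358,nat_lit 92516,nat_lit 105214,nat_lit 16463,nat_lit 315369,nat_lit 1142735,nat_lit 20416,nat_lit 27244,nat_lit 130963,nat_lit 1685764,nat_lit 283590,nat_lit 83689,nat_lit 78785,nat_lit 453297,nat_lit 110342,nat_lit 66799,nat_lit 89039,nat_lit 19547,nat_lit 1231,nat_lit 67315,nat_lit 68628,nat_lit 430363,nat_lit 345007,nat_lit 348053,nat_lit 1418982,nat_lit 497004,nat_lit 473435,nat_lit 83621,nat_lit 6723,nat_lit 1107649,nat_lit 523258,nat_lit 340219,nat_lit 420849,nat_lit 289430,nat_lit 1757075,nat_lit 1114540,nat_lit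 22832,nat_lit 1643269,nat_lit 81583,nat_lit 28931,nat_lit 507652,nat_lit 1050033,nat_lit 67312,nat_lit 1377707,nat_lit 23291,nat_lit 4982084,nat_lit 1647,nat_lit 1479955,nat_lit 1463055,nat_lit 1298153,nat_lit 80660,nat_lit 322622,nat_lit 463292,nat_lit 22844,nat_lit 349929,nat_lit 465174,nat_lit 116047,nat_lit 339988,nat_lit 70938,nat_lit 1894832,nat_lit 6915,nat_lit 70899,nat_lit 6835,nat_lit 110595,nat_lit 1068862,nat_lit 289345,nat_lit 26928,nat_lit 323518,nat_lit 1305406,nat_lit 1134255,nat_lit 80467,nat_lit 126,nat_lit 5198,nat_lit 364827,nat_lit 1052430,nat_lit 1505712,nat_lit 65956,nat_lit 1049914,nat_lit 1369178,nat_lit 1306565,nat_lit 72453,nat_lit 313062,nat_lit 82692,nat_lit 1152582,nat_lit 1063254,nat_lit 351124,nat_lit 283450,nat_lit 1109093,nat_lit 347163,nat_lit 114262,nat_lit 129806,nat_lit 284091,nat_lit 265237,nat_lit 414042,nat_lit 442276,nat_lit 262448,nat_lit 1292628,nat_lit 115792,nat_lit 104105,nat_lit 413427,nat_lit 124144,nat_lit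 70463,nat_lit 1328708,nat_lit 1099333,nat_lit 315302,nat_lit 113343,nat_lit 91148,nat_lit 78158,nat_lit 20076,nat_lit 509182,nat_lit 124665,nat_lit 365839,nat_lit 1311505,nat_lit 5052,nat_lit 20175,nat_lit 269262,nat_lit 102628,nat_lit 340942,nat_lit 437231,nat_lit 281689,nat_lit 523955,nat_lit 4455313,nat_lit 127310,nat_lit 29033,nat_lit 1072100,nat_lit 498495,nat_lit 115663,nat_lit 1060954,nat_lit 453231,nat_lit 441102,nat_lit 284075,nat_lit 1114515,nat_lit 27391,nat_lit 376746,nat_lit 91562,nat_lit 31120,nat_lit 80304,nat_lit 371662,nat_lit 1068633,nat_lit 105454,nat_lit 1814846,nat_lit 91451,nat_lit 29692,nat_lit 1052755,nat_lit 18001,nat_lit 89007,nat_lit 113722,nat_lit 92772,nat_lit 265456,nat_lit 102827,nat_lit 1107521,nat_lit 4482159,nat_lit 1282469,nat_lit 81129,nat_lit 1151745,nat_lit 269070,nat_lit 504147,nat_lit 508684,nat_lit 276927,nat_lit 1656124,nat_lit 321937,nat_lit 16723,nat_lit 1398460,nat_lit 1139801,nat_lit 370265,nat_lit 118764,nat_lit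 6721,nat_lit 27536,nat_lit 131044,nat_lit 1754788,nat_lit 105386,nat_lit 1754544,nat_lit 322534,nat_lit 331004,nat_lit 1377343,nat_lit 29630,nat_lit 4244843,nat_lit 1463219,nat_lit 267621,nat_lit 66561,nat_lit 1134500,nat_lit 279887,nat_lit 85078,nat_lit 7088,nat_lit 409907,nat_lit 28691,nat_lit 284940,nat_lit 504044,nat_lit 6479,nat_lit 496548,nat_lit 290715,nat_lit 278723,nat_lit 103508,nat_lit 116300,nat_lit 289457,nat_lit 130060,nat_lit 20374,nat_lit 31996,nat_lit 113241,nat_lit 109569,nat_lit 375809,nat_lit 124569,nat_lit 372929,nat_lit 1661840,nat_lit 348585,nat_lit 1724092,nat_lit 373758,nat_lit 69696,nat_lit 1382140,nat_lit 289852,nat_lit 91244,nat_lit 416089,nat_lit 118512,nat_lit 1163236,nat_lit 1075988,nat_lit 1112400,nat_lit 1051716,nat_lit 7854,nat_lit 115001,nat_lit 1159269,nat_lit 1115473,nat_lit 27242,nat_lit 1419610,nat_lit 312259,nat_lit 331836,nat_lit 94147,nat_lit 343825,nat_lit 442708,nat_lit 1052330,nat_lit 28585,nat_lit 1399377,nat_lit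 82361,nat_lit 287830,nat_lit 284014,nat_lit 339990,nat_lit 1330177,nat_lit 348208,nat_lit 356329,nat_lit 110161,nat_lit 1369521,nat_lit 1121041,nat_lit 290794,nat_lit 290623,nat_lit 1136193,nat_lit 280292,nat_lit 1162480,nat_lit 1773311,nat_lit 345087,nat_lit 110565,nat_lit 1681664,nat_lit 20739,nat_lit 410986,nat_lit 430,nat_lit 118515,nat_lit 80207,nat_lit 312318,nat_lit 1283663,nat_lit 517206,nat_lit 17518,nat_lit 91387,nat_lit 508097,nat_lit 5028,nat_lit 1160175,nat_lit 80571,nat_lit 31745,nat_lit 283547,nat_lit 1326860,nat_lit 347217,nat_lit 1071761,nat_lit 103763,nat_lit 1391204,nat_lit 410821,nat_lit 113637,nat_lit 268030,nat_lit 459852,nat_lit 279998,nat_lit 1683694,nat_lit 321094,nat_lit 32448,nat_lit 113733,nat_lit 25603,nat_lit 105040,nat_lit 410865,nat_lit 129766,nat_lit 21523,nat_lit 501418,nat_lit 103227,nat_lit 82169,nat_lit 459184,nat_lit 432958,nat_lit 460371,nat_lit 413948,nat_lit 1381356,nat_lit 320915,nat_lit 1894734,nat_lit 1130404,nat_lit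 1645243,nat_lit 330993,nat_lit 32356,nat_lit 1507258,nat_lit 342783,nat_lit 437957,nat_lit 274540,nat_lit 78826,nat_lit 350970,nat_lit 1655824,nat_lit 372409,nat_lit 1107662,nat_lit 23214,nat_lit 372793,nat_lit 290474,nat_lit 107611,nat_lit 1141753,nat_lit 454668,nat_lit 324026,nat_lit 473689,nat_lit 474094,nat_lit 1305158,nat_lit 459974,nat_lit 5482,nat_lit 1119941,nat_lit 464528,nat_lit 115002,nat_lit 332862,nat_lit 458494,nat_lit 1768124,nat_lit 125868,nat_lit 436531,nat_lit 25940,nat_lit 431466,nat_lit 453043,nat_lit 1393894,nat_lit 1295104,nat_lit 107769,nat_lit 1506371,nat_lit 349615,nat_lit 1117782,nat_lit 420458,nat_lit 413460,nat_lit 1305285,nat_lit 263169,nat_lit 91563,nat_lit 1126662,nat_lit 266686,nat_lit 115609,nat_lit 441577,nat_lit 1382129,nat_lit 102821,nat_lit 103446,nat_lit 266132,nat_lit 20796,nat_lit 5776,nat_lit 340164,nat_lit 110959,nat_lit 1054356,nat_lit 87041,nat_lit 517187,nat_lit 27054,nat_lit 1063573,nat_lit 431182,nat_lit 1746255,nat_lit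 1372415,nat_lit 116388,nat_lit 28403,nat_lit 421633,nat_lit 28240,nat_lit 371685,nat_lit 1156542,nat_lit 1459647,nat_lit 457754,nat_lit 263850,nat_lit 1425338,nat_lit 1316073,nat_lit 376043,nat_lit 113729,nat_lit 1049872,nat_lit 126954,nat_lit 284389,nat_lit 5546,nat_lit 91583,nat_lit 110144,nat_lit 415055,nat_lit 1723499,nat_lit 1700,nat_lit 365503,nat_lit 267571,nat_lit 88891,nat_lit 327765,nat_lit 1101483,nat_lit 1316080,nat_lit 266566,nat_lit 88769,nat_lit 375401,nat_lit 67137,nat_lit 78254,nat_lit 32400,nat_lit 333203,nat_lit 1418563,nat_lit 332993,nat_lit 107715,nat_lit 312313,nat_lit 523883,nat_lit 1071787,nat_lit 1137323,nat_lit 1478707,nat_lit 86337,nat_lit 1113807,nat_lit 289050,nat_lit 376814,nat_lit 21828,nat_lit 1051648,nat_lit 110677,nat_lit 114917,nat_lit 416689,nat_lit 1622,nat_lit 125510,nat_lit 88816,nat_lit 452026,nat_lit 4459611,nat_lit 500986,nat_lit 465894,nat_lit 93203,nat_lit 4339,nat_lit 105459,nat_lit 7065,nat_lit 89038,nat_lit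 1061884,nat_lit 104731,nat_lit 280260,nat_lit 1052697,nat_lit 1069290,nat_lit 265265,nat_lit 1055665,nat_lit 1763675,nat_lit 283404,nat_lit 18089,nat_lit 115776,nat_lit 1260305,nat_lit 26026,nat_lit 443625,nat_lit 23126,nat_lit 26001,nat_lit 1327889,nat_lit 20465,nat_lit 284227,nat_lit 1382128,nat_lit 118723,nat_lit 350885,nat_lit 340883,nat_lit 1376326,nat_lit 31984,nat_lit 421526,nat_lit 1069843,nat_lit 340028,nat_lit 17667,nat_lit 6913,nat_lit 4260282,nat_lit 72420,nat_lit 1108629,nat_lit 289359,nat_lit 81813,nat_lit 1061875,nat_lit 1359962,nat_lit 324,nat_lit 114452,nat_lit 86377,nat_lit 342811,nat_lit 349185,nat_lit 348582,nat_lit 1402303,nat_lit 6841,nat_lit 124585,nat_lit 107600,nat_lit 85966,nat_lit 347801,nat_lit 113669,nat_lit 1053939,nat_lit 72356,nat_lit 102657,nat_lit 69391,nat_lit 265297,nat_lit 4215758,nat_lit 1773580,nat_lit 6412,nat_lit 263487,nat_lit 116294,nat_lit 496726,nat_lit 454426,nat_lit 110641,nat_lit 1134186,nat_lit 1294078,nat_lit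 1852756,nat_lit 437242,nat_lit 130737,nat_lit 1142009,nat_lit 348403,nat_lit 329135,nat_lit 82235,nat_lit 1052403,nat_lit 354736,nat_lit 1459642,nat_lit 16662,nat_lit 5505281,nat_lit 414720,nat_lit 80912,nat_lit 277580,nat_lit 6852,nat_lit 1372158,nat_lit 130757,nat_lit 1130838,nat_lit 1774500,nat_lit 130302,nat_lit 16580,nat_lit 4400,nat_lit 87302,nat_lit 263060,nat_lit 283546,nat_lit 115514,nat_lit 1727381,nat_lit 130131,nat_lit 279820,nat_lit 115974,nat_lit 81491,nat_lit 22270,nat_lit 1053452,nat_lit 441941,nat_lit 1394406,nat_lit 312217,nat_lit 32324,nat_lit 83142,nat_lit 416334,nat_lit 124581,nat_lit 26030,nat_lit 110995,nat_lit 343146,nat_lit 328025,nat_lit 85988,nat_lit 69226,nat_lit 454,nat_lit 414784,nat_lit 1126805,nat_lit 83521,nat_lit 85006,nat_lit 284986,nat_lit 2015577,nat_lit 87636,nat_lit 83375,nat_lit 113299,nat_lit 506198,nat_lit 332602,nat_lit 71962,nat_lit 110849,nat_lit 1108732,nat_lit 80464,nat_lit 105444,nat_lit 31338,nat_lit 347141,nat_lit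 280271,nat_lit 1053777,nat_lit 1065728,nat_lit 278257,nat_lit 72257,nat_lit 365476,nat_lit 70545,nat_lit 278426,nat_lit 66650,nat_lit 114736,nat_lit 127209,nat_lit 27301,nat_lit 504043,nat_lit 320595,nat_lit 82864,nat_lit 265996,nat_lit 287758,nat_lit 22860,nat_lit 105455,nat_lit 1660570,nat_lit 26182,nat_lit 85779,nat_lit 71994,nat_lit 1061061,nat_lit 410899,nat_lit 71365,nat_lit 6426,nat_lit 507919,nat_lit 124613,nat_lit 20410,nat_lit 123905,nat_lit 5829,nat_lit 83269,nat_lit 1369327,nat_lit 1295632,nat_lit 1675279,nat_lit 111035,nat_lit 1109765,nat_lit 1250063,nat_lit 282560,nat_lit 108870,nat_lit 1765742,nat_lit 1068801,nat_lit 17740,nat_lit 372324,nat_lit 503537,nat_lit 1311835,nat_lit 81668,nat_lit 1139971,nat_lit 115600,nat_lit 340890,nat_lit 111556,nat_lit 78267,nat_lit 110277,nat_lit 279492,nat_lit 508102,nat_lit 440908,nat_lit 327429,nat_lit 20228,nat_lit 1749227,nat_lit 91582,nat_lit 26195,nat_lit 1644111,nat_lit 1328046,nat_lit 94192,nat_lit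 344409,nat_lit 6490,nat_lit 279898,nat_lit 16576,nat_lit 463076,nat_lit 1066042,nat_lit 88810,nat_lit 1656230,nat_lit 86441,nat_lit 279834,nat_lit 274670,nat_lit 16710,nat_lit 1076229,nat_lit 369765,nat_lit 1053717,nat_lit 267350,nat_lit 280134,nat_lit 311696,nat_lit 82021,nat_lit 356009,nat_lit 18074,nat_lit 332784,nat_lit 278427,nat_lit 283545,nat_lit 113904,nat_lit 124140,nat_lit 103514,nat_lit 343013,nat_lit 435439,nat_lit 85756,nat_lit 94097,nat_lit 86332,nat_lit 21574,nat_lit 16785,nat_lit 28878,nat_lit 1048852,nat_lit 283738,nat_lit 1141049,nat_lit 1115374,nat_lit 27739,nat_lit 116033,nat_lit 78067,nat_lit 28993,nat_lit 88828,nat_lit 446224,nat_lit 72625,nat_lit 267502,nat_lit 4207018,nat_lit 1156496,nat_lit 414809,nat_lit 1137331,nat_lit 1336390,nat_lit 20373,nat_lit 102741,nat_lit 66331,nat_lit 129449,nat_lit 1109614,nat_lit 27626,nat_lit 110259,nat_lit 88768,nat_lit 77902,nat_lit 323654,nat_lit 1305286,nat_lit 105452,nat_lit 93873,nat_lit 262934,nat_lit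 1135897,nat_lit 92494,nat_lit 1282819,nat_lit 351126,nat_lit 110266,nat_lit 267334,nat_lit 329386,nat_lit 519279,nat_lit 366310,nat_lit 289680,nat_lit 1251673,nat_lit 323519,nat_lit 371008,nat_lit 4523610,nat_lit 65637,nat_lit 1741078,nat_lit 1112341,nat_lit 346,nat_lit 413747,nat_lit 438585,nat_lit 5827,nat_lit 1064937,nat_lit 27365,nat_lit 340309,nat_lit 448,nat_lit 85818,nat_lit 83642,nat_lit 70033,nat_lit 2004732,nat_lit 5811,nat_lit 435518,nat_lit 414661,nat_lit 263446,nat_lit 1336646,nat_lit 82342,nat_lit 103443,nat_lit 277146,nat_lit 435604,nat_lit 69403,nat_lit 27654,nat_lit 2003203,nat_lit 125886,nat_lit 278768,nat_lit 6939,nat_lit 285435,nat_lit 496553,nat_lit 331534,nat_lit 1370544,nat_lit 1360106,nat_lit 432720,nat_lit 81892,nat_lit 414526,nat_lit 125840,nat_lit 366160,nat_lit 502533,nat_lit 1459776,nat_lit 267331,nat_lit 126555,nat_lit 517823,nat_lit 83520,nat_lit 5041,nat_lit 503551,nat_lit 364561,nat_lit 22895,nat_lit 454400,nat_lit 69951,nat_lit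 86975,nat_lit 351209,nat_lit 1152019,nat_lit 473668,nat_lit 1126643,nat_lit 1055312,nat_lit 17753,nat_lit 27653,nat_lit 88646,nat_lit 31296,nat_lit 410596,nat_lit 1402112,nat_lit 125683,nat_lit 435221,nat_lit 1487868,nat_lit 431110,nat_lit 83377,nat_lit 80214,nat_lit 82895,nat_lit 1489925,nat_lit 321275,nat_lit 441110,nat_lit 414058,nat_lit 1107033,nat_lit 328005,nat_lit 71020,nat_lit 31035,nat_lit 520185,nat_lit 87622,nat_lit 7,nat_lit 508138,nat_lit 28721,nat_lit 323388,nat_lit 130628,nat_lit 365505,nat_lit 284308,nat_lit 420842,nat_lit 32363,nat_lit 415045,nat_lit 86990,nat_lit 326566,nat_lit 312981,nat_lit 4377,nat_lit 115684,nat_lit 457807,nat_lit 1741796,nat_lit 439188,nat_lit 91205,nat_lit 26965,nat_lit 1131866,nat_lit 520622,nat_lit 432399,nat_lit 91241,nat_lit 94159,nat_lit 1818724,nat_lit 109125,nat_lit 25849,nat_lit 282309,nat_lit 522645,nat_lit 17648,nat_lit 375891,nat_lit 266005,nat_lit 281667,nat_lit 126009,nat_lit 71332,nat_lit 4864,nat_lit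 266494,nat_lit 1295278,nat_lit 523152,nat_lit 315375,nat_lit 413424,nat_lit 29012,nat_lit 1392443,nat_lit 126955,nat_lit 1260222,nat_lit 88687,nat_lit 1786,nat_lit 1076889,nat_lit 329023,nat_lit 21754,nat_lit 1989354,nat_lit 1752742,nat_lit 1479678,nat_lit 26884,nat_lit 266133,nat_lit 71233,nat_lit 282202,nat_lit 334790,nat_lit 6833,nat_lit 81587,nat_lit 262377,nat_lit 109547,nat_lit 413249,nat_lit 507547,nat_lit 285372,nat_lit 31467,nat_lit 20121,nat_lit 127258,nat_lit 103332,nat_lit 283070,nat_lit 462785,nat_lit 80836,nat_lit 1117781,nat_lit 1847718,nat_lit 71958,nat_lit 1315137,nat_lit 330812,nat_lit 370090,nat_lit 31082,nat_lit 280209,nat_lit 2030185,nat_lit 435963,nat_lit 27388,nat_lit 442348,nat_lit 441283,nat_lit 1072017,nat_lit 87018,nat_lit 130814,nat_lit 289087,nat_lit 80206,nat_lit 1162948,nat_lit 289135,nat_lit 369715,nat_lit 1068803,nat_lit 320528,nat_lit 94137,nat_lit 452876,nat_lit 1326670,nat_lit 1159508,nat_lit 1397690,nat_lit 506282,nat_lit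 69228,nat_lit 1289999,nat_lit 266154,nat_lit 71948,nat_lit 26947,nat_lit 129724,nat_lit 344341,nat_lit 354902,nat_lit 420884,nat_lit 517717,nat_lit 413633,nat_lit 311610,nat_lit 519185,nat_lit 518401,nat_lit 20827,nat_lit 28224,nat_lit 438678,nat_lit 327361,nat_lit 109675,nat_lit 432449,nat_lit 32453,nat_lit 16700,nat_lit 93952,nat_lit 266556,nat_lit 412688,nat_lit 1119248,nat_lit 1069972,nat_lit 420145,nat_lit 80195,nat_lit 7194,nat_lit 85935,nat_lit 66558,nat_lit 498340,nat_lit 275395,nat_lit 344300,nat_lit 104708,nat_lit 130966,nat_lit 354991,nat_lit 80811,nat_lit 320763,nat_lit 506218,nat_lit 320532,nat_lit 7082,nat_lit 1839099,nat_lit 71419,nat_lit 266667,nat_lit 1376307,nat_lit 5462,nat_lit 71323,nat_lit 109310,nat_lit 7180,nat_lit 1260463,nat_lit 351123,nat_lit 365935,nat_lit 282692,nat_lit 440766,nat_lit 1119322,nat_lit 344892,nat_lit 92944,nat_lit 115121,nat_lit 435264,nat_lit 65969,nat_lit 1683388,nat_lit 454548,nat_lit 113903,nat_lit 453715,nat_lit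 312596,nat_lit 22804,nat_lit 129281,nat_lit 1254,nat_lit 343750,nat_lit 456979,nat_lit 362,nat_lit 1507305,nat_lit 80580,nat_lit 520278,nat_lit 375610,nat_lit 280236,nat_lit 4441347,nat_lit 27364,nat_lit 1246971,nat_lit 371776,nat_lit 364910,nat_lit 369769,nat_lit 1052734,nat_lit 78137,nat_lit 284355,nat_lit 93968,nat_lit 355264,nat_lit 327886,nat_lit 262550,nat_lit 114287,nat_lit 114363,nat_lit 26352,nat_lit 5094,nat_lit 1108793,nat_lit 277167,nat_lit 1064858,nat_lit 502380,nat_lit 31166,nat_lit 72620,nat_lit 365552,nat_lit 1065791,nat_lit 437265,nat_lit 5871,nat_lit 442624,nat_lit 20112,nat_lit 420266,nat_lit 4353,nat_lit 519067,nat_lit 520516,nat_lit 1393636,nat_lit 1064186,nat_lit 354572,nat_lit 1479631,nat_lit 2073604,nat_lit 91497,nat_lit 442383,nat_lit 343865,nat_lit 321178,nat_lit 1076324,nat_lit 430854,nat_lit 4179,nat_lit 92878,nat_lit 290705,nat_lit 315327,nat_lit 29098,nat_lit 81843,nat_lit 1064938,nat_lit 1282368,nat_lit 92502,nat_lit 68686,nat_lit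 1290518,nat_lit 350897,nat_lit 109334,nat_lit 105155,nat_lit 109462,nat_lit 334570,nat_lit 1061210,nat_lit 4430083,nat_lit 332030,nat_lit 322795,nat_lit 340027,nat_lit 5701,nat_lit 457323,nat_lit 1118297,nat_lit 104012,nat_lit 462768,nat_lit 289124,nat_lit 4509438,nat_lit 503828,nat_lit 81594,nat_lit 365996,nat_lit 496057,nat_lit 276886,nat_lit 1288964,nat_lit 315055,nat_lit 102511,nat_lit 70073,nat_lit 114587,nat_lit 1129370,nat_lit 1284377,nat_lit 266180,nat_lit 441583,nat_lit 28752,nat_lit 82233,nat_lit 1310811,nat_lit 69200,nat_lit 110953,nat_lit 285029,nat_lit 345765,nat_lit 414614,nat_lit 80142,nat_lit 375057,nat_lit 1752982,nat_lit 1287172,nat_lit 129742,nat_lit 66319,nat_lit 331471,nat_lit 1377337,nat_lit 113775,nat_lit 340075,nat_lit 507673,nat_lit 109519,nat_lit 86277,nat_lit 517396,nat_lit 1503167,nat_lit 431844,nat_lit 459727,nat_lit 80558,nat_lit 1306287,nat_lit 269081,nat_lit 332132,nat_lit 1326019,nat_lit 267523,nat_lit 114745,nat_lit 321798,nat_lit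 1315941,nat_lit 1721424,nat_lit 365893,nat_lit 349765,nat_lit 1161811,nat_lit 502511,nat_lit 124666,nat_lit 371514,nat_lit 4209614,nat_lit 418819,nat_lit 78099,nat_lit 282683,nat_lit 88774,nat_lit 457978,nat_lit 312976,nat_lit 68620,nat_lit 71098,nat_lit 1070483,nat_lit 104106,nat_lit 278251,nat_lit 1828207,nat_lit 110614,nat_lit 82876,nat_lit 1328560,nat_lit 129455,nat_lit 365804,nat_lit 1134912,nat_lit 356028,nat_lit 275348,nat_lit 1784517,nat_lit 31850,nat_lit 1070137,nat_lit 108859,nat_lit 110149,nat_lit 437481,nat_lit 1120918,nat_lit 1131452,nat_lit 126979,nat_lit 26363,nat_lit 19539,nat_lit 4175,nat_lit 369861,nat_lit 430159,nat_lit 1219,nat_lit 5547,nat_lit 1371153,nat_lit 78224,nat_lit 87727,nat_lit 109542,nat_lit 375146,nat_lit 519963,nat_lit 1250291,nat_lit 1644,nat_lit 30998,nat_lit 454459,nat_lit 333028,nat_lit 7279,nat_lit 108966,nat_lit 7931,nat_lit 1140048,nat_lit 416320,nat_lit 110993,nat_lit 87039,nat_lit 263855,nat_lit 277502,nat_lit 328683,nat_lit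 70725,nat_lit 332211,nat_lit 284250,nat_lit 85998,nat_lit 7246,nat_lit 27204,nat_lit 109561,nat_lit 498666,nat_lit 1502123,nat_lit 1768527,nat_lit 464107,nat_lit 330995,nat_lit 69654,nat_lit 372816,nat_lit 262412,nat_lit 104003,nat_lit 17731,nat_lit 518726,nat_lit 442619,nat_lit 371770,nat_lit 1107028,nat_lit 69658,nat_lit 443758,nat_lit 1108624,nat_lit 106,nat_lit 116031,nat_lit 114362,nat_lit 282346,nat_lit 113337,nat_lit 328954,nat_lit 1066047,nat_lit 438593,nat_lit 1114534,nat_lit 2074937,nat_lit 436825,nat_lit 340209,nat_lit 127379,nat_lit 414976,nat_lit 263417,nat_lit 1112849,nat_lit 349887,nat_lit 290371,nat_lit 1109775,nat_lit 1050281,nat_lit 108238,nat_lit 17987,nat_lit 277604,nat_lit 102736,nat_lit 1070348,nat_lit 400,nat_lit 20412,nat_lit 1490607,nat_lit 289818,nat_lit 1064042,nat_lit 108203,nat_lit 1326777,nat_lit 453204,nat_lit 68708,nat_lit 25710,nat_lit 80657,nat_lit 442618,nat_lit 78764,nat_lit 517147,nat_lit 1413189,nat_lit 375535,nat_lit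 1684416,nat_lit 372820,nat_lit 70426,nat_lit 1643504,nat_lit 1742188,nat_lit 25841,nat_lit 113318,nat_lit 1070767,nat_lit 1070404,nat_lit 276753,nat_lit 323941,nat_lit 327998,nat_lit 27876,nat_lit 31146,nat_lit 69659,nat_lit 26929,nat_lit 311555,nat_lit 89083,nat_lit 1770692,nat_lit 1252158,nat_lit 284049,nat_lit 463897,nat_lit 17178,nat_lit 93094,nat_lit 2032384,nat_lit 1372416,nat_lit 77907,nat_lit 1137003,nat_lit 129297,nat_lit 87402,nat_lit 86106,nat_lit 17668,nat_lit 28243,nat_lit 1654555,nat_lit 1373120,nat_lit 6460,nat_lit 115605,nat_lit 322500,nat_lit 1294656,nat_lit 349627,nat_lit 263486,nat_lit 1458245,nat_lit 285690,nat_lit 71407,nat_lit 508217,nat_lit 411216,nat_lit 111515,nat_lit 351151,nat_lit 277441,nat_lit 82352,nat_lit 114458,nat_lit 458947,nat_lit 1971,nat_lit 289168,nat_lit 340246,nat_lit 4326,nat_lit 376806,nat_lit 442282,nat_lit 326764,nat_lit 312212,nat_lit 328972,nat_lit 4258395,nat_lit 18150,nat_lit 321196,nat_lit 72465,nat_lit 343728,nat_lit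 23466,nat_lit 23281,nat_lit 6506,nat_lit 82961,nat_lit 32741,nat_lit 1645553,nat_lit 332992,nat_lit 1260304,nat_lit 1283833,nat_lit 462447,nat_lit 344837,nat_lit 347907,nat_lit 21305,nat_lit 1390,nat_lit 27580,nat_lit 129361,nat_lit 20165,nat_lit 17833,nat_lit 71941,nat_lit 1773331,nat_lit 511593,nat_lit 265873,nat_lit 28563,nat_lit 83205,nat_lit 66986,nat_lit 282259,nat_lit 327873,nat_lit 1287406,nat_lit 345075,nat_lit 328618,nat_lit 282352,nat_lit 68629,nat_lit 104004,nat_lit 1770,nat_lit 266547,nat_lit 4531,nat_lit 30981,nat_lit 1158078,nat_lit 274543,nat_lit 334097,nat_lit 127281,nat_lit 457493,nat_lit 365988,nat_lit 350995,nat_lit 410003,nat_lit 1686629,nat_lit 112896,nat_lit 274673,nat_lit 419262,nat_lit 1643438,nat_lit 2080321,nat_lit 348595,nat_lit 1294619,nat_lit 459155,nat_lit 72627,nat_lit 1377200,nat_lit 65728,nat_lit 109659,nat_lit 436645,nat_lit 125926,nat_lit 340970,nat_lit 93104,nat_lit 65968,nat_lit 4419,nat_lit 28913,nat_lit 323,nat_lit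 1132211,nat_lit 1361003,nat_lit 496579,nat_lit 25670,nat_lit 475075,nat_lit 104811,nat_lit 281855,nat_lit 1156518,nat_lit 354576,nat_lit 108879,nat_lit 415419,nat_lit 1156521,nat_lit 1135611,nat_lit 80976,nat_lit 262255,nat_lit 6457,nat_lit 113603,nat_lit 372942,nat_lit 262249,nat_lit 473344,nat_lit 465494,nat_lit 290500,nat_lit 1463529,nat_lit 28864,nat_lit 17152,nat_lit 19537,nat_lit 1151422,nat_lit 421632,nat_lit 2019236,nat_lit 495950,nat_lit 334832,nat_lit 71313,nat_lit 262394,nat_lit 1055722,nat_lit 289083,nat_lit 66837,nat_lit 414971,nat_lit 28991,nat_lit 116399,nat_lit 66638,nat_lit 326054,nat_lit 1394324,nat_lit 277166,nat_lit 365332,nat_lit 282691,nat_lit 1109068,nat_lit 1055721,nat_lit 1066351,nat_lit 421871,nat_lit 1290516,nat_lit 31471,nat_lit 80561,nat_lit 32441,nat_lit 66800,nat_lit 89004,nat_lit 355907,nat_lit 25615,nat_lit 17665,nat_lit 369669,nat_lit 1163027,nat_lit 327766,nat_lit 67136,nat_lit 289028,nat_lit 71003,nat_lit 1261460,nat_lit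 279830,nat_lit 1304233,nat_lit 1049604,nat_lit 334740,nat_lit 1503145,nat_lit 1311802,nat_lit 1315158,nat_lit 1650940,nat_lit 1141051,nat_lit 17755,nat_lit 4210608,nat_lit 129713,nat_lit 1264,nat_lit 1418937,nat_lit 1136036,nat_lit 5120,nat_lit 109456,nat_lit 103189,nat_lit 344889,nat_lit 328619,nat_lit 350809,nat_lit 66838,nat_lit 1666815,nat_lit 68666,nat_lit 1391180,nat_lit 263923,nat_lit 81971,nat_lit 1489940,nat_lit 18113,nat_lit 443396,nat_lit 263876,nat_lit 312916,nat_lit 82835,nat_lit 66533,nat_lit 1332239,nat_lit 473745,nat_lit 1098693,nat_lit 87700,nat_lit 340026,nat_lit 103363,nat_lit 326890,nat_lit 82694,nat_lit 113306,nat_lit 263934,nat_lit 87748,nat_lit 1287183,nat_lit 114286,nat_lit 126891,nat_lit 1050362,nat_lit 349610,nat_lit 86334,nat_lit 1289898,nat_lit 5501840,nat_lit 20715,nat_lit 124668,nat_lit 1064602,nat_lit 495920,nat_lit 331884,nat_lit 23318,nat_lit 507994,nat_lit 29039,nat_lit 313071,nat_lit 7276,nat_lit 31802,nat_lit 326672,nat_lit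 287795,nat_lit 313068,nat_lit 1118298,nat_lit 284326,nat_lit 369862,nat_lit 1119247,nat_lit 23193,nat_lit 1250299,nat_lit 267610,nat_lit 115115,nat_lit 104021,nat_lit 1651025,nat_lit 2014828,nat_lit 1106971,nat_lit 1053461,nat_lit 333124,nat_lit 441088,nat_lit 1314031,nat_lit 414782,nat_lit 1419588,nat_lit 511983,nat_lit 82833,nat_lit 103769,nat_lit 324542,nat_lit 26180,nat_lit 1360825,nat_lit 290383,nat_lit 80538,nat_lit 1653050,nat_lit 1815450,nat_lit 455099,nat_lit 1503337,nat_lit 412910,nat_lit 1306704,nat_lit 21866,nat_lit 125508,nat_lit 107857,nat_lit 329446,nat_lit 103707,nat_lit 109551,nat_lit 1114539,nat_lit 1142351,nat_lit 7791,nat_lit 1461909,nat_lit 1312004,nat_lit 31803,nat_lit 19475,nat_lit 4303873,nat_lit 454885,nat_lit 113006,nat_lit 1052335,nat_lit 129366,nat_lit 356159,nat_lit 103695,nat_lit 66798,nat_lit 312917,nat_lit 1288469,nat_lit 26367,nat_lit 1776560,nat_lit 1055508,nat_lit 282355,nat_lit 114342,nat_lit 1065070,nat_lit 323695,nat_lit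 27408,nat_lit 326676,nat_lit 1772,nat_lit 1052607,nat_lit 1061882,nat_lit 31998,nat_lit 118417,nat_lit 126038,nat_lit 443157,nat_lit 262380,nat_lit 1310981,nat_lit 326656,nat_lit 326225,nat_lit 83601,nat_lit 67004,nat_lit 107859,nat_lit 1421254,nat_lit 93168,nat_lit 27327,nat_lit 438577,nat_lit 4483353,nat_lit 115972,nat_lit 1163204,nat_lit 71257,nat_lit 114435,nat_lit 4472918,nat_lit 314950,nat_lit 1831315,nat_lit 85572,nat_lit 69692,nat_lit 1115203,nat_lit 71059,nat_lit 340398,nat_lit 262395,nat_lit 353380,nat_lit 25648,nat_lit 16726,nat_lit 265982,nat_lit 1479076,nat_lit 322624,nat_lit 8176,nat_lit 23184,nat_lit 278185,nat_lit 26949,nat_lit 438339,nat_lit 436816,nat_lit 421094,nat_lit 274515,nat_lit 1163007,nat_lit 506299]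
def orb1 : List Nat := [nat_lit 1060974,nat_lit 1374811,nat_lit 415420,nat_lit 435904,nat_lit 340928,nat_lit 125612,nat_lit 274437,nat_lit 31377,nat_lit 1135555,nat_lit 436806,nat_lit 1101456,nat_lit 1661200,nat_lit 279494,nat_lit 328985,nat_lit 369755,nat_lit 124571,nat_lit 17489,nat_lit 71246,nat_lit 326910,nat_lit 124137,nat_lit 511740,nat_lit 462511,nat_lit 1065980,nat_lit 328982,nat_lit 27881,nat_lit 5350,nat_lit 345350,nat_lit 311355,nat_lit 413359,nat_lit 80531,nat_lit 328623,nat_lit 350972,nat_lit 105135,nat_lit 500974,nat_lit 501324,nat_lit 452337,nat_lit 1330188,nat_lit 20847,nat_lit 459718,nat_lit 502020,nat_lit 116054,nat_lit 373100,nat_lit 284985,nat_lit 315,nat_lit 1289137,nat_lit 1246895,nat_lit 27052,nat_lit 125925,nat_lit 334821,nat_lit 92782,nat_lit 1295,nat_lit 278420,nat_lit 114714,nat_lit 31024,nat_lit 71987,nat_lit 26198,nat_lit 503545,nat_lit 102832,nat_lit 1723627,nat_lit 411308,nat_lit 437004,nat_lit 1115727,nat_lit 349203,nat_lit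 1814102,nat_lit 517797,nat_lit 345107,nat_lit 328645,nat_lit 369988,nat_lit 21946,nat_lit 1294617,nat_lit 32446,nat_lit 1420911,nat_lit 1812793,nat_lit 1852734,nat_lit 72037,nat_lit 108906,nat_lit 1506240,nat_lit 371449,nat_lit 103169,nat_lit 1388652,nat_lit 124154,nat_lit 502449,nat_lit 262208,nat_lit 441285,nat_lit 27025,nat_lit 103663,nat_lit 131054,nat_lit 83178,nat_lit 1741766,nat_lit 66564,nat_lit 17157,nat_lit 80894,nat_lit 92437,nat_lit 503829,nat_lit 6884,nat_lit 1126421,nat_lit 364559,nat_lit 1328,nat_lit 276741,nat_lit 523313,nat_lit 1317785,nat_lit 65966,nat_lit 322362,nat_lit 65962,nat_lit 1306284,nat_lit 365566,nat_lit 1305168,nat_lit 27236,nat_lit 1284371,nat_lit 17712,nat_lit 503475,nat_lit 283024,nat_lit 102464,nat_lit 82702,nat_lit 344426,nat_lit 28608,nat_lit 333376,nat_lit 80790,nat_lit 19535,nat_lit 81941,nat_lit 114673,nat_lit 410817,nat_lit 19684,nat_lit 69199,nat_lit 114778,nat_lit 17519,nat_lit 92475,nat_lit 262572,nat_lit 70742,nat_lit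 69866,nat_lit 66993,nat_lit 328724,nat_lit 109489,nat_lit 1375313,nat_lit 349786,nat_lit 283028,nat_lit 496549,nat_lit 1063936,nat_lit 1725883,nat_lit 324586,nat_lit 1337626,nat_lit 102425,nat_lit 331449,nat_lit 5121,nat_lit 1332138,nat_lit 113902,nat_lit 442561,nat_lit 126540,nat_lit 2069417,nat_lit 20905,nat_lit 342420,nat_lit 323493,nat_lit 83259,nat_lit 269039,nat_lit 67265,nat_lit 1752859,nat_lit 1458523,nat_lit 65807,nat_lit 69947,nat_lit 1676634,nat_lit 102715,nat_lit 311638,nat_lit 78789,nat_lit 495812,nat_lit 441071,nat_lit 443753,nat_lit 116019,nat_lit 350543,nat_lit 32409,nat_lit 364869,nat_lit 1651600,nat_lit 1127363,nat_lit 78827,nat_lit 28443,nat_lit 7108,nat_lit 413753,nat_lit 413456,nat_lit 1686,nat_lit 504725,nat_lit 80153,nat_lit 1136997,nat_lit 452179,nat_lit 16790,nat_lit 369681,nat_lit 27561,nat_lit 410031,nat_lit 1383375,nat_lit 1053744,nat_lit 5615514,nat_lit 506133,nat_lit 4364,nat_lit 67279,nat_lit 267504,nat_lit 282617,nat_lit 1399484,nat_lit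 127077,nat_lit 1055509,nat_lit 104767,nat_lit 1752783,nat_lit 369935,nat_lit 1130752,nat_lit 82837,nat_lit 125252,nat_lit 452926,nat_lit 348580,nat_lit 454926,nat_lit 22101,nat_lit 80806,nat_lit 413638,nat_lit 28437,nat_lit 288174,nat_lit 17604,nat_lit 322304,nat_lit 1142555,nat_lit 78076,nat_lit 409795,nat_lit 287745,nat_lit 462874,nat_lit 103825,nat_lit 1072,nat_lit 376468,nat_lit 1838769,nat_lit 280319,nat_lit 1288858,nat_lit 125932,nat_lit 1381733,nat_lit 284997,nat_lit 1653993,nat_lit 1393603,nat_lit 66511,nat_lit 328897,nat_lit 1107137,nat_lit 23107,nat_lit 277732,nat_lit 92476,nat_lit 349841,nat_lit 263929,nat_lit 326308,nat_lit 326396,nat_lit 282387,nat_lit 365497,nat_lit 279785,nat_lit 1294053,nat_lit 1101627,nat_lit 31044,nat_lit 365887,nat_lit 348607,nat_lit 1661525,nat_lit 91237,nat_lit 277503,nat_lit 1315173,nat_lit 332138,nat_lit 1115025,nat_lit 432398,nat_lit 130021,nat_lit 129775,nat_lit 86980,nat_lit 324500,nat_lit 1246512,nat_lit 118768,nat_lit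 127893,nat_lit 439232,nat_lit 27582,nat_lit 459580,nat_lit 1486867,nat_lit 416538,nat_lit 130832,nat_lit 4523,nat_lit 23189,nat_lit 92838,nat_lit 92495,nat_lit 412750,nat_lit 345169,nat_lit 1076291,nat_lit 1383423,nat_lit 416342,nat_lit 312569,nat_lit 1129241,nat_lit 107750,nat_lit 31396,nat_lit 6478,nat_lit 4539,nat_lit 313061,nat_lit 70763,nat_lit 314958,nat_lit 267569,nat_lit 1159492,nat_lit 413445,nat_lit 116291,nat_lit 1081,nat_lit 1065065,nat_lit 127923,nat_lit 4921,nat_lit 125930,nat_lit 25854,nat_lit 446223,nat_lit 320517,nat_lit 375125,nat_lit 81946,nat_lit 345083,nat_lit 1376238,nat_lit 1126426,nat_lit 109500,nat_lit 410884,nat_lit 17641,nat_lit 25919,nat_lit 267264,nat_lit 25617,nat_lit 331827,nat_lit 20417,nat_lit 70544,nat_lit 127919,nat_lit 349113,nat_lit 267625,nat_lit 332140,nat_lit 311628,nat_lit 78017,nat_lit 1754137,nat_lit 93979,nat_lit 114929,nat_lit 1161804,nat_lit 509199,nat_lit 104000,nat_lit 1383422,nat_lit 453296,nat_lit 340218,nat_lit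 71254,nat_lit 80238,nat_lit 92849,nat_lit 457982,nat_lit 111508,nat_lit 371801,nat_lit 321201,nat_lit 113680,nat_lit 1071465,nat_lit 311372,nat_lit 507539,nat_lit 71244,nat_lit 1323969,nat_lit 330835,nat_lit 332143,nat_lit 1303824,nat_lit 103659,nat_lit 1986329,nat_lit 88731,nat_lit 419180,nat_lit 1063589,nat_lit 326340,nat_lit 267628,nat_lit 371435,nat_lit 92442,nat_lit 72042,nat_lit 437243,nat_lit 69860,nat_lit 20542,nat_lit 7273,nat_lit 113748,nat_lit 28900,nat_lit 1813267,nat_lit 430849,nat_lit 1985558,nat_lit 332795,nat_lit 1083,nat_lit 334400,nat_lit 517132,nat_lit 124348,nat_lit 104108,nat_lit 1309391,nat_lit 80563,nat_lit 1333955,nat_lit 372315,nat_lit 1260559,nat_lit 473806,nat_lit 452883,nat_lit 283449,nat_lit 107540,nat_lit 77924,nat_lit 67,nat_lit 311573,nat_lit 1326314,nat_lit 365825,nat_lit 329146,nat_lit 326886,nat_lit 277222,nat_lit 1420389,nat_lit 430318,nat_lit 1076901,nat_lit 462586,nat_lit 265923,nat_lit 1309744,nat_lit 323599,nat_lit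 439236,nat_lit 1506074,nat_lit 462579,nat_lit 1894053,nat_lit 1642419,nat_lit 1328058,nat_lit 86273,nat_lit 320773,nat_lit 355919,nat_lit 452971,nat_lit 1052476,nat_lit 331684,nat_lit 326380,nat_lit 509348,nat_lit 506196,nat_lit 80804,nat_lit 1328875,nat_lit 1462073,nat_lit 312378,nat_lit 430334,nat_lit 17743,nat_lit 1159489,nat_lit 278170,nat_lit 29626,nat_lit 108225,nat_lit 457642,nat_lit 85049,nat_lit 1107011,nat_lit 353359,nat_lit 421868,nat_lit 81601,nat_lit 462524,nat_lit 320942,nat_lit 345766,nat_lit 334501,nat_lit 116452,nat_lit 118451,nat_lit 32321,nat_lit 345327,nat_lit 263407,nat_lit 1822700,nat_lit 1333952,nat_lit 1776234,nat_lit 365882,nat_lit 343151,nat_lit 28929,nat_lit 455571,nat_lit 1742543,nat_lit 1424977,nat_lit 17177,nat_lit 5374,nat_lit 412678,nat_lit 321851,nat_lit 72441,nat_lit 410046,nat_lit 130299,nat_lit 421657,nat_lit 1481044,nat_lit 375145,nat_lit 333401,nat_lit 1120836,nat_lit 70586,nat_lit 349422,nat_lit 444079,nat_lit 80196,nat_lit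 267546,nat_lit 87638,nat_lit 274668,nat_lit 20073,nat_lit 282,nat_lit 327579,nat_lit 114576,nat_lit 93953,nat_lit 1814193,nat_lit 70564,nat_lit 353301,nat_lit 520089,nat_lit 1260794,nat_lit 81839,nat_lit 1501841,nat_lit 115823,nat_lit 20068,nat_lit 1156849,nat_lit 83034,nat_lit 419134,nat_lit 88657,nat_lit 92945,nat_lit 27332,nat_lit 124480,nat_lit 322118,nat_lit 78140,nat_lit 69937,nat_lit 1250213,nat_lit 342843,nat_lit 5224726,nat_lit 111505,nat_lit 5697,nat_lit 102468,nat_lit 80529,nat_lit 1048942,nat_lit 1895674,nat_lit 342462,nat_lit 1066650,nat_lit 266473,nat_lit 1314475,nat_lit 69889,nat_lit 1098726,nat_lit 4350,nat_lit 1113094,nat_lit 1288527,nat_lit 71321,nat_lit 267162,nat_lit 2095722,nat_lit 1134252,nat_lit 85062,nat_lit 104123,nat_lit 126884,nat_lit 1507044,nat_lit 1690,nat_lit 446400,nat_lit 108097,nat_lit 85243,nat_lit 25963,nat_lit 321168,nat_lit 475028,nat_lit 441020,nat_lit 1641493,nat_lit 2004069,nat_lit 517231,nat_lit 27417,nat_lit 71315,nat_lit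 355904,nat_lit 17829,nat_lit 453187,nat_lit 508160,nat_lit 458415,nat_lit 312342,nat_lit 366251,nat_lit 20046,nat_lit 1053779,nat_lit 414796,nat_lit 416080,nat_lit 322650,nat_lit 452928,nat_lit 331715,nat_lit 80788,nat_lit 103728,nat_lit 4202,nat_lit 285456,nat_lit 71355,nat_lit 350540,nat_lit 23486,nat_lit 72272,nat_lit 19524,nat_lit 433135,nat_lit 1119994,nat_lit 89082,nat_lit 268620,nat_lit 85967,nat_lit 409850,nat_lit 274757,nat_lit 1249615,nat_lit 457728,nat_lit 506222,nat_lit 441066,nat_lit 409625,nat_lit 4890,nat_lit 345136,nat_lit 31983,nat_lit 1506287,nat_lit 456977,nat_lit 130833,nat_lit 31488,nat_lit 129957,nat_lit 345338,nat_lit 284009,nat_lit 369932,nat_lit 312560,nat_lit 267258,nat_lit 1809147,nat_lit 1288449,nat_lit 459973,nat_lit 91408,nat_lit 463942,nat_lit 23104,nat_lit 1048892,nat_lit 25614,nat_lit 1107625,nat_lit 1282410,nat_lit 1342,nat_lit 83692,nat_lit 1424492,nat_lit 1052991,nat_lit 326318,nat_lit 88643,nat_lit 81855,nat_lit 1246917,nat_lit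 349241,nat_lit 66544,nat_lit 446220,nat_lit 116396,nat_lit 412758,nat_lit 115129,nat_lit 365846,nat_lit 464070,nat_lit 20473,nat_lit 21248,nat_lit 81003,nat_lit 5830,nat_lit 439238,nat_lit 91137,nat_lit 1151315,nat_lit 322214,nat_lit 285455,nat_lit 104006,nat_lit 279441,nat_lit 28330,nat_lit 113317,nat_lit 1363771,nat_lit 1642063,nat_lit 312255,nat_lit 284249,nat_lit 78259,nat_lit 287803,nat_lit 93082,nat_lit 1249520,nat_lit 1141013,nat_lit 87804,nat_lit 322794,nat_lit 355419,nat_lit 452267,nat_lit 343043,nat_lit 1048847,nat_lit 1052693,nat_lit 115483,nat_lit 71232,nat_lit 69317,nat_lit 1070485,nat_lit 1282371,nat_lit 451951,nat_lit 289358,nat_lit 327247,nat_lit 71375,nat_lit 103194,nat_lit 327742,nat_lit 266245,nat_lit 70406,nat_lit 498277,nat_lit 78757,nat_lit 1132239,nat_lit 334481,nat_lit 332867,nat_lit 326414,nat_lit 26886,nat_lit 453265,nat_lit 19556,nat_lit 1076891,nat_lit 1329,nat_lit 262547,nat_lit 66538,nat_lit 1295417,nat_lit 1394383,nat_lit 87745,nat_lit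 104026,nat_lit 1134521,nat_lit 409861,nat_lit 323988,nat_lit 25932,nat_lit 113331,nat_lit 4881,nat_lit 87696,nat_lit 278116,nat_lit 80876,nat_lit 125973,nat_lit 331409,nat_lit 420181,nat_lit 17649,nat_lit 312634,nat_lit 453203,nat_lit 127985,nat_lit 66367,nat_lit 349167,nat_lit 1721536,nat_lit 114943,nat_lit 66842,nat_lit 72613,nat_lit 431505,nat_lit 430187,nat_lit 71061,nat_lit 410623,nat_lit 82179,nat_lit 1332203,nat_lit 1749252,nat_lit 1162926,nat_lit 31765,nat_lit 107589,nat_lit 315027,nat_lit 354896,nat_lit 441939,nat_lit 27289,nat_lit 421803,nat_lit 87697,nat_lit 116372,nat_lit 1065754,nat_lit 1152105,nat_lit 375441,nat_lit 1486949,nat_lit 332181,nat_lit 517190,nat_lit 5585509,nat_lit 4436926,nat_lit 1503237,nat_lit 452325,nat_lit 354924,nat_lit 16636,nat_lit 4453,nat_lit 1249022,nat_lit 1773974,nat_lit 498256,nat_lit 81968,nat_lit 113393,nat_lit 497969,nat_lit 311728,nat_lit 430150,nat_lit 268645,nat_lit 452303,nat_lit 1292885,nat_lit 290788,nat_lit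 29036,nat_lit 83280,nat_lit 69318,nat_lit 20223,nat_lit 27547,nat_lit 68670,nat_lit 1311820,nat_lit 1388879,nat_lit 93158,nat_lit 20799,nat_lit 1444,nat_lit 118449,nat_lit 1463532,nat_lit 282682,nat_lit 20763,nat_lit 442284,nat_lit 27375,nat_lit 1338022,nat_lit 268950,nat_lit 87723,nat_lit 282646,nat_lit 17515,nat_lit 1762730,nat_lit 22841,nat_lit 326724,nat_lit 1294309,nat_lit 86042,nat_lit 27598,nat_lit 1282300,nat_lit 1114197,nat_lit 263430,nat_lit 274853,nat_lit 1840569,nat_lit 80656,nat_lit 102500,nat_lit 1119333,nat_lit 27712,nat_lit 350522,nat_lit 290475,nat_lit 1643926,nat_lit 1099185,nat_lit 1360837,nat_lit 280230,nat_lit 440633,nat_lit 268996,nat_lit 267588,nat_lit 322238,nat_lit 86266,nat_lit 413967,nat_lit 454550,nat_lit 451948,nat_lit 21308,nat_lit 1119652,nat_lit 26351,nat_lit 1129232,nat_lit 431034,nat_lit 373753,nat_lit 31403,nat_lit 80532,nat_lit 331774,nat_lit 1653017,nat_lit 114963,nat_lit 129963,nat_lit 1112469,nat_lit 87146,nat_lit 23236,nat_lit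 1048858,nat_lit 453617,nat_lit 80964,nat_lit 82964,nat_lit 127169,nat_lit 27584,nat_lit 437163,nat_lit 280243,nat_lit 18175,nat_lit 442709,nat_lit 83214,nat_lit 342383,nat_lit 66821,nat_lit 323667,nat_lit 432384,nat_lit 17414,nat_lit 123910,nat_lit 1098062,nat_lit 21850,nat_lit 103312,nat_lit 25651,nat_lit 129715,nat_lit 328641,nat_lit 267684,nat_lit 67321,nat_lit 1729595,nat_lit 1459526,nat_lit 21526,nat_lit 440577,nat_lit 446414,nat_lit 313039,nat_lit 463844,nat_lit 435945,nat_lit 312598,nat_lit 1328401,nat_lit 453865,nat_lit 330752,nat_lit 1297,nat_lit 115690,nat_lit 288012,nat_lit 1052348,nat_lit 109555,nat_lit 1130767,nat_lit 421801,nat_lit 437337,nat_lit 440724,nat_lit 1855438,nat_lit 473676,nat_lit 290409,nat_lit 114369,nat_lit 79,nat_lit 27568,nat_lit 1130822,nat_lit 283587,nat_lit 81638,nat_lit 127406,nat_lit 409966,nat_lit 124496,nat_lit 20137,nat_lit 2031,nat_lit 108976,nat_lit 1399781,nat_lit 5002254,nat_lit 1394428,nat_lit 1068778,nat_lit 279812,nat_lit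 279745,nat_lit 127244,nat_lit 1134190,nat_lit 86124,nat_lit 473392,nat_lit 1323972,nat_lit 81914,nat_lit 8111,nat_lit 7406,nat_lit 1754340,nat_lit 328963,nat_lit 267283,nat_lit 87150,nat_lit 31003,nat_lit 80273,nat_lit 265796,nat_lit 1159409,nat_lit 1282309,nat_lit 285503,nat_lit 108878,nat_lit 6934,nat_lit 5139,nat_lit 1749356,nat_lit 1251596,nat_lit 312256,nat_lit 443482,nat_lit 22787,nat_lit 275455,nat_lit 85958,nat_lit 327770,nat_lit 31297,nat_lit 263067,nat_lit 521153,nat_lit 1076942,nat_lit 78737,nat_lit 110148,nat_lit 1312346,nat_lit 31729,nat_lit 344369,nat_lit 290704,nat_lit 88764,nat_lit 1309609,nat_lit 474049,nat_lit 266495,nat_lit 453403,nat_lit 430907,nat_lit 311381,nat_lit 86790,nat_lit 350896,nat_lit 284394,nat_lit 116302,nat_lit 289599,nat_lit 1132203,nat_lit 283734,nat_lit 414003,nat_lit 5700,nat_lit 86276,nat_lit 16817,nat_lit 315321,nat_lit 1328721,nat_lit 1131627,nat_lit 5320943,nat_lit 320873,nat_lit 68633,nat_lit 365892,nat_lit 18153,nat_lit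 69998,nat_lit 376475,nat_lit 1985555,nat_lit 22846,nat_lit 4379,nat_lit 276902,nat_lit 1061801,nat_lit 72619,nat_lit 4281424,nat_lit 4456336,nat_lit 86083,nat_lit 420614,nat_lit 66883,nat_lit 2095443,nat_lit 465580,nat_lit 278853,nat_lit 115973,nat_lit 266510,nat_lit 1141696,nat_lit 321856,nat_lit 26179,nat_lit 17299,nat_lit 342416,nat_lit 355313,nat_lit 66812,nat_lit 473873,nat_lit 5035,nat_lit 1252336,nat_lit 92521,nat_lit 343830,nat_lit 278593,nat_lit 267670,nat_lit 26897,nat_lit 342419,nat_lit 1077049,nat_lit 125675,nat_lit 1463301,nat_lit 1507134,nat_lit 415155,nat_lit 105361,nat_lit 345424,nat_lit 349275,nat_lit 443455,nat_lit 1315929,nat_lit 509612,nat_lit 523497,nat_lit 331833,nat_lit 19516,nat_lit 281843,nat_lit 32325,nat_lit 7171,nat_lit 473429,nat_lit 421817,nat_lit 275355,nat_lit 1388654,nat_lit 69893,nat_lit 27342,nat_lit 1812202,nat_lit 375056,nat_lit 81582,nat_lit 435961,nat_lit 343024,nat_lit 129985,nat_lit 1479439,nat_lit 1479739,nat_lit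 23493,nat_lit 1070361,nat_lit 127237,nat_lit 80204,nat_lit 355412,nat_lit 92907,nat_lit 28356,nat_lit 109134,nat_lit 320705,nat_lit 268624,nat_lit 110587,nat_lit 4165,nat_lit 350532,nat_lit 27027,nat_lit 87738,nat_lit 465584,nat_lit 108218,nat_lit 1054396,nat_lit 1377345,nat_lit 110286,nat_lit 78766,nat_lit 1260350,nat_lit 26181,nat_lit 497066,nat_lit 1290154,nat_lit 324010,nat_lit 125354,nat_lit 1069121,nat_lit 1639226,nat_lit 1314922,nat_lit 342441,nat_lit 70737,nat_lit 431764,nat_lit 1291178,nat_lit 1130902,nat_lit 263866,nat_lit 21552,nat_lit 86789,nat_lit 373179,nat_lit 129988,nat_lit 80229,nat_lit 1099028,nat_lit 1063995,nat_lit 1070129,nat_lit 279555,nat_lit 364629,nat_lit 2046704,nat_lit 371771,nat_lit 413348,nat_lit 84997,nat_lit 1068699,nat_lit 91461,nat_lit 364773,nat_lit 1053802,nat_lit 328123,nat_lit 69701,nat_lit 1141775,nat_lit 431428,nat_lit 274435,nat_lit 1689,nat_lit 413710,nat_lit 103195,nat_lit 93803,nat_lit 82197,nat_lit 127929,nat_lit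 1049862,nat_lit 69326,nat_lit 108185,nat_lit 364612,nat_lit 370067,nat_lit 443443,nat_lit 104187,nat_lit 1114203,nat_lit 69294,nat_lit 31484,nat_lit 107580,nat_lit 81492,nat_lit 459067,nat_lit 349083,nat_lit 116314,nat_lit 82852,nat_lit 340966,nat_lit 365647,nat_lit 462609,nat_lit 110574,nat_lit 1282331,nat_lit 289424,nat_lit 16435,nat_lit 277231,nat_lit 78085,nat_lit 324012,nat_lit 7167,nat_lit 1061188,nat_lit 1655066,nat_lit 4987651,nat_lit 108858,nat_lit 415035,nat_lit 267372,nat_lit 266501,nat_lit 344172,nat_lit 283696,nat_lit 1259950,nat_lit 413606,nat_lit 103631,nat_lit 1162901,nat_lit 409689,nat_lit 114586,nat_lit 267520,nat_lit 1398451,nat_lit 1654501,nat_lit 86383,nat_lit 25662,nat_lit 289883,nat_lit 1360112,nat_lit 5446,nat_lit 289172,nat_lit 1121040,nat_lit 440627,nat_lit 110607,nat_lit 7195,nat_lit 1327382,nat_lit 522905,nat_lit 72442,nat_lit 465860,nat_lit 1260486,nat_lit 91541,nat_lit 518590,nat_lit 320939,nat_lit 109811,nat_lit 365504,nat_lit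 1126508,nat_lit 268987,nat_lit 31332,nat_lit 443727,nat_lit 1050201,nat_lit 413635,nat_lit 1458276,nat_lit 103846,nat_lit 274874,nat_lit 115055,nat_lit 430320,nat_lit 1338990,nat_lit 69196,nat_lit 1120833,nat_lit 278256,nat_lit 517171,nat_lit 80921,nat_lit 66559,nat_lit 31503,nat_lit 275347,nat_lit 274516,nat_lit 507545,nat_lit 22864,nat_lit 327595,nat_lit 17342,nat_lit 1253,nat_lit 431043,nat_lit 92879,nat_lit 495855,nat_lit 5392,nat_lit 431166,nat_lit 348138,nat_lit 1661507,nat_lit 1075798,nat_lit 511665,nat_lit 315377,nat_lit 495696,nat_lit 372505,nat_lit 1287365,nat_lit 1784431,nat_lit 410885,nat_lit 326681,nat_lit 21573,nat_lit 1418554,nat_lit 88849,nat_lit 312213,nat_lit 278543,nat_lit 289843,nat_lit 107967,nat_lit 125844,nat_lit 1375172,nat_lit 459862,nat_lit 108201,nat_lit 91158,nat_lit 419139,nat_lit 312398,nat_lit 312579,nat_lit 103398,nat_lit 1076906,nat_lit 356334,nat_lit 69681,nat_lit 1162011,nat_lit 5356,nat_lit 71091,nat_lit 8177,nat_lit 87125,nat_lit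 1463615,nat_lit 410603,nat_lit 418894,nat_lit 6820,nat_lit 431300,nat_lit 82993,nat_lit 6931,nat_lit 1048922,nat_lit 1770585,nat_lit 267545,nat_lit 371441,nat_lit 517178,nat_lit 72006,nat_lit 1315905,nat_lit 321210,nat_lit 495983,nat_lit 1162816,nat_lit 365572,nat_lit 321231,nat_lit 1404817,nat_lit 413973,nat_lit 81724,nat_lit 80643,nat_lit 372841,nat_lit 1141488,nat_lit 6427,nat_lit 1115813,nat_lit 1478932,nat_lit 103676,nat_lit 371452,nat_lit 332564,nat_lit 2036997,nat_lit 280305,nat_lit 103344,nat_lit 28590,nat_lit 285427,nat_lit 82181,nat_lit 127173,nat_lit 102501,nat_lit 278193,nat_lit 129283,nat_lit 69285,nat_lit 1307564,nat_lit 421443,nat_lit 88889,nat_lit 280240,nat_lit 364633,nat_lit 511654,nat_lit 311636,nat_lit 69206,nat_lit 18067,nat_lit 328705,nat_lit 27377,nat_lit 349775,nat_lit 27644,nat_lit 1315046,nat_lit 1249046,nat_lit 285360,nat_lit 20729,nat_lit 115131,nat_lit 1494961,nat_lit 26988,nat_lit 1064974,nat_lit 116368,nat_lit 66364,nat_lit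 69541,nat_lit 266255,nat_lit 70585,nat_lit 375532,nat_lit 332028,nat_lit 4463253,nat_lit 276884,nat_lit 1397765,nat_lit 1769,nat_lit 80293,nat_lit 1126762,nat_lit 262927,nat_lit 327878,nat_lit 1070131,nat_lit 452294,nat_lit 27883,nat_lit 1383420,nat_lit 1487194,nat_lit 2068713,nat_lit 430100,nat_lit 71374,nat_lit 1676563,nat_lit 1163029,nat_lit 1293376,nat_lit 1129028,nat_lit 355349,nat_lit 365312,nat_lit 65795,nat_lit 1658651,nat_lit 20459,nat_lit 365844,nat_lit 1337700,nat_lit 289598,nat_lit 312298,nat_lit 266681,nat_lit 290451,nat_lit 453211,nat_lit 416332,nat_lit 8121,nat_lit 1121276,nat_lit 517779,nat_lit 1986116,nat_lit 25855,nat_lit 81484,nat_lit 78736,nat_lit 1157476,nat_lit 320753,nat_lit 311380,nat_lit 1818197,nat_lit 31642,nat_lit 455077,nat_lit 22094,nat_lit 70,nat_lit 326650,nat_lit 8122,nat_lit 109329,nat_lit 113329,nat_lit 71081,nat_lit 1061285,nat_lit 282308,nat_lit 443493,nat_lit 1142585,nat_lit 320570,nat_lit 430437,nat_lit 68714,nat_lit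 109467,nat_lit 1380243,nat_lit 409658,nat_lit 127322,nat_lit 89068,nat_lit 350553,nat_lit 345324,nat_lit 432812,nat_lit 71356,nat_lit 81685,nat_lit 1765743,nat_lit 127066,nat_lit 70723,nat_lit 17348,nat_lit 109635,nat_lit 66907,nat_lit 1132220,nat_lit 112960,nat_lit 1413523,nat_lit 1656006,nat_lit 326649,nat_lit 118458,nat_lit 1074435,nat_lit 503722,nat_lit 371429,nat_lit 114597,nat_lit 518849,nat_lit 1776582,nat_lit 65841,nat_lit 1654864,nat_lit 502116,nat_lit 32539,nat_lit 26261,nat_lit 72644,nat_lit 1113750,nat_lit 1115236,nat_lit 519952,nat_lit 365760,nat_lit 460122,nat_lit 1374569,nat_lit 320959,nat_lit 108868,nat_lit 497921,nat_lit 118419,nat_lit 1248947,nat_lit 334513,nat_lit 124334,nat_lit 1486529,nat_lit 127418,nat_lit 437008,nat_lit 105217,nat_lit 113749,nat_lit 364565,nat_lit 17676,nat_lit 23215,nat_lit 1129,nat_lit 32332,nat_lit 348059,nat_lit 1380457,nat_lit 103420,nat_lit 1066009,nat_lit 1113,nat_lit 350787,nat_lit 4542,nat_lit 1294106,nat_lit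 8126,nat_lit 438195,nat_lit 125945,nat_lit 269294,nat_lit 65764,nat_lit 409924,nat_lit 110340,nat_lit 108261,nat_lit 28698,nat_lit 347215,nat_lit 269040,nat_lit 343792,nat_lit 25616,nat_lit 266256,nat_lit 331754,nat_lit 16826,nat_lit 418837,nat_lit 1119998,nat_lit 284990,nat_lit 329041,nat_lit 115003,nat_lit 21764,nat_lit 16634,nat_lit 26298,nat_lit 266222,nat_lit 83140,nat_lit 356156,nat_lit 20761,nat_lit 459582,nat_lit 1403994,nat_lit 6830,nat_lit 82364,nat_lit 102833,nat_lit 82252,nat_lit 86331,nat_lit 348400,nat_lit 283643,nat_lit 263219,nat_lit 22789,nat_lit 110929,nat_lit 274683,nat_lit 282905,nat_lit 333123,nat_lit 4144,nat_lit 7225,nat_lit 454970,nat_lit 1071935,nat_lit 260,nat_lit 25,nat_lit 113728,nat_lit 1369392,nat_lit 281664,nat_lit 315131,nat_lit 7761,nat_lit 345413,nat_lit 375615,nat_lit 326564,nat_lit 283046,nat_lit 326652,nat_lit 67267,nat_lit 282862,nat_lit 282425,nat_lit 263105,nat_lit 1311994,nat_lit 411219,nat_lit 282708,nat_lit 92483,nat_lit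 80572,nat_lit 83374,nat_lit 102820,nat_lit 21502,nat_lit 28339,nat_lit 1770405,nat_lit 1988,nat_lit 278895,nat_lit 87129,nat_lit 277275,nat_lit 1294031,nat_lit 1070145,nat_lit 1838191,nat_lit 1766308,nat_lit 82172,nat_lit 1109231,nat_lit 81894,nat_lit 453616,nat_lit 504828,nat_lit 1249018,nat_lit 124,nat_lit 69633,nat_lit 115050,nat_lit 5434,nat_lit 1711,nat_lit 31066,nat_lit 32463,nat_lit 69948,nat_lit 1392868,nat_lit 82947,nat_lit 4430,nat_lit 285349,nat_lit 88804,nat_lit 1052692,nat_lit 115654,nat_lit 27331,nat_lit 442373,nat_lit 332693,nat_lit 267365,nat_lit 333242,nat_lit 124563,nat_lit 126017,nat_lit 4164,nat_lit 107541,nat_lit 91540,nat_lit 312640,nat_lit 1066665,nat_lit 507980,nat_lit 285348,nat_lit 287766,nat_lit 495897,nat_lit 284238,nat_lit 328709,nat_lit 1317860,nat_lit 1642899,nat_lit 114796,nat_lit 322501,nat_lit 410859,nat_lit 83290,nat_lit 520526,nat_lit 372827,nat_lit 413774,nat_lit 72464,nat_lit 125902,nat_lit 364901,nat_lit 312091,nat_lit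 312550,nat_lit 81648,nat_lit 1063599,nat_lit 418892,nat_lit 283580,nat_lit 87446,nat_lit 421092,nat_lit 1063494,nat_lit 267534,nat_lit 109162,nat_lit 409678,nat_lit 327375,nat_lit 460485,nat_lit 1373102,nat_lit 437925,nat_lit 1065755,nat_lit 518400,nat_lit 1300,nat_lit 124346,nat_lit 312899,nat_lit 1982869,nat_lit 1819557,nat_lit 16815,nat_lit 66906,nat_lit 81862,nat_lit 503706,nat_lit 18073,nat_lit 1069284,nat_lit 1809344,nat_lit 28697,nat_lit 27649,nat_lit 282892,nat_lit 114737,nat_lit 440646,nat_lit 103856,nat_lit 459685,nat_lit 88684,nat_lit 328678,nat_lit 326415,nat_lit 22208,nat_lit 26943,nat_lit 1061270,nat_lit 278890,nat_lit 93781,nat_lit 16612,nat_lit 1403818,nat_lit 1074383,nat_lit 416708,nat_lit 313084,nat_lit 430337,nat_lit 5168,nat_lit 1371,nat_lit 279579,nat_lit 342788,nat_lit 25861,nat_lit 343705,nat_lit 267340,nat_lit 78842,nat_lit 373161,nat_lit 1369840,nat_lit 113305,nat_lit 17614,nat_lit 92851,nat_lit 31546,nat_lit 333059,nat_lit 1100,nat_lit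 66966,nat_lit 1683460,nat_lit 81494,nat_lit 7056,nat_lit 267493,nat_lit 415300,nat_lit 268997,nat_lit 1049792,nat_lit 1764,nat_lit 107852,nat_lit 67006,nat_lit 522572,nat_lit 415296,nat_lit 1414721,nat_lit 263078,nat_lit 29115,nat_lit 312667,nat_lit 4442,nat_lit 78190,nat_lit 523963,nat_lit 312383,nat_lit 85587,nat_lit 4496,nat_lit 83370,nat_lit 332688,nat_lit 324606,nat_lit 126022,nat_lit 131045,nat_lit 66867,nat_lit 129430,nat_lit 28476,nat_lit 1159119,nat_lit 1942,nat_lit 1337920,nat_lit 1982,nat_lit 125950,nat_lit 1659921,nat_lit 443312,nat_lit 17690,nat_lit 124145,nat_lit 113081,nat_lit 430419,nat_lit 1404666,nat_lit 1115738,nat_lit 435860,nat_lit 91162,nat_lit 113665,nat_lit 130812,nat_lit 281603,nat_lit 108815,nat_lit 20559,nat_lit 1288511,nat_lit 452186,nat_lit 20143,nat_lit 69299,nat_lit 7873,nat_lit 509609,nat_lit 324550,nat_lit 1049829,nat_lit 521214,nat_lit 1753449,nat_lit 321940,nat_lit 1838188,nat_lit 112980,nat_lit 80982,nat_lit 88346,nat_lit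 1130,nat_lit 1114,nat_lit 22847,nat_lit 1331,nat_lit 420886,nat_lit 21615,nat_lit 1157907,nat_lit 452974,nat_lit 453285,nat_lit 1394095,nat_lit 27903,nat_lit 70401,nat_lit 114432,nat_lit 327334,nat_lit 324009,nat_lit 435441,nat_lit 413797,nat_lit 1156523,nat_lit 125254,nat_lit 276796,nat_lit 350575,nat_lit 70736,nat_lit 5483185,nat_lit 459520,nat_lit 1369520,nat_lit 86417,nat_lit 416012,nat_lit 375045,nat_lit 421870,nat_lit 126529,nat_lit 1063996,nat_lit 329132,nat_lit 349417,nat_lit 113073,nat_lit 1248954,nat_lit 332019,nat_lit 7422,nat_lit 1895338,nat_lit 364878,nat_lit 1152049,nat_lit 110571,nat_lit 455098,nat_lit 1120838,nat_lit 83033,nat_lit 267587,nat_lit 1310611,nat_lit 4457817,nat_lit 412672,nat_lit 459699,nat_lit 1372421,nat_lit 355059,nat_lit 127215,nat_lit 114660,nat_lit 283393,nat_lit 442129,nat_lit 1119246,nat_lit 343870,nat_lit 314981,nat_lit 1676211,nat_lit 72622,nat_lit 269226,nat_lit 5817,nat_lit 25857,nat_lit 1814288,nat_lit 452330,nat_lit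 78138,nat_lit 266675,nat_lit 1425129,nat_lit 413715,nat_lit 1283518,nat_lit 416463,nat_lit 1601,nat_lit 284931,nat_lit 491,nat_lit 85244,nat_lit 108267,nat_lit 16721,nat_lit 285285,nat_lit 114383,nat_lit 463809,nat_lit 463886,nat_lit 1838784,nat_lit 333390,nat_lit 1126766,nat_lit 497393,nat_lit 69953,nat_lit 72638,nat_lit 1130753,nat_lit 320740,nat_lit 22884,nat_lit 266558,nat_lit 25657,nat_lit 322636,nat_lit 287937,nat_lit 78084,nat_lit 110227,nat_lit 5872,nat_lit 2047756,nat_lit 65643,nat_lit 77889,nat_lit 1151052,nat_lit 70414,nat_lit 1141822,nat_lit 1249041,nat_lit 21306,nat_lit 504036,nat_lit 1370798,nat_lit 4368,nat_lit 70672,nat_lit 5001188,nat_lit 70657,nat_lit 113424,nat_lit 263932,nat_lit 509530,nat_lit 17380,nat_lit 268650,nat_lit 16691,nat_lit 345855,nat_lit 1141990,nat_lit 65862,nat_lit 322495,nat_lit 4458,nat_lit 78832,nat_lit 277225,nat_lit 25793,nat_lit 523882,nat_lit 1375470,nat_lit 323907,nat_lit 1052723,nat_lit 72385,nat_lit 1260211,nat_lit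 285631,nat_lit 78762,nat_lit 118339,nat_lit 94009,nat_lit 109564,nat_lit 130303,nat_lit 287804,nat_lit 70403,nat_lit 282426,nat_lit 20420,nat_lit 365318,nat_lit 376469,nat_lit 411388,nat_lit 461840,nat_lit 26027,nat_lit 16641,nat_lit 1380591,nat_lit 88332,nat_lit 1392963,nat_lit 459775,nat_lit 413957,nat_lit 21260,nat_lit 17605,nat_lit 1317651,nat_lit 25660,nat_lit 278844,nat_lit 31465,nat_lit 451610,nat_lit 127381,nat_lit 83052,nat_lit 1250564,nat_lit 282380,nat_lit 440986,nat_lit 1850137,nat_lit 31770,nat_lit 66892,nat_lit 5779,nat_lit 1040,nat_lit 70862,nat_lit 4296987,nat_lit 7161,nat_lit 376470,nat_lit 416003,nat_lit 1052351,nat_lit 109295,nat_lit 4334,nat_lit 331982,nat_lit 4429062,nat_lit 340196,nat_lit 375108,nat_lit 72618,nat_lit 458410,nat_lit 69286,nat_lit 289685,nat_lit 281849,nat_lit 446382,nat_lit 289862,nat_lit 5883,nat_lit 1066225,nat_lit 457449,nat_lit 267194,nat_lit 1722,nat_lit 431822,nat_lit 32405,nat_lit 347795,nat_lit 131055,nat_lit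 70427,nat_lit 1069028,nat_lit 321792,nat_lit 26302,nat_lit 16703,nat_lit 1118126,nat_lit 504170,nat_lit 66502,nat_lit 420922,nat_lit 102420,nat_lit 369712,nat_lit 72378,nat_lit 1381358,nat_lit 109299,nat_lit 1052337,nat_lit 1121168,nat_lit 125867,nat_lit 20910,nat_lit 498667,nat_lit 497222,nat_lit 66325,nat_lit 496641,nat_lit 109632,nat_lit 1130773,nat_lit 108806,nat_lit 449,nat_lit 438278,nat_lit 1340,nat_lit 331344,nat_lit 371797,nat_lit 20244,nat_lit 114620,nat_lit 7999,nat_lit 94015,nat_lit 20390,nat_lit 66833,nat_lit 1637,nat_lit 104780,nat_lit 5381,nat_lit 421574,nat_lit 451839,nat_lit 375572,nat_lit 80553,nat_lit 263082,nat_lit 4221935,nat_lit 465834,nat_lit 285292,nat_lit 459791,nat_lit 109204,nat_lit 1946,nat_lit 110191,nat_lit 27738,nat_lit 21838,nat_lit 1464640,nat_lit 82883,nat_lit 17491,nat_lit 1425,nat_lit 20561,nat_lit 267289,nat_lit 108283,nat_lit 1084,nat_lit 460006,nat_lit 290620,nat_lit 365502,nat_lit 314947,nat_lit 282556,nat_lit 421884,nat_lit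 263183,nat_lit 500801,nat_lit 19482,nat_lit 125846,nat_lit 1071468,nat_lit 80662,nat_lit 85658,nat_lit 348250,nat_lit 431440,nat_lit 115632,nat_lit 4181,nat_lit 93268,nat_lit 78227,nat_lit 1099006,nat_lit 364974,nat_lit 462522,nat_lit 1049022,nat_lit 29007,nat_lit 91227,nat_lit 1317786,nat_lit 364622,nat_lit 81860,nat_lit 268606,nat_lit 410628,nat_lit 87620,nat_lit 127025,nat_lit 333035,nat_lit 70057,nat_lit 1156161,nat_lit 430096,nat_lit 334161,nat_lit 518896,nat_lit 332607,nat_lit 274539,nat_lit 5145,nat_lit 1420996,nat_lit 17305,nat_lit 67270,nat_lit 72380,nat_lit 1465001,nat_lit 463876,nat_lit 1653657,nat_lit 355249,nat_lit 7216,nat_lit 1070356,nat_lit 267971,nat_lit 83226,nat_lit 1141755,nat_lit 350992,nat_lit 31808,nat_lit 1501968,nat_lit 1403669,nat_lit 369680,nat_lit 410534,nat_lit 350528,nat_lit 126948,nat_lit 1650939,nat_lit 1768517,nat_lit 420097,nat_lit 80638,nat_lit 72293,nat_lit 507983,nat_lit 27407,nat_lit 265281,nat_lit 443329,nat_lit 436804,nat_lit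 328788,nat_lit 1061056,nat_lit 32497,nat_lit 81836,nat_lit 327409,nat_lit 5388,nat_lit 108970,nat_lit 274714,nat_lit 372539,nat_lit 327418,nat_lit 118336,nat_lit 456982,nat_lit 460460,nat_lit 275439,nat_lit 65859,nat_lit 8175,nat_lit 1323278,nat_lit 107792,nat_lit 321941,nat_lit 109649,nat_lit 376602,nat_lit 82366,nat_lit 69531,nat_lit 413587,nat_lit 1158209,nat_lit 7228,nat_lit 129360,nat_lit 124111,nat_lit 1061839,nat_lit 7786,nat_lit 26260,nat_lit 279488,nat_lit 87724,nat_lit 88641,nat_lit 320538,nat_lit 414974,nat_lit 419236,nat_lit 443500,nat_lit 31002,nat_lit 446129,nat_lit 1298340,nat_lit 277569,nat_lit 315300,nat_lit 22191,nat_lit 350534,nat_lit 322670,nat_lit 266155,nat_lit 114789,nat_lit 312080,nat_lit 1162180,nat_lit 267257,nat_lit 1131569,nat_lit 452293,nat_lit 1500181,nat_lit 1507265,nat_lit 5147,nat_lit 323841,nat_lit 5873,nat_lit 1074499,nat_lit 1134787,nat_lit 413625,nat_lit 459024,nat_lit 369689,nat_lit 1087,nat_lit 108110,nat_lit 1141699,nat_lit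 1063600,nat_lit 1403995,nat_lit 17678,nat_lit 113600,nat_lit 1133796,nat_lit 278766,nat_lit 115029,nat_lit 511676,nat_lit 322502,nat_lit 7083,nat_lit 269054,nat_lit 1141818,nat_lit 83620,nat_lit 69966,nat_lit 446063,nat_lit 102804,nat_lit 463055,nat_lit 69520,nat_lit 340891,nat_lit 347841,nat_lit 110597,nat_lit 110661,nat_lit 460543,nat_lit 347897,nat_lit 347904,nat_lit 326548,nat_lit 313066,nat_lit 1615,nat_lit 431813,nat_lit 279781,nat_lit 1162234,nat_lit 5313,nat_lit 4883,nat_lit 69574,nat_lit 326720,nat_lit 65793,nat_lit 278465,nat_lit 263865,nat_lit 1136276,nat_lit 323582,nat_lit 453209,nat_lit 277498,nat_lit 78782,nat_lit 20198,nat_lit 1285036,nat_lit 345145,nat_lit 401,nat_lit 1489934,nat_lit 103171,nat_lit 70719,nat_lit 70863,nat_lit 265280,nat_lit 1791,nat_lit 28367,nat_lit 409862,nat_lit 282735,nat_lit 28995,nat_lit 80149,nat_lit 282965,nat_lit 78778,nat_lit 263253,nat_lit 67300,nat_lit 356287,nat_lit 92500,nat_lit 1380303,nat_lit 283577,nat_lit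 25937,nat_lit 127898,nat_lit 1260271,nat_lit 446265,nat_lit 1133574,nat_lit 114880,nat_lit 23194,nat_lit 375130,nat_lit 328646,nat_lit 20821,nat_lit 124307,nat_lit 1813082,nat_lit 1338105,nat_lit 85246,nat_lit 418895,nat_lit 454960,nat_lit 518449,nat_lit 4272384,nat_lit 113380,nat_lit 86009,nat_lit 265216,nat_lit 1158138,nat_lit 437958,nat_lit 1109102,nat_lit 93246,nat_lit 118462,nat_lit 31379,nat_lit 520080,nat_lit 129939,nat_lit 5040881,nat_lit 1246256,nat_lit 278894,nat_lit 1658618,nat_lit 93777,nat_lit 20501,nat_lit 126913,nat_lit 328761,nat_lit 326639,nat_lit 4356,nat_lit 17402,nat_lit 1372432,nat_lit 289877,nat_lit 17493,nat_lit 1462195,nat_lit 80463,nat_lit 6469,nat_lit 71956,nat_lit 289129,nat_lit 1136060,nat_lit 1314385,nat_lit 71998,nat_lit 454992,nat_lit 1768518,nat_lit 69307,nat_lit 419222,nat_lit 1492646,nat_lit 27321,nat_lit 31124,nat_lit 1070165,nat_lit 20208,nat_lit 457710,nat_lit 263423,nat_lit 1252,nat_lit 266150,nat_lit 2010095,nat_lit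 91136,nat_lit 263475,nat_lit 1642417,nat_lit 72467,nat_lit 1283014,nat_lit 1458224,nat_lit 66459,nat_lit 109678,nat_lit 69723,nat_lit 89060,nat_lit 87801,nat_lit 83388,nat_lit 87359,nat_lit 376518,nat_lit 68718,nat_lit 1294447,nat_lit 4651343,nat_lit 1137242,nat_lit 1290596,nat_lit 1287226,nat_lit 420417,nat_lit 1465284,nat_lit 113328,nat_lit 345667,nat_lit 1246460,nat_lit 311616,nat_lit 118500,nat_lit 267535,nat_lit 1069135,nat_lit 364864,nat_lit 108990,nat_lit 23130,nat_lit 344335,nat_lit 506302,nat_lit 502553,nat_lit 27322,nat_lit 81663,nat_lit 1129237,nat_lit 6400,nat_lit 5014,nat_lit 1654809,nat_lit 108979,nat_lit 455609,nat_lit 461903,nat_lit 1306606,nat_lit 5170491,nat_lit 332779,nat_lit 78059,nat_lit 1075903,nat_lit 1458453,nat_lit 435884,nat_lit 7756,nat_lit 1049856,nat_lit 333467,nat_lit 5241089,nat_lit 80814,nat_lit 88421,nat_lit 81134,nat_lit 2036078,nat_lit 116078,nat_lit 1337679,nat_lit 19504,nat_lit 474027,nat_lit 523852,nat_lit 327909,nat_lit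 129285,nat_lit 409701,nat_lit 459547,nat_lit 312089,nat_lit 409835,nat_lit 329414,nat_lit 285414,nat_lit 364965,nat_lit 420207,nat_lit 454933,nat_lit 4277526,nat_lit 86292,nat_lit 86954,nat_lit 1380,nat_lit 331365,nat_lit 345102,nat_lit 102507,nat_lit 27545,nat_lit 1134363,nat_lit 31404,nat_lit 69267,nat_lit 71253,nat_lit 1489971,nat_lit 279813,nat_lit 289386,nat_lit 1249594,nat_lit 290800,nat_lit 20369,nat_lit 67305,nat_lit 22798,nat_lit 373040,nat_lit 113774,nat_lit 334747,nat_lit 1327468,nat_lit 278785,nat_lit 431761,nat_lit 1050191,nat_lit 1361478,nat_lit 21924,nat_lit 1644864,nat_lit 76,nat_lit 102465,nat_lit 1134671,nat_lit 4303614,nat_lit 109328,nat_lit 278332,nat_lit 1137435,nat_lit 7230,nat_lit 72595,nat_lit 8164,nat_lit 473510,nat_lit 279547,nat_lit 275,nat_lit 1653313,nat_lit 279749,nat_lit 92473,nat_lit 349886,nat_lit 452250,nat_lit 87151,nat_lit 1076161,nat_lit 474901,nat_lit 7953,nat_lit 6404,nat_lit 330753,nat_lit 331470,nat_lit 1371795,nat_lit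 354577,nat_lit 86127,nat_lit 1419628,nat_lit 127376,nat_lit 334521,nat_lit 332201,nat_lit 263102,nat_lit 94150,nat_lit 1052993,nat_lit 72636,nat_lit 20803,nat_lit 1659919,nat_lit 125638,nat_lit 1463974,nat_lit 1303758,nat_lit 4428,nat_lit 328020,nat_lit 71347,nat_lit 1055321,nat_lit 16406,nat_lit 284236,nat_lit 414969,nat_lit 441452,nat_lit 27201,nat_lit 87795,nat_lit 333061,nat_lit 72371,nat_lit 332206,nat_lit 313030,nat_lit 1066213,nat_lit 283897,nat_lit 1077007,nat_lit 1126661,nat_lit 498284,nat_lit 458321,nat_lit 1069971,nat_lit 70565,nat_lit 1288938,nat_lit 94190,nat_lit 111,nat_lit 279872,nat_lit 321200,nat_lit 77841,nat_lit 125374,nat_lit 334822,nat_lit 1282389,nat_lit 345840,nat_lit 126021,nat_lit 87699,nat_lit 1463737,nat_lit 78830,nat_lit 365595,nat_lit 458860,nat_lit 82841,nat_lit 288014,nat_lit 446448,nat_lit 433132,nat_lit 81925,nat_lit 28251,nat_lit 85674,nat_lit 1098060,nat_lit 442031,nat_lit 31398,nat_lit 442625,nat_lit 421651,nat_lit 7219,nat_lit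 322665,nat_lit 87781,nat_lit 1130512,nat_lit 1049859,nat_lit 7747,nat_lit 1108742,nat_lit 420174,nat_lit 1108739,nat_lit 129451,nat_lit 124595,nat_lit 130646,nat_lit 4565414,nat_lit 323776,nat_lit 441007,nat_lit 130735,nat_lit 331454,nat_lit 86092,nat_lit 320577,nat_lit 441323,nat_lit 1129381,nat_lit 27566,nat_lit 1261163,nat_lit 266046,nat_lit 91580,nat_lit 339987,nat_lit 331006,nat_lit 1260220,nat_lit 334526,nat_lit 126207,nat_lit 453210,nat_lit 436581,nat_lit 326373,nat_lit 375215,nat_lit 267280,nat_lit 443599,nat_lit 20549,nat_lit 72698,nat_lit 65903,nat_lit 312548,nat_lit 332219,nat_lit 364867,nat_lit 109541,nat_lit 31811,nat_lit 312083,nat_lit 1639451,nat_lit 290725,nat_lit 130288,nat_lit 268998,nat_lit 82943,nat_lit 5391,nat_lit 278080,nat_lit 1398457,nat_lit 105273,nat_lit 31461,nat_lit 7872,nat_lit 4870,nat_lit 1993814,nat_lit 66766,nat_lit 70074,nat_lit 329301,nat_lit 1391685,nat_lit 80878,nat_lit 430191,nat_lit 5528497,nat_lit 431865,nat_lit 364613,nat_lit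 1309105,nat_lit 108863,nat_lit 118468,nat_lit 8081,nat_lit 508913,nat_lit 263573,nat_lit 343780,nat_lit 508010,nat_lit 452889,nat_lit 69187,nat_lit 340161,nat_lit 1290469,nat_lit 320571,nat_lit 6822,nat_lit 116395,nat_lit 69310,nat_lit 410035,nat_lit 320947,nat_lit 70937,nat_lit 1117786,nat_lit 28901,nat_lit 107782,nat_lit 416062,nat_lit 314956,nat_lit 105233,nat_lit 1250986,nat_lit 511553,nat_lit 127403,nat_lit 1162949,nat_lit 1068822,nat_lit 350969,nat_lit 109370,nat_lit 455103,nat_lit 92465,nat_lit 420859,nat_lit 65855,nat_lit 332565,nat_lit 7084,nat_lit 5092,nat_lit 2042,nat_lit 109491,nat_lit 290368,nat_lit 1377936,nat_lit 32707,nat_lit 4484350,nat_lit 498417,nat_lit 1746027,nat_lit 21936,nat_lit 1828522,nat_lit 348604,nat_lit 413626,nat_lit 31820,nat_lit 451862,nat_lit 32718,nat_lit 345535,nat_lit 315301,nat_lit 82176,nat_lit 113769,nat_lit 1063701,nat_lit 66553,nat_lit 312986,nat_lit 1063993,nat_lit 1158975,nat_lit 1284787,nat_lit 432463,nat_lit 23276,nat_lit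 460217,nat_lit 348398,nat_lit 504175,nat_lit 8132,nat_lit 28430,nat_lit 441344]
def orb2 : List Nat := [nat_lit 20502,nat_lit 1064041,nat_lit 1098134,nat_lit 113732,nat_lit 266010,nat_lit 109285,nat_lit 109139,nat_lit 328719,nat_lit 111535,nat_lit 21702,nat_lit 263061,nat_lit 5702,nat_lit 105471,nat_lit 282944,nat_lit 1052773,nat_lit 80833,nat_lit 1134564,nat_lit 1075968,nat_lit 113721,nat_lit 17646,nat_lit 124604,nat_lit 1328894,nat_lit 21697,nat_lit 1749068,nat_lit 25942,nat_lit 1071873,nat_lit 267590,nat_lit 69395,nat_lit 325966,nat_lit 523952,nat_lit 371044,nat_lit 421616,nat_lit 322201,nat_lit 265471,nat_lit 5820,nat_lit 1107646,nat_lit 1077227,nat_lit 102414,nat_lit 279317,nat_lit 26970,nat_lit 1117958,nat_lit 5723,nat_lit 1068634,nat_lit 440665,nat_lit 86446,nat_lit 29114,nat_lit 1768122,nat_lit 327908,nat_lit 103507,nat_lit 446097,nat_lit 463275,nat_lit 80784,nat_lit 410638,nat_lit 111023,nat_lit 1486618,nat_lit 435643,nat_lit 511941,nat_lit 342331,nat_lit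 373139,nat_lit 85092,nat_lit 1139802,nat_lit 1152347,nat_lit 366259,nat_lit 285355,nat_lit 1161918,nat_lit 65967,nat_lit 25860,nat_lit 68667,nat_lit 278549,nat_lit 113385,nat_lit 275452,nat_lit 25690,nat_lit 503803,nat_lit 311354,nat_lit 508271,nat_lit 430313,nat_lit 348443,nat_lit 28996,nat_lit 66817,nat_lit 68719,nat_lit 345100,nat_lit 414915,nat_lit 80533,nat_lit 1113775,nat_lit 501083,nat_lit 1305660,nat_lit 267259,nat_lit 1742075,nat_lit 86436,nat_lit 1133657,nat_lit 1484015,nat_lit 312686,nat_lit 124250,nat_lit 69606,nat_lit 457625,nat_lit 263259,nat_lit 282831,nat_lit 342596,nat_lit 354620,nat_lit 110613,nat_lit 463793,nat_lit 18108,nat_lit 444147,nat_lit 275436,nat_lit 93120,nat_lit 17681,nat_lit 348507,nat_lit 1852739,nat_lit 437305,nat_lit 111614,nat_lit 21861,nat_lit 85051,nat_lit 474089,nat_lit 333564,nat_lit 265834,nat_lit 435779,nat_lit 108907,nat_lit 287950,nat_lit 328012,nat_lit 290459,nat_lit 1115891,nat_lit 123929,nat_lit 4147,nat_lit 1289968,nat_lit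 373103,nat_lit 1403930,nat_lit 113086,nat_lit 80846,nat_lit 267611,nat_lit 1650703,nat_lit 82703,nat_lit 326891,nat_lit 1675568,nat_lit 349184,nat_lit 27217,nat_lit 435540,nat_lit 81870,nat_lit 87147,nat_lit 69974,nat_lit 497987,nat_lit 419045,nat_lit 290384,nat_lit 103504,nat_lit 4403,nat_lit 93967,nat_lit 4518,nat_lit 6746,nat_lit 355251,nat_lit 288004,nat_lit 4397338,nat_lit 312512,nat_lit 414737,nat_lit 345062,nat_lit 66308,nat_lit 103313,nat_lit 102806,nat_lit 267589,nat_lit 103425,nat_lit 312076,nat_lit 110657,nat_lit 20586,nat_lit 279312,nat_lit 130051,nat_lit 436561,nat_lit 110907,nat_lit 82259,nat_lit 1115734,nat_lit 81476,nat_lit 1392954,nat_lit 507818,nat_lit 1066427,nat_lit 458319,nat_lit 7060,nat_lit 21563,nat_lit 463043,nat_lit 290756,nat_lit 280213,nat_lit 89027,nat_lit 1075,nat_lit 321264,nat_lit 80277,nat_lit 372416,nat_lit 432495,nat_lit 1108550,nat_lit 350784,nat_lit 32665,nat_lit 355947,nat_lit 366276,nat_lit 17642,nat_lit 1133590,nat_lit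 1055001,nat_lit 267035,nat_lit 6587,nat_lit 1360974,nat_lit 262468,nat_lit 1086,nat_lit 20036,nat_lit 290750,nat_lit 21780,nat_lit 27728,nat_lit 1070064,nat_lit 278458,nat_lit 332560,nat_lit 452286,nat_lit 416462,nat_lit 17347,nat_lit 364800,nat_lit 83630,nat_lit 342607,nat_lit 7146,nat_lit 1310463,nat_lit 5258129,nat_lit 82708,nat_lit 322225,nat_lit 1053932,nat_lit 265989,nat_lit 1052684,nat_lit 356,nat_lit 85018,nat_lit 344848,nat_lit 282521,nat_lit 410879,nat_lit 83699,nat_lit 344401,nat_lit 28986,nat_lit 342809,nat_lit 1064022,nat_lit 431040,nat_lit 343994,nat_lit 323898,nat_lit 81859,nat_lit 420443,nat_lit 1110086,nat_lit 16490,nat_lit 416361,nat_lit 103859,nat_lit 523289,nat_lit 103662,nat_lit 85220,nat_lit 460495,nat_lit 77891,nat_lit 1061057,nat_lit 1074371,nat_lit 1159254,nat_lit 312571,nat_lit 26960,nat_lit 353514,nat_lit 312123,nat_lit 1420998,nat_lit 265881,nat_lit 344043,nat_lit 419078,nat_lit 283884,nat_lit 328508,nat_lit 108112,nat_lit 502697,nat_lit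 1314576,nat_lit 415321,nat_lit 413446,nat_lit 267601,nat_lit 504150,nat_lit 326079,nat_lit 78266,nat_lit 1383089,nat_lit 353724,nat_lit 4185,nat_lit 110683,nat_lit 5204,nat_lit 1391187,nat_lit 289705,nat_lit 23529,nat_lit 18003,nat_lit 131011,nat_lit 108822,nat_lit 1129723,nat_lit 521155,nat_lit 1292,nat_lit 1836751,nat_lit 287994,nat_lit 435940,nat_lit 1399802,nat_lit 20123,nat_lit 72377,nat_lit 340303,nat_lit 88980,nat_lit 115108,nat_lit 2046273,nat_lit 20458,nat_lit 278422,nat_lit 1323089,nat_lit 1359955,nat_lit 1157483,nat_lit 1070437,nat_lit 519835,nat_lit 274666,nat_lit 329130,nat_lit 500975,nat_lit 495856,nat_lit 1108544,nat_lit 283569,nat_lit 457360,nat_lit 345409,nat_lit 5532905,nat_lit 375402,nat_lit 20538,nat_lit 289434,nat_lit 1053611,nat_lit 1117200,nat_lit 1246298,nat_lit 1132201,nat_lit 81924,nat_lit 1753870,nat_lit 31824,nat_lit 17723,nat_lit 72361,nat_lit 267460,nat_lit 343274,nat_lit 114715,nat_lit 6853,nat_lit 32430,nat_lit 322620,nat_lit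 82704,nat_lit 80975,nat_lit 322651,nat_lit 433124,nat_lit 327702,nat_lit 1051649,nat_lit 282986,nat_lit 5548,nat_lit 345534,nat_lit 105381,nat_lit 27237,nat_lit 1157945,nat_lit 1749226,nat_lit 326234,nat_lit 327439,nat_lit 323856,nat_lit 440682,nat_lit 430169,nat_lit 1071785,nat_lit 92912,nat_lit 332198,nat_lit 1260460,nat_lit 464575,nat_lit 502101,nat_lit 110692,nat_lit 1053075,nat_lit 115820,nat_lit 115020,nat_lit 340238,nat_lit 1250991,nat_lit 457296,nat_lit 66474,nat_lit 1687446,nat_lit 69968,nat_lit 410981,nat_lit 327622,nat_lit 328084,nat_lit 78767,nat_lit 269227,nat_lit 1838863,nat_lit 419238,nat_lit 416442,nat_lit 321230,nat_lit 71316,nat_lit 507536,nat_lit 17990,nat_lit 28260,nat_lit 375494,nat_lit 431104,nat_lit 328627,nat_lit 1134693,nat_lit 324028,nat_lit 1157738,nat_lit 274707,nat_lit 265920,nat_lit 1049795,nat_lit 290789,nat_lit 437327,nat_lit 365326,nat_lit 5220620,nat_lit 263828,nat_lit 327252,nat_lit 85999,nat_lit 364987,nat_lit 85648,nat_lit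 25711,nat_lit 86321,nat_lit 77910,nat_lit 27668,nat_lit 364881,nat_lit 125637,nat_lit 1834688,nat_lit 72340,nat_lit 262401,nat_lit 81904,nat_lit 430400,nat_lit 31302,nat_lit 1112686,nat_lit 282950,nat_lit 345172,nat_lit 113382,nat_lit 452241,nat_lit 1121216,nat_lit 5098,nat_lit 495852,nat_lit 279833,nat_lit 82956,nat_lit 322245,nat_lit 1294442,nat_lit 110337,nat_lit 453393,nat_lit 437136,nat_lit 419263,nat_lit 1027,nat_lit 276843,nat_lit 2093327,nat_lit 5036,nat_lit 287834,nat_lit 129296,nat_lit 265999,nat_lit 1330779,nat_lit 107948,nat_lit 5825,nat_lit 130986,nat_lit 1052334,nat_lit 283395,nat_lit 66473,nat_lit 457130,nat_lit 522992,nat_lit 441574,nat_lit 1065199,nat_lit 282607,nat_lit 8179,nat_lit 506172,nat_lit 1449,nat_lit 1314020,nat_lit 414521,nat_lit 83286,nat_lit 80303,nat_lit 28582,nat_lit 263484,nat_lit 1314867,nat_lit 85934,nat_lit 125525,nat_lit 345322,nat_lit 267609,nat_lit 375530,nat_lit 92943,nat_lit 23247,nat_lit 4283131,nat_lit 27718,nat_lit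 83625,nat_lit 266673,nat_lit 441294,nat_lit 21777,nat_lit 330853,nat_lit 332787,nat_lit 421619,nat_lit 124143,nat_lit 284415,nat_lit 87100,nat_lit 127423,nat_lit 23190,nat_lit 86784,nat_lit 518767,nat_lit 107,nat_lit 87145,nat_lit 4195331,nat_lit 290803,nat_lit 1388868,nat_lit 31401,nat_lit 4484865,nat_lit 312635,nat_lit 81989,nat_lit 371094,nat_lit 344427,nat_lit 356326,nat_lit 409905,nat_lit 326745,nat_lit 23187,nat_lit 440641,nat_lit 473518,nat_lit 118721,nat_lit 414912,nat_lit 283921,nat_lit 26022,nat_lit 107961,nat_lit 87283,nat_lit 81987,nat_lit 81595,nat_lit 282347,nat_lit 5823,nat_lit 1298426,nat_lit 1328078,nat_lit 71985,nat_lit 129340,nat_lit 6403,nat_lit 1267,nat_lit 88747,nat_lit 1656065,nat_lit 289041,nat_lit 110185,nat_lit 70566,nat_lit 510,nat_lit 86270,nat_lit 366257,nat_lit 323646,nat_lit 1069377,nat_lit 126572,nat_lit 311633,nat_lit 16809,nat_lit 1152261,nat_lit 80985,nat_lit 115691,nat_lit 326634,nat_lit 353681,nat_lit 1404900,nat_lit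 31317,nat_lit 501075,nat_lit 126192,nat_lit 5553,nat_lit 16404,nat_lit 31486,nat_lit 326678,nat_lit 85696,nat_lit 1142377,nat_lit 1726827,nat_lit 83710,nat_lit 93285,nat_lit 17422,nat_lit 72682,nat_lit 1162993,nat_lit 282558,nat_lit 110531,nat_lit 1312337,nat_lit 440676,nat_lit 1375322,nat_lit 72614,nat_lit 20286,nat_lit 279994,nat_lit 6468,nat_lit 115760,nat_lit 354884,nat_lit 1288977,nat_lit 282390,nat_lit 93776,nat_lit 93116,nat_lit 82860,nat_lit 5056,nat_lit 81983,nat_lit 123909,nat_lit 1070095,nat_lit 22785,nat_lit 6481,nat_lit 21588,nat_lit 267329,nat_lit 6486,nat_lit 17215,nat_lit 276803,nat_lit 343962,nat_lit 322474,nat_lit 506170,nat_lit 27313,nat_lit 23315,nat_lit 71097,nat_lit 70707,nat_lit 1306611,nat_lit 21584,nat_lit 1328444,nat_lit 334575,nat_lit 88427,nat_lit 86960,nat_lit 105390,nat_lit 435286,nat_lit 457620,nat_lit 8128,nat_lit 1462164,nat_lit 7254,nat_lit 113731,nat_lit 375916,nat_lit 267856,nat_lit 82156,nat_lit 4631109,nat_lit 129849,nat_lit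 276799,nat_lit 1282305,nat_lit 16751,nat_lit 71996,nat_lit 21840,nat_lit 1369324,nat_lit 28668,nat_lit 8131,nat_lit 65980,nat_lit 419059,nat_lit 334412,nat_lit 460101,nat_lit 110321,nat_lit 443628,nat_lit 315322,nat_lit 88681,nat_lit 25600,nat_lit 1131516,nat_lit 110870,nat_lit 328001,nat_lit 459716,nat_lit 21926,nat_lit 1055403,nat_lit 1478724,nat_lit 7763,nat_lit 114682,nat_lit 276847,nat_lit 511978,nat_lit 324593,nat_lit 19476,nat_lit 70592,nat_lit 81664,nat_lit 83281,nat_lit 110357,nat_lit 110869,nat_lit 418833,nat_lit 1785,nat_lit 327593,nat_lit 265893,nat_lit 279806,nat_lit 1386,nat_lit 1156836,nat_lit 326212,nat_lit 1396998,nat_lit 1328572,nat_lit 28954,nat_lit 350469,nat_lit 410629,nat_lit 355556,nat_lit 322547,nat_lit 82942,nat_lit 1157780,nat_lit 356116,nat_lit 87308,nat_lit 23292,nat_lit 519936,nat_lit 340289,nat_lit 72017,nat_lit 110949,nat_lit 69350,nat_lit 2079855,nat_lit 349588,nat_lit 267353,nat_lit 22250,nat_lit 127396,nat_lit 130282,nat_lit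 312400,nat_lit 108851,nat_lit 446458,nat_lit 440660,nat_lit 111539,nat_lit 414998,nat_lit 1136037,nat_lit 345491,nat_lit 278963,nat_lit 93123,nat_lit 340251,nat_lit 320534,nat_lit 1294614,nat_lit 365968,nat_lit 21412,nat_lit 18111,nat_lit 413615,nat_lit 70063,nat_lit 5710,nat_lit 1403300,nat_lit 350949,nat_lit 1414725,nat_lit 323781,nat_lit 1294352,nat_lit 1808,nat_lit 18090,nat_lit 78769,nat_lit 353391,nat_lit 1489660,nat_lit 277099,nat_lit 266555,nat_lit 80699,nat_lit 454555,nat_lit 520217,nat_lit 456974,nat_lit 26203,nat_lit 1418947,nat_lit 114350,nat_lit 266474,nat_lit 506171,nat_lit 7855,nat_lit 279823,nat_lit 1135700,nat_lit 274495,nat_lit 328965,nat_lit 1113680,nat_lit 1055737,nat_lit 289468,nat_lit 85595,nat_lit 70065,nat_lit 419152,nat_lit 442308,nat_lit 1117777,nat_lit 1490713,nat_lit 88729,nat_lit 416430,nat_lit 277566,nat_lit 1115889,nat_lit 371001,nat_lit 88753,nat_lit 320878,nat_lit 327572,nat_lit 285413,nat_lit 1424065,nat_lit 1311852,nat_lit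 28777,nat_lit 1053679,nat_lit 345349,nat_lit 326251,nat_lit 321091,nat_lit 1413567,nat_lit 5209,nat_lit 355076,nat_lit 313017,nat_lit 326569,nat_lit 1421564,nat_lit 70670,nat_lit 2084436,nat_lit 103337,nat_lit 498257,nat_lit 1360,nat_lit 4516112,nat_lit 6885,nat_lit 1369402,nat_lit 1107707,nat_lit 435451,nat_lit 21609,nat_lit 25876,nat_lit 457150,nat_lit 322561,nat_lit 333206,nat_lit 370111,nat_lit 82286,nat_lit 1388803,nat_lit 20742,nat_lit 32451,nat_lit 497349,nat_lit 68676,nat_lit 113228,nat_lit 495706,nat_lit 110502,nat_lit 93861,nat_lit 67148,nat_lit 82969,nat_lit 1376320,nat_lit 103172,nat_lit 345360,nat_lit 323153,nat_lit 1304249,nat_lit 69680,nat_lit 370960,nat_lit 462769,nat_lit 343700,nat_lit 1074430,nat_lit 274751,nat_lit 1829967,nat_lit 1317572,nat_lit 87737,nat_lit 110251,nat_lit 263827,nat_lit 267547,nat_lit 4275454,nat_lit 116134,nat_lit 7142,nat_lit 347184,nat_lit 4347,nat_lit 1115078,nat_lit 262470,nat_lit 21948,nat_lit 320943,nat_lit 2043,nat_lit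 1282159,nat_lit 85924,nat_lit 114671,nat_lit 114320,nat_lit 517141,nat_lit 345427,nat_lit 21860,nat_lit 354895,nat_lit 416366,nat_lit 355334,nat_lit 366331,nat_lit 1288518,nat_lit 311723,nat_lit 274533,nat_lit 267328,nat_lit 322364,nat_lit 334527,nat_lit 7172,nat_lit 80451,nat_lit 1110223,nat_lit 1101402,nat_lit 269057,nat_lit 7168,nat_lit 283642,nat_lit 5227,nat_lit 82155,nat_lit 315141,nat_lit 497237,nat_lit 265985,nat_lit 1359963,nat_lit 364979,nat_lit 465499,nat_lit 66611,nat_lit 1394416,nat_lit 441094,nat_lit 289471,nat_lit 340412,nat_lit 430417,nat_lit 115796,nat_lit 1131951,nat_lit 20079,nat_lit 345807,nat_lit 344038,nat_lit 16625,nat_lit 496388,nat_lit 108209,nat_lit 123931,nat_lit 457838,nat_lit 72426,nat_lit 371285,nat_lit 1248945,nat_lit 113075,nat_lit 105051,nat_lit 21930,nat_lit 32697,nat_lit 124156,nat_lit 267369,nat_lit 1661681,nat_lit 80652,nat_lit 442729,nat_lit 125509,nat_lit 82713,nat_lit 1360921,nat_lit 1396379,nat_lit 118506,nat_lit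 410876,nat_lit 278634,nat_lit 1683397,nat_lit 442026,nat_lit 279871,nat_lit 262211,nat_lit 321966,nat_lit 1749269,nat_lit 331983,nat_lit 277273,nat_lit 114886,nat_lit 1054019,nat_lit 80847,nat_lit 1221,nat_lit 108908,nat_lit 457324,nat_lit 262480,nat_lit 267205,nat_lit 1309673,nat_lit 283931,nat_lit 85580,nat_lit 32657,nat_lit 277758,nat_lit 71077,nat_lit 32705,nat_lit 340222,nat_lit 421107,nat_lit 279814,nat_lit 421822,nat_lit 1076227,nat_lit 115694,nat_lit 344428,nat_lit 26945,nat_lit 20496,nat_lit 19523,nat_lit 88825,nat_lit 28325,nat_lit 519956,nat_lit 1840036,nat_lit 322494,nat_lit 111027,nat_lit 375749,nat_lit 420921,nat_lit 277182,nat_lit 93077,nat_lit 124308,nat_lit 1685,nat_lit 289370,nat_lit 18065,nat_lit 326718,nat_lit 72367,nat_lit 1332137,nat_lit 69439,nat_lit 284949,nat_lit 458673,nat_lit 66458,nat_lit 1259793,nat_lit 328617,nat_lit 4374,nat_lit 27049,nat_lit 1383396,nat_lit 130067,nat_lit 370243,nat_lit 312574,nat_lit 431419,nat_lit 435536,nat_lit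 19462,nat_lit 4885,nat_lit 495823,nat_lit 1466,nat_lit 26278,nat_lit 4567994,nat_lit 332017,nat_lit 330773,nat_lit 1381273,nat_lit 103844,nat_lit 473915,nat_lit 1706,nat_lit 1639230,nat_lit 347,nat_lit 16462,nat_lit 1363,nat_lit 110358,nat_lit 1282842,nat_lit 103622,nat_lit 1159104,nat_lit 107827,nat_lit 87126,nat_lit 1163200,nat_lit 1655019,nat_lit 85231,nat_lit 20731,nat_lit 263868,nat_lit 28347,nat_lit 1339315,nat_lit 71343,nat_lit 110234,nat_lit 26971,nat_lit 277585,nat_lit 329365,nat_lit 6804,nat_lit 435628,nat_lit 278206,nat_lit 1121265,nat_lit 103440,nat_lit 371398,nat_lit 465262,nat_lit 8190,nat_lit 1503556,nat_lit 126885,nat_lit 1070447,nat_lit 92900,nat_lit 1076335,nat_lit 28400,nat_lit 413418,nat_lit 92863,nat_lit 81721,nat_lit 103699,nat_lit 365593,nat_lit 92474,nat_lit 1048923,nat_lit 1382747,nat_lit 71345,nat_lit 2046662,nat_lit 27633,nat_lit 81473,nat_lit 343012,nat_lit 4197,nat_lit 1814804,nat_lit 126019,nat_lit 375059,nat_lit 332556,nat_lit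 20923,nat_lit 323180,nat_lit 320709,nat_lit 7118,nat_lit 1260524,nat_lit 1246910,nat_lit 1043,nat_lit 1294330,nat_lit 125348,nat_lit 1348,nat_lit 290558,nat_lit 1261550,nat_lit 7868,nat_lit 1600,nat_lit 2009429,nat_lit 29113,nat_lit 348591,nat_lit 85945,nat_lit 278867,nat_lit 21252,nat_lit 1054378,nat_lit 1374948,nat_lit 268603,nat_lit 523860,nat_lit 1330235,nat_lit 370085,nat_lit 5868,nat_lit 1117289,nat_lit 432922,nat_lit 372847,nat_lit 511567,nat_lit 1856598,nat_lit 263098,nat_lit 1069039,nat_lit 21907,nat_lit 87013,nat_lit 457828,nat_lit 1098681,nat_lit 506277,nat_lit 323173,nat_lit 283414,nat_lit 1797,nat_lit 348057,nat_lit 1117969,nat_lit 129798,nat_lit 371654,nat_lit 329110,nat_lit 84,nat_lit 453326,nat_lit 1151301,nat_lit 332820,nat_lit 353684,nat_lit 281601,nat_lit 372304,nat_lit 269210,nat_lit 285359,nat_lit 1374798,nat_lit 1363686,nat_lit 1393946,nat_lit 282366,nat_lit 102448,nat_lit 1328876,nat_lit 1393600,nat_lit 345114,nat_lit 415406,nat_lit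 65939,nat_lit 112987,nat_lit 7764,nat_lit 20537,nat_lit 20926,nat_lit 17158,nat_lit 340163,nat_lit 326426,nat_lit 365932,nat_lit 322213,nat_lit 1372099,nat_lit 1382038,nat_lit 129616,nat_lit 109371,nat_lit 113470,nat_lit 502532,nat_lit 312068,nat_lit 265836,nat_lit 86970,nat_lit 418886,nat_lit 452014,nat_lit 129356,nat_lit 322483,nat_lit 66457,nat_lit 1245246,nat_lit 108947,nat_lit 1064601,nat_lit 430094,nat_lit 320710,nat_lit 502523,nat_lit 17722,nat_lit 4456755,nat_lit 4256165,nat_lit 496619,nat_lit 435567,nat_lit 282256,nat_lit 65598,nat_lit 69721,nat_lit 1479103,nat_lit 65553,nat_lit 498320,nat_lit 266149,nat_lit 87806,nat_lit 442601,nat_lit 282197,nat_lit 20814,nat_lit 6,nat_lit 315326,nat_lit 331350,nat_lit 289776,nat_lit 334086,nat_lit 118357,nat_lit 17764,nat_lit 93779,nat_lit 7119,nat_lit 1142675,nat_lit 114431,nat_lit 80654,nat_lit 1075900,nat_lit 89075,nat_lit 21498,nat_lit 329459,nat_lit 80902,nat_lit 1293371,nat_lit 70961,nat_lit 87465,nat_lit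 1077145,nat_lit 413929,nat_lit 31034,nat_lit 420837,nat_lit 5190,nat_lit 1076932,nat_lit 31077,nat_lit 69185,nat_lit 278875,nat_lit 69375,nat_lit 85939,nat_lit 278803,nat_lit 2013843,nat_lit 87802,nat_lit 320836,nat_lit 413391,nat_lit 1158842,nat_lit 1290139,nat_lit 443195,nat_lit 80193,nat_lit 1418256,nat_lit 107920,nat_lit 496724,nat_lit 324538,nat_lit 1958,nat_lit 1298149,nat_lit 1290010,nat_lit 285691,nat_lit 413337,nat_lit 457621,nat_lit 1134310,nat_lit 327440,nat_lit 458735,nat_lit 69583,nat_lit 2046,nat_lit 312069,nat_lit 2016591,nat_lit 372467,nat_lit 5550,nat_lit 112916,nat_lit 20398,nat_lit 1074195,nat_lit 486,nat_lit 1501505,nat_lit 83646,nat_lit 275393,nat_lit 414996,nat_lit 432953,nat_lit 322667,nat_lit 86268,nat_lit 274748,nat_lit 1332028,nat_lit 115109,nat_lit 289459,nat_lit 432959,nat_lit 511577,nat_lit 1050318,nat_lit 1838150,nat_lit 1303566,nat_lit 414977,nat_lit 1729892,nat_lit 8107,nat_lit 1306901,nat_lit 103484,nat_lit 1074427,nat_lit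 81558,nat_lit 5097,nat_lit 1370796,nat_lit 1730886,nat_lit 4206595,nat_lit 130127,nat_lit 4441,nat_lit 334761,nat_lit 22267,nat_lit 1715,nat_lit 1069262,nat_lit 496659,nat_lit 1966,nat_lit 71396,nat_lit 1420012,nat_lit 85697,nat_lit 280314,nat_lit 116473,nat_lit 23217,nat_lit 277171,nat_lit 93840,nat_lit 1133616,nat_lit 323648,nat_lit 508014,nat_lit 27889,nat_lit 1098980,nat_lit 327451,nat_lit 1161537,nat_lit 83604,nat_lit 80576,nat_lit 263908,nat_lit 320575,nat_lit 23124,nat_lit 1114537,nat_lit 283974,nat_lit 17514,nat_lit 326635,nat_lit 1742422,nat_lit 269246,nat_lit 1402217,nat_lit 27055,nat_lit 5370,nat_lit 4461584,nat_lit 1068774,nat_lit 437014,nat_lit 1061205,nat_lit 345321,nat_lit 474025,nat_lit 1788,nat_lit 77888,nat_lit 415402,nat_lit 283971,nat_lit 1305342,nat_lit 498665,nat_lit 65788,nat_lit 1683054,nat_lit 116467,nat_lit 326595,nat_lit 125865,nat_lit 16640,nat_lit 31845,nat_lit 345199,nat_lit 6846,nat_lit 29093,nat_lit 26366,nat_lit 27243,nat_lit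 5481,nat_lit 414800,nat_lit 103742,nat_lit 65584,nat_lit 496640,nat_lit 1050182,nat_lit 502352,nat_lit 1290149,nat_lit 124336,nat_lit 16724,nat_lit 277392,nat_lit 85651,nat_lit 131049,nat_lit 125349,nat_lit 354907,nat_lit 285375,nat_lit 66494,nat_lit 263749,nat_lit 262972,nat_lit 6761,nat_lit 421098,nat_lit 1136917,nat_lit 110937,nat_lit 87109,nat_lit 17851,nat_lit 457039,nat_lit 1131455,nat_lit 267627,nat_lit 443417,nat_lit 80560,nat_lit 457401,nat_lit 80947,nat_lit 110593,nat_lit 1063172,nat_lit 504816,nat_lit 315199,nat_lit 375786,nat_lit 1069162,nat_lit 83249,nat_lit 278953,nat_lit 265300,nat_lit 125670,nat_lit 365324,nat_lit 442574,nat_lit 78844,nat_lit 129683,nat_lit 94100,nat_lit 6916,nat_lit 86123,nat_lit 114581,nat_lit 103740,nat_lit 5484,nat_lit 282960,nat_lit 80228,nat_lit 87148,nat_lit 113339,nat_lit 17840,nat_lit 109339,nat_lit 290412,nat_lit 509196,nat_lit 263230,nat_lit 1069825,nat_lit 508676,nat_lit 85990,nat_lit 88830,nat_lit 1401913,nat_lit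 1069460,nat_lit 16489,nat_lit 87025,nat_lit 312590,nat_lit 1112682,nat_lit 82710,nat_lit 277270,nat_lit 102419,nat_lit 1115566,nat_lit 32337,nat_lit 1370368,nat_lit 16730,nat_lit 1769157,nat_lit 20924,nat_lit 353390,nat_lit 1070142,nat_lit 29606,nat_lit 28689,nat_lit 288169,nat_lit 126042,nat_lit 419182,nat_lit 331516,nat_lit 19686,nat_lit 6801,nat_lit 343100,nat_lit 109249,nat_lit 1115855,nat_lit 326571,nat_lit 4307301,nat_lit 283599,nat_lit 17470,nat_lit 289854,nat_lit 27302,nat_lit 93884,nat_lit 78271,nat_lit 29105,nat_lit 277139,nat_lit 114739,nat_lit 1290006,nat_lit 372928,nat_lit 86806,nat_lit 311302,nat_lit 519766,nat_lit 72700,nat_lit 1108373,nat_lit 413455,nat_lit 66923,nat_lit 458985,nat_lit 20798,nat_lit 65857,nat_lit 453690,nat_lit 110564,nat_lit 412772,nat_lit 1811897,nat_lit 1065020,nat_lit 127999,nat_lit 31313,nat_lit 332718,nat_lit 440752,nat_lit 70660,nat_lit 348523,nat_lit 1751487,nat_lit 1383097,nat_lit 17852,nat_lit 22187,nat_lit 457983,nat_lit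 16828,nat_lit 265267,nat_lit 94128,nat_lit 1115819,nat_lit 323855,nat_lit 323598,nat_lit 328086,nat_lit 1163153,nat_lit 69311,nat_lit 1141331,nat_lit 21503,nat_lit 22870,nat_lit 364556,nat_lit 465913,nat_lit 1251674,nat_lit 1133659,nat_lit 1098004,nat_lit 113084,nat_lit 507641,nat_lit 70853,nat_lit 104131,nat_lit 349861,nat_lit 282307,nat_lit 20401,nat_lit 80793,nat_lit 1248944,nat_lit 343662,nat_lit 68668,nat_lit 1114188,nat_lit 23118,nat_lit 115045,nat_lit 125924,nat_lit 1152060,nat_lit 1642406,nat_lit 1135420,nat_lit 348388,nat_lit 110180,nat_lit 495619,nat_lit 278271,nat_lit 28923,nat_lit 92755,nat_lit 81657,nat_lit 509124,nat_lit 25619,nat_lit 328707,nat_lit 327955,nat_lit 312305,nat_lit 4275291,nat_lit 277583,nat_lit 307,nat_lit 17813,nat_lit 274876,nat_lit 265904,nat_lit 416710,nat_lit 114371,nat_lit 1108590,nat_lit 281605,nat_lit 29014,nat_lit 1479427,nat_lit 113676,nat_lit 279470,nat_lit 28943,nat_lit 347157,nat_lit 503701,nat_lit 441145,nat_lit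 127979,nat_lit 2035,nat_lit 17316,nat_lit 83187,nat_lit 105395,nat_lit 104176,nat_lit 462835,nat_lit 4115,nat_lit 283855,nat_lit 409904,nat_lit 337,nat_lit 31749,nat_lit 1382979,nat_lit 72691,nat_lit 20825,nat_lit 436654,nat_lit 6803,nat_lit 431790,nat_lit 263172,nat_lit 1290468,nat_lit 17407,nat_lit 1969,nat_lit 1135567,nat_lit 78756,nat_lit 1053715,nat_lit 347921,nat_lit 70549,nat_lit 322812,nat_lit 323342,nat_lit 502508,nat_lit 6886,nat_lit 311724,nat_lit 114255,nat_lit 31083,nat_lit 438526,nat_lit 519253,nat_lit 1403813,nat_lit 7769,nat_lit 278534,nat_lit 340985,nat_lit 16614,nat_lit 18009,nat_lit 1288452,nat_lit 1141156,nat_lit 80577,nat_lit 349625,nat_lit 1063702,nat_lit 282947,nat_lit 345514,nat_lit 69372,nat_lit 83221,nat_lit 262938,nat_lit 1157825,nat_lit 343107,nat_lit 322537,nat_lit 279918,nat_lit 22186,nat_lit 354640,nat_lit 21700,nat_lit 1317562,nat_lit 353702,nat_lit 71361,nat_lit 1490154,nat_lit 1050283,nat_lit 70422,nat_lit 91379,nat_lit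 328766,nat_lit 285457,nat_lit 85679,nat_lit 411312,nat_lit 1850611,nat_lit 1653700,nat_lit 1682453,nat_lit 1306604,nat_lit 16618,nat_lit 311574,nat_lit 125206,nat_lit 328601,nat_lit 433062,nat_lit 5140143,nat_lit 1645375,nat_lit 350911,nat_lit 279984,nat_lit 125628,nat_lit 431534,nat_lit 105228,nat_lit 282821,nat_lit 104084,nat_lit 1484083,nat_lit 113662,nat_lit 1831252,nat_lit 112996,nat_lit 16433,nat_lit 274709,nat_lit 28779,nat_lit 321939,nat_lit 1099172,nat_lit 339982,nat_lit 108224,nat_lit 1101722,nat_lit 87793,nat_lit 440911,nat_lit 6416,nat_lit 5673292,nat_lit 108182,nat_lit 265276,nat_lit 454671,nat_lit 1833273,nat_lit 1097984,nat_lit 28868,nat_lit 503381,nat_lit 72444,nat_lit 441942,nat_lit 285284,nat_lit 327321,nat_lit 114942,nat_lit 1490538,nat_lit 1098069,nat_lit 8170,nat_lit 1383066,nat_lit 25836,nat_lit 2075404,nat_lit 354609,nat_lit 7274,nat_lit 1399724,nat_lit 103744,nat_lit 105211,nat_lit 443984,nat_lit 438352,nat_lit 87344,nat_lit 28992,nat_lit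 1249617,nat_lit 116025,nat_lit 1061862,nat_lit 1724666,nat_lit 289380,nat_lit 1278,nat_lit 1119429,nat_lit 1729733,nat_lit 83007,nat_lit 289700,nat_lit 433129,nat_lit 498255,nat_lit 376597,nat_lit 116017,nat_lit 22852,nat_lit 85059,nat_lit 6547,nat_lit 1069457,nat_lit 7781,nat_lit 20836,nat_lit 285616,nat_lit 315030,nat_lit 443503,nat_lit 116465,nat_lit 108965,nat_lit 126897,nat_lit 107834,nat_lit 430161,nat_lit 85737,nat_lit 105276,nat_lit 263472,nat_lit 1109612,nat_lit 32435,nat_lit 81150,nat_lit 287759,nat_lit 69694,nat_lit 347905,nat_lit 86336,nat_lit 125676,nat_lit 1159524,nat_lit 114700,nat_lit 130821,nat_lit 1260437,nat_lit 1156201,nat_lit 278972,nat_lit 289036,nat_lit 311697,nat_lit 20246,nat_lit 375574,nat_lit 129791,nat_lit 1726101,nat_lit 1156172,nat_lit 1765467,nat_lit 66366,nat_lit 461875,nat_lit 17774,nat_lit 65770,nat_lit 1814,nat_lit 86021,nat_lit 109593,nat_lit 1666820,nat_lit 115630,nat_lit 330838,nat_lit 1796,nat_lit 438528,nat_lit 282703,nat_lit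 353683,nat_lit 127401,nat_lit 279977,nat_lit 289726,nat_lit 1465065,nat_lit 265299,nat_lit 5360,nat_lit 371113,nat_lit 410373,nat_lit 1294348,nat_lit 27884,nat_lit 266224,nat_lit 113466,nat_lit 342629,nat_lit 19459,nat_lit 1142521,nat_lit 463054,nat_lit 5398,nat_lit 81897,nat_lit 104175,nat_lit 438362,nat_lit 413435,nat_lit 502534,nat_lit 125205,nat_lit 315148,nat_lit 20844,nat_lit 347237,nat_lit 70970,nat_lit 65937,nat_lit 110501,nat_lit 1074245,nat_lit 32431,nat_lit 31316,nat_lit 1161919,nat_lit 266234,nat_lit 1074181,nat_lit 81669,nat_lit 16390,nat_lit 82355,nat_lit 20822,nat_lit 109669,nat_lit 1304133,nat_lit 283571,nat_lit 452004,nat_lit 502037,nat_lit 324025,nat_lit 115132,nat_lit 107524,nat_lit 1158742,nat_lit 282730,nat_lit 111012,nat_lit 22246,nat_lit 66323,nat_lit 442257,nat_lit 455674,nat_lit 1827919,nat_lit 27371,nat_lit 113043,nat_lit 66324,nat_lit 82126,nat_lit 277615,nat_lit 26896,nat_lit 103503,nat_lit 1713,nat_lit 28778,nat_lit 28762,nat_lit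 7766,nat_lit 285678,nat_lit 103855,nat_lit 1290563,nat_lit 1725636,nat_lit 88832,nat_lit 509625,nat_lit 31731,nat_lit 1156185,nat_lit 497387,nat_lit 1260558,nat_lit 17358,nat_lit 446270,nat_lit 320831,nat_lit 82239,nat_lit 414830,nat_lit 5457,nat_lit 116036,nat_lit 278291,nat_lit 1650773,nat_lit 509605,nat_lit 5062,nat_lit 94106,nat_lit 325972,nat_lit 71102,nat_lit 27226,nat_lit 69551,nat_lit 1283354,nat_lit 519957,nat_lit 92901,nat_lit 1260795,nat_lit 457404,nat_lit 1071695,nat_lit 86448,nat_lit 116026,nat_lit 1388976,nat_lit 322538,nat_lit 349862,nat_lit 115818,nat_lit 81001,nat_lit 267201,nat_lit 88720,nat_lit 523923,nat_lit 21820,nat_lit 31337,nat_lit 451845,nat_lit 275371,nat_lit 420460,nat_lit 277584,nat_lit 263574,nat_lit 65856,nat_lit 5577665,nat_lit 103702,nat_lit 116308,nat_lit 109504,nat_lit 32490,nat_lit 278734,nat_lit 27205,nat_lit 1377615,nat_lit 1076934,nat_lit 1118140,nat_lit 20837,nat_lit 277226,nat_lit 20886,nat_lit 113914,nat_lit 438191,nat_lit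 431780,nat_lit 410907,nat_lit 325998,nat_lit 1098671,nat_lit 420774,nat_lit 1136059,nat_lit 354608,nat_lit 23321,nat_lit 115984,nat_lit 320954,nat_lit 17686,nat_lit 410515,nat_lit 23312,nat_lit 28651,nat_lit 431,nat_lit 415146,nat_lit 1246299,nat_lit 110273,nat_lit 107942,nat_lit 282902,nat_lit 284068,nat_lit 323684,nat_lit 331417,nat_lit 1110,nat_lit 83051,nat_lit 1052479,nat_lit 348483,nat_lit 115025,nat_lit 93797,nat_lit 71951,nat_lit 356016,nat_lit 314965,nat_lit 113220,nat_lit 365934,nat_lit 524176,nat_lit 113713,nat_lit 521134,nat_lit 1142459,nat_lit 441113,nat_lit 1109071,nat_lit 265819,nat_lit 1399451,nat_lit 413503,nat_lit 115968,nat_lit 1112726,nat_lit 1119142,nat_lit 1077013,nat_lit 18010,nat_lit 315308,nat_lit 371269,nat_lit 130054,nat_lit 1332201,nat_lit 267942,nat_lit 267172,nat_lit 1068623,nat_lit 1282454,nat_lit 1074428,nat_lit 462526,nat_lit 1840485,nat_lit 323349,nat_lit 366266,nat_lit 27334,nat_lit 69612,nat_lit 31151,nat_lit 21738,nat_lit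 7780,nat_lit 371724,nat_lit 21419,nat_lit 342803,nat_lit 104814,nat_lit 29680,nat_lit 344508,nat_lit 278639,nat_lit 364602,nat_lit 28602,nat_lit 460358,nat_lit 268948,nat_lit 69712,nat_lit 85573,nat_lit 103738,nat_lit 1158207,nat_lit 65957,nat_lit 1642836,nat_lit 411206,nat_lit 1371385,nat_lit 1098646,nat_lit 110362,nat_lit 22080,nat_lit 1101393,nat_lit 20547,nat_lit 269254,nat_lit 1401862,nat_lit 349781,nat_lit 1683377,nat_lit 1363732,nat_lit 1369,nat_lit 23467,nat_lit 287854,nat_lit 1418938,nat_lit 1360144,nat_lit 428,nat_lit 266182,nat_lit 1360070,nat_lit 114709,nat_lit 342800,nat_lit 460531,nat_lit 461873,nat_lit 23550,nat_lit 104815,nat_lit 332889,nat_lit 325948,nat_lit 2071116,nat_lit 1134398,nat_lit 126895,nat_lit 69861,nat_lit 1120858,nat_lit 1676399,nat_lit 507599,nat_lit 327423,nat_lit 269028,nat_lit 1814762,nat_lit 442374,nat_lit 4308902,nat_lit 332544,nat_lit 315051,nat_lit 110532,nat_lit 339973,nat_lit 451673,nat_lit 372796,nat_lit 289446,nat_lit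 88890,nat_lit 20500,nat_lit 28758,nat_lit 1106944,nat_lit 1604,nat_lit 1069038,nat_lit 1372403,nat_lit 1109082,nat_lit 371011,nat_lit 1049002,nat_lit 283051,nat_lit 107790,nat_lit 344421,nat_lit 331525,nat_lit 1137422,nat_lit 497388,nat_lit 21273,nat_lit 32752,nat_lit 1314483,nat_lit 1055027,nat_lit 419178,nat_lit 415407,nat_lit 83173,nat_lit 503376,nat_lit 1252123,nat_lit 114773,nat_lit 410521,nat_lit 130789,nat_lit 333060,nat_lit 113062,nat_lit 28331,nat_lit 420529,nat_lit 290755,nat_lit 86335,nat_lit 322640,nat_lit 369870,nat_lit 1151219,nat_lit 435632,nat_lit 5316,nat_lit 446374,nat_lit 343721,nat_lit 20145,nat_lit 455574,nat_lit 18155,nat_lit 80645,nat_lit 20880,nat_lit 1049921,nat_lit 1055419,nat_lit 263424,nat_lit 284083,nat_lit 66639,nat_lit 93290,nat_lit 484,nat_lit 85820,nat_lit 29615,nat_lit 115633,nat_lit 326384,nat_lit 130748,nat_lit 125958,nat_lit 108901,nat_lit 348436,nat_lit 2003193,nat_lit 324581,nat_lit 348485,nat_lit 438608,nat_lit 1115472,nat_lit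 1113062,nat_lit 1129552,nat_lit 7231,nat_lit 1383398,nat_lit 332006,nat_lit 5390,nat_lit 20393,nat_lit 326757,nat_lit 114244,nat_lit 5483,nat_lit 497220,nat_lit 1461355,nat_lit 277393,nat_lit 371284,nat_lit 1651089,nat_lit 31823,nat_lit 86255,nat_lit 504058,nat_lit 412737,nat_lit 23548,nat_lit 452015,nat_lit 112961,nat_lit 2095866,nat_lit 365588,nat_lit 441573,nat_lit 6590,nat_lit 91243,nat_lit 113740,nat_lit 502357,nat_lit 124607,nat_lit 333566,nat_lit 432400,nat_lit 1055333,nat_lit 364947,nat_lit 502591,nat_lit 65557,nat_lit 70745,nat_lit 1113168,nat_lit 1070737,nat_lit 415147,nat_lit 1069082,nat_lit 78747,nat_lit 263257,nat_lit 94206,nat_lit 113907,nat_lit 1098756,nat_lit 415411,nat_lit 103472,nat_lit 2009521,nat_lit 438356,nat_lit 5008972,nat_lit 130644,nat_lit 522544,nat_lit 1331520,nat_lit 410905,nat_lit 23185,nat_lit 278932,nat_lit 20815,nat_lit 1064598,nat_lit 31382,nat_lit 4434521,nat_lit 71359,nat_lit 1309930,nat_lit 1061059,nat_lit 20219,nat_lit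 82346,nat_lit 436569,nat_lit 1500926,nat_lit 32660,nat_lit 375492,nat_lit 66875,nat_lit 496997,nat_lit 1112753,nat_lit 19507,nat_lit 103854,nat_lit 6972,nat_lit 85786,nat_lit 105152,nat_lit 1052582,nat_lit 412900,nat_lit 1485077,nat_lit 431377,nat_lit 18094,nat_lit 72383,nat_lit 1483855,nat_lit 1775,nat_lit 91220,nat_lit 275438,nat_lit 1808058,nat_lit 1151987,nat_lit 345339,nat_lit 453311,nat_lit 7759,nat_lit 69564,nat_lit 420801,nat_lit 1479571,nat_lit 114426,nat_lit 1298155,nat_lit 87630,nat_lit 524027,nat_lit 21251,nat_lit 1503675,nat_lit 266683,nat_lit 283648,nat_lit 17321,nat_lit 28922,nat_lit 343038,nat_lit 93269,nat_lit 375568,nat_lit 115460,nat_lit 17838,nat_lit 431163,nat_lit 78246,nat_lit 92419,nat_lit 16806,nat_lit 458667,nat_lit 23441,nat_lit 375806,nat_lit 85823,nat_lit 1066730,nat_lit 86330,nat_lit 22266,nat_lit 349932,nat_lit 326457,nat_lit 118521,nat_lit 344057,nat_lit 18070,nat_lit 102598,nat_lit 108202,nat_lit 17772,nat_lit 1338287,nat_lit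 93247,nat_lit 460005,nat_lit 349873,nat_lit 27452,nat_lit 1052736,nat_lit 84998,nat_lit 350523,nat_lit 23470,nat_lit 115012,nat_lit 110252,nat_lit 1684,nat_lit 5551,nat_lit 1327161,nat_lit 1053604,nat_lit 83258,nat_lit 87635,nat_lit 436817,nat_lit 1372083,nat_lit 511555,nat_lit 277068,nat_lit 81487,nat_lit 1159500,nat_lit 325950,nat_lit 69971,nat_lit 69545,nat_lit 1131284,nat_lit 507546,nat_lit 20758,nat_lit 4518809,nat_lit 20047,nat_lit 312563,nat_lit 72681,nat_lit 20816,nat_lit 2005999,nat_lit 438214,nat_lit 351204,nat_lit 1376595,nat_lit 276761,nat_lit 364630,nat_lit 83284,nat_lit 502076,nat_lit 263141,nat_lit 1653829,nat_lit 279550,nat_lit 328725,nat_lit 1141401,nat_lit 5050,nat_lit 327355,nat_lit 283030,nat_lit 122,nat_lit 69732,nat_lit 124650,nat_lit 371518,nat_lit 454586,nat_lit 1749246,nat_lit 92940,nat_lit 77935,nat_lit 93977,nat_lit 69946,nat_lit 81572,nat_lit 124132,nat_lit 1055318,nat_lit 68608,nat_lit 278833,nat_lit 437498,nat_lit 1283478,nat_lit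 315310,nat_lit 4537594,nat_lit 342443,nat_lit 340933,nat_lit 285680,nat_lit 414640,nat_lit 414628,nat_lit 438010,nat_lit 16665,nat_lit 29004,nat_lit 20820,nat_lit 19557,nat_lit 350542,nat_lit 130649,nat_lit 28614,nat_lit 1287180,nat_lit 454891,nat_lit 1129713,nat_lit 91411,nat_lit 89029,nat_lit 367,nat_lit 1061204,nat_lit 267526,nat_lit 20161,nat_lit 265301,nat_lit 70052,nat_lit 345089,nat_lit 31060,nat_lit 7420,nat_lit 91374,nat_lit 440592,nat_lit 334486,nat_lit 103830,nat_lit 504079,nat_lit 266580,nat_lit 1813057,nat_lit 1259841,nat_lit 5049,nat_lit 5717,nat_lit 29092,nat_lit 312209,nat_lit 22182,nat_lit 107753,nat_lit 1049603,nat_lit 459760,nat_lit 459782,nat_lit 276880,nat_lit 66646,nat_lit 289681,nat_lit 22833,nat_lit 262570,nat_lit 82879,nat_lit 88667,nat_lit 1383402,nat_lit 348438,nat_lit 409649,nat_lit 86801,nat_lit 350565,nat_lit 1130815,nat_lit 91217,nat_lit 522942,nat_lit 108217,nat_lit 320569,nat_lit 312297,nat_lit 453564,nat_lit 26307,nat_lit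 69996,nat_lit 18064,nat_lit 1418675,nat_lit 1130814,nat_lit 88666,nat_lit 31835,nat_lit 2038036,nat_lit 373102,nat_lit 85926,nat_lit 110788,nat_lit 32447,nat_lit 1160165,nat_lit 520282,nat_lit 1479451,nat_lit 328124,nat_lit 66640,nat_lit 4523067,nat_lit 1484014,nat_lit 116421,nat_lit 1656129,nat_lit 125588,nat_lit 1459966,nat_lit 322511,nat_lit 1457,nat_lit 463859,nat_lit 88986,nat_lit 21594,nat_lit 84992,nat_lit 349619,nat_lit 340927,nat_lit 1288972,nat_lit 432388,nat_lit 268549,nat_lit 23531,nat_lit 501082,nat_lit 503867,nat_lit 21504,nat_lit 329124,nat_lit 262576,nat_lit 81578,nat_lit 1310284,nat_lit 20372,nat_lit 113296,nat_lit 365567,nat_lit 278778,nat_lit 263247,nat_lit 102462,nat_lit 507583,nat_lit 1052652,nat_lit 503812,nat_lit 1115796,nat_lit 67308,nat_lit 16389,nat_lit 421573,nat_lit 94107,nat_lit 83685,nat_lit 282606,nat_lit 375609,nat_lit 23204,nat_lit 371733,nat_lit 285268,nat_lit 1828158,nat_lit 1260798,nat_lit 441089,nat_lit 285465,nat_lit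 1121231,nat_lit 323246,nat_lit 67263,nat_lit 1061807,nat_lit 1309252,nat_lit 83308,nat_lit 32336,nat_lit 316,nat_lit 109487,nat_lit 31407,nat_lit 20159,nat_lit 432452,nat_lit 326894,nat_lit 356032,nat_lit 1283052,nat_lit 125285,nat_lit 1314885,nat_lit 30977,nat_lit 113660,nat_lit 279539,nat_lit 1640105,nat_lit 130629,nat_lit 325888,nat_lit 267180,nat_lit 1303995,nat_lit 93796,nat_lit 7788,nat_lit 323924,nat_lit 437931,nat_lit 1445,nat_lit 67311,nat_lit 1458959,nat_lit 1640004,nat_lit 1107184,nat_lit 325914,nat_lit 437828,nat_lit 325958,nat_lit 280318,nat_lit 31123,nat_lit 6975,nat_lit 70598,nat_lit 4308197,nat_lit 323568,nat_lit 17754,nat_lit 1091,nat_lit 80315,nat_lit 524218,nat_lit 103339,nat_lit 130736,nat_lit 5721,nat_lit 1375227,nat_lit 1654698,nat_lit 72399,nat_lit 457708,nat_lit 431054,nat_lit 1055483,nat_lit 20225,nat_lit 1314470,nat_lit 23503,nat_lit 1054273,nat_lit 349254,nat_lit 86950,nat_lit 69830,nat_lit 312580,nat_lit 331972,nat_lit 282287,nat_lit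 18154,nat_lit 112902,nat_lit 1307547,nat_lit 86074,nat_lit 118465,nat_lit 283050,nat_lit 1282476,nat_lit 285615,nat_lit 22195,nat_lit 340884,nat_lit 130714,nat_lit 1315643,nat_lit 1463386,nat_lit 354725,nat_lit 278790,nat_lit 418883,nat_lit 28355,nat_lit 116288,nat_lit 279465,nat_lit 322244,nat_lit 1126655,nat_lit 110224,nat_lit 6735,nat_lit 265817,nat_lit 1500736,nat_lit 1052580,nat_lit 1418986,nat_lit 23269,nat_lit 130110,nat_lit 110169,nat_lit 1283502,nat_lit 20209,nat_lit 1314814,nat_lit 1642513,nat_lit 414001,nat_lit 17350,nat_lit 267215,nat_lit 1052752,nat_lit 1683393,nat_lit 78031,nat_lit 473711,nat_lit 17471,nat_lit 110939,nat_lit 288145,nat_lit 1069317,nat_lit 114993,nat_lit 265813,nat_lit 458693,nat_lit 288020,nat_lit 431785,nat_lit 348080,nat_lit 277487,nat_lit 1403840,nat_lit 1283652,nat_lit 281706,nat_lit 1306383,nat_lit 327486,nat_lit 29008,nat_lit 1052905,nat_lit 110145,nat_lit 115795,nat_lit 326036,nat_lit 82175,nat_lit 1655151,nat_lit 354582,nat_lit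 7152,nat_lit 437267,nat_lit 320874,nat_lit 1248276,nat_lit 1314907,nat_lit 315343,nat_lit 67278,nat_lit 278441,nat_lit 462798,nat_lit 71358,nat_lit 29614,nat_lit 421102,nat_lit 87123,nat_lit 81680,nat_lit 69264,nat_lit 345001,nat_lit 1156516,nat_lit 83347,nat_lit 69838,nat_lit 331695,nat_lit 28561,nat_lit 518884,nat_lit 289898,nat_lit 1743,nat_lit 4211604,nat_lit 114923,nat_lit 25936,nat_lit 27056,nat_lit 321260,nat_lit 92742,nat_lit 27641,nat_lit 331007,nat_lit 1141999,nat_lit 18085,nat_lit 334846,nat_lit 266469,nat_lit 20122,nat_lit 94193,nat_lit 6848,nat_lit 1114538,nat_lit 443987,nat_lit 282291,nat_lit 328959,nat_lit 327317,nat_lit 110649,nat_lit 520171,nat_lit 20906,nat_lit 85585,nat_lit 92443,nat_lit 1743107,nat_lit 431153,nat_lit 1809385,nat_lit 462766,nat_lit 496574,nat_lit 435776,nat_lit 1413562,nat_lit 312913,nat_lit 502682,nat_lit 130822,nat_lit 31039,nat_lit 522545,nat_lit 1856596,nat_lit 1364,nat_lit 340929,nat_lit 328006,nat_lit 1316549,nat_lit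 103193,nat_lit 320790,nat_lit 1686596,nat_lit 1115200,nat_lit 349081,nat_lit 1382058,nat_lit 322609,nat_lit 109482,nat_lit 66865,nat_lit 1076164,nat_lit 1295268,nat_lit 364603]
def orb3 : List Nat := [nat_lit 278186,nat_lit 349931,nat_lit 1289216,nat_lit 130639,nat_lit 1134506,nat_lit 414970,nat_lit 1070015,nat_lit 413766,nat_lit 451667,nat_lit 348165,nat_lit 4393996,nat_lit 285252,nat_lit 1381286,nat_lit 1055420,nat_lit 1282156,nat_lit 65871,nat_lit 1465018,nat_lit 1841980,nat_lit 1069398,nat_lit 460083,nat_lit 1726780,nat_lit 342681,nat_lit 355097,nat_lit 331845,nat_lit 421115,nat_lit 112964,nat_lit 81833,nat_lit 114683,nat_lit 126035,nat_lit 67220,nat_lit 28740,nat_lit 65734,nat_lit 1111027,nat_lit 1119283,nat_lit 342330,nat_lit 265793,nat_lit 27569,nat_lit 22245,nat_lit 262912,nat_lit 263363,nat_lit 421547,nat_lit 20476,nat_lit 463189,nat_lit 5713,nat_lit 435395,nat_lit 130277,nat_lit 25871,nat_lit 25868,nat_lit 69967,nat_lit 110678,nat_lit 421838,nat_lit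 511572,nat_lit 125860,nat_lit 5798,nat_lit 107539,nat_lit 17771,nat_lit 91333,nat_lit 1373092,nat_lit 322481,nat_lit 281663,nat_lit 1287857,nat_lit 454414,nat_lit 114430,nat_lit 278416,nat_lit 1101580,nat_lit 323813,nat_lit 113905,nat_lit 1049402,nat_lit 66668,nat_lit 1421510,nat_lit 1305337,nat_lit 262476,nat_lit 285683,nat_lit 1282364,nat_lit 82243,nat_lit 332886,nat_lit 89071,nat_lit 326739,nat_lit 265292,nat_lit 289514,nat_lit 28926,nat_lit 1424986,nat_lit 80961,nat_lit 2071232,nat_lit 109484,nat_lit 329369,nat_lit 327621,nat_lit 7107,nat_lit 23316,nat_lit 349760,nat_lit 1292964,nat_lit 70576,nat_lit 311611,nat_lit 523068,nat_lit 1643545,nat_lit 26291,nat_lit 335,nat_lit 4217536,nat_lit 81605,nat_lit 320597,nat_lit 1465280,nat_lit 276905,nat_lit 4176,nat_lit 1337681,nat_lit 1721701,nat_lit 353283,nat_lit 86463,nat_lit 1330753,nat_lit 5884,nat_lit 522587,nat_lit 267695,nat_lit 115989,nat_lit 86222,nat_lit 267494,nat_lit 365632,nat_lit 437497,nat_lit 1135878,nat_lit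 349761,nat_lit 350465,nat_lit 7248,nat_lit 334081,nat_lit 1456,nat_lit 1815440,nat_lit 26944,nat_lit 21562,nat_lit 289779,nat_lit 340972,nat_lit 289486,nat_lit 311731,nat_lit 1129221,nat_lit 365635,nat_lit 7155,nat_lit 452287,nat_lit 322496,nat_lit 351036,nat_lit 109142,nat_lit 415379,nat_lit 1160112,nat_lit 1841940,nat_lit 113350,nat_lit 279444,nat_lit 1260123,nat_lit 16716,nat_lit 522938,nat_lit 110363,nat_lit 312910,nat_lit 125674,nat_lit 416356,nat_lit 78095,nat_lit 17302,nat_lit 1421674,nat_lit 285390,nat_lit 414057,nat_lit 1770496,nat_lit 507580,nat_lit 17327,nat_lit 110235,nat_lit 436485,nat_lit 435535,nat_lit 26289,nat_lit 419260,nat_lit 72431,nat_lit 1659137,nat_lit 5887,nat_lit 1135539,nat_lit 1337701,nat_lit 67313,nat_lit 504046,nat_lit 462422,nat_lit 5425,nat_lit 415387,nat_lit 1137429,nat_lit 418923,nat_lit 6937,nat_lit 66448,nat_lit 23317,nat_lit 82005,nat_lit 27343,nat_lit 415142,nat_lit 2074047,nat_lit 277753,nat_lit 1130410,nat_lit 81562,nat_lit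 85930,nat_lit 436822,nat_lit 1742022,nat_lit 452345,nat_lit 28907,nat_lit 80639,nat_lit 437166,nat_lit 327932,nat_lit 312404,nat_lit 451856,nat_lit 20497,nat_lit 5561,nat_lit 78169,nat_lit 459692,nat_lit 1743531,nat_lit 20713,nat_lit 1159061,nat_lit 347843,nat_lit 1988266,nat_lit 446211,nat_lit 71317,nat_lit 265921,nat_lit 320953,nat_lit 442650,nat_lit 326633,nat_lit 289897,nat_lit 498675,nat_lit 343089,nat_lit 70569,nat_lit 8101,nat_lit 344852,nat_lit 1413132,nat_lit 4206939,nat_lit 130297,nat_lit 500820,nat_lit 8105,nat_lit 435910,nat_lit 27414,nat_lit 340304,nat_lit 1069413,nat_lit 28265,nat_lit 21825,nat_lit 327253,nat_lit 262457,nat_lit 1131941,nat_lit 365562,nat_lit 326387,nat_lit 457665,nat_lit 29631,nat_lit 88401,nat_lit 27392,nat_lit 334742,nat_lit 1063696,nat_lit 322629,nat_lit 28428,nat_lit 503470,nat_lit 278841,nat_lit 20885,nat_lit 7934,nat_lit 1332204,nat_lit 370091,nat_lit 262350,nat_lit 420545,nat_lit 463040,nat_lit 340305,nat_lit 1766,nat_lit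 1383312,nat_lit 80618,nat_lit 1840129,nat_lit 115966,nat_lit 454592,nat_lit 376062,nat_lit 462860,nat_lit 1309359,nat_lit 375104,nat_lit 282515,nat_lit 85694,nat_lit 507648,nat_lit 28336,nat_lit 1049882,nat_lit 1283068,nat_lit 1049578,nat_lit 80198,nat_lit 436814,nat_lit 5574547,nat_lit 127214,nat_lit 104015,nat_lit 366244,nat_lit 420932,nat_lit 71417,nat_lit 503550,nat_lit 276748,nat_lit 82188,nat_lit 80448,nat_lit 1501875,nat_lit 460528,nat_lit 315139,nat_lit 520446,nat_lit 1246969,nat_lit 1375460,nat_lit 277267,nat_lit 366265,nat_lit 85232,nat_lit 1311995,nat_lit 20069,nat_lit 104752,nat_lit 1061115,nat_lit 83369,nat_lit 1369683,nat_lit 82000,nat_lit 410852,nat_lit 2010009,nat_lit 110272,nat_lit 522948,nat_lit 274481,nat_lit 80494,nat_lit 280148,nat_lit 4254401,nat_lit 94158,nat_lit 115711,nat_lit 21396,nat_lit 82182,nat_lit 70457,nat_lit 66565,nat_lit 1371108,nat_lit 31406,nat_lit 290585,nat_lit 1250561,nat_lit 1751701,nat_lit 4210382,nat_lit 94203,nat_lit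 263449,nat_lit 28693,nat_lit 1641,nat_lit 414035,nat_lit 435907,nat_lit 6405,nat_lit 344005,nat_lit 4203,nat_lit 130732,nat_lit 329391,nat_lit 1985764,nat_lit 267268,nat_lit 1991872,nat_lit 329465,nat_lit 342339,nat_lit 4878,nat_lit 1134161,nat_lit 27632,nat_lit 320529,nat_lit 115955,nat_lit 332569,nat_lit 5371,nat_lit 462441,nat_lit 1324027,nat_lit 520105,nat_lit 25873,nat_lit 349585,nat_lit 373739,nat_lit 1413204,nat_lit 1160170,nat_lit 285423,nat_lit 290033,nat_lit 263065,nat_lit 419012,nat_lit 442646,nat_lit 1097968,nat_lit 496533,nat_lit 413689,nat_lit 7087,nat_lit 375460,nat_lit 118507,nat_lit 349763,nat_lit 28433,nat_lit 520113,nat_lit 371738,nat_lit 72645,nat_lit 1063961,nat_lit 124614,nat_lit 7278,nat_lit 64,nat_lit 1327929,nat_lit 104788,nat_lit 502463,nat_lit 451921,nat_lit 263180,nat_lit 129989,nat_lit 130739,nat_lit 5124,nat_lit 81146,nat_lit 1261310,nat_lit 72297,nat_lit 83690,nat_lit 28478,nat_lit 17300,nat_lit 1053755,nat_lit 1284800,nat_lit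 21311,nat_lit 116315,nat_lit 109253,nat_lit 331457,nat_lit 87472,nat_lit 70417,nat_lit 16819,nat_lit 7961,nat_lit 328043,nat_lit 81555,nat_lit 289519,nat_lit 502502,nat_lit 281684,nat_lit 65647,nat_lit 439268,nat_lit 431123,nat_lit 83635,nat_lit 114884,nat_lit 371118,nat_lit 464300,nat_lit 1328881,nat_lit 276784,nat_lit 441369,nat_lit 369996,nat_lit 1049,nat_lit 289029,nat_lit 112982,nat_lit 104764,nat_lit 279809,nat_lit 321942,nat_lit 376512,nat_lit 105200,nat_lit 8166,nat_lit 437161,nat_lit 334830,nat_lit 124483,nat_lit 89062,nat_lit 1099334,nat_lit 83627,nat_lit 5443,nat_lit 67262,nat_lit 283562,nat_lit 1289978,nat_lit 130801,nat_lit 130046,nat_lit 1380719,nat_lit 312410,nat_lit 282177,nat_lit 1420339,nat_lit 1049358,nat_lit 1370,nat_lit 432837,nat_lit 111036,nat_lit 66902,nat_lit 265900,nat_lit 124564,nat_lit 29094,nat_lit 522521,nat_lit 124337,nat_lit 103530,nat_lit 82867,nat_lit 70630,nat_lit 1423674,nat_lit 263450,nat_lit 111033,nat_lit 130156,nat_lit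 1061206,nat_lit 118379,nat_lit 282267,nat_lit 290394,nat_lit 5477,nat_lit 268623,nat_lit 5541,nat_lit 267930,nat_lit 81689,nat_lit 110915,nat_lit 375486,nat_lit 108282,nat_lit 87628,nat_lit 420154,nat_lit 125625,nat_lit 282980,nat_lit 265977,nat_lit 290469,nat_lit 102681,nat_lit 78251,nat_lit 4220005,nat_lit 110254,nat_lit 282681,nat_lit 89081,nat_lit 1726820,nat_lit 124570,nat_lit 1049344,nat_lit 65600,nat_lit 458491,nat_lit 1127406,nat_lit 458671,nat_lit 523071,nat_lit 27411,nat_lit 21758,nat_lit 283902,nat_lit 454961,nat_lit 4199616,nat_lit 1101488,nat_lit 289030,nat_lit 1066246,nat_lit 327417,nat_lit 1107206,nat_lit 6406,nat_lit 94201,nat_lit 21483,nat_lit 1501587,nat_lit 80794,nat_lit 1118271,nat_lit 114579,nat_lit 371397,nat_lit 285444,nat_lit 124670,nat_lit 268992,nat_lit 20249,nat_lit 289045,nat_lit 459057,nat_lit 7185,nat_lit 115088,nat_lit 266044,nat_lit 1063908,nat_lit 263835,nat_lit 1391505,nat_lit 420665,nat_lit 126949,nat_lit 114425,nat_lit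 70995,nat_lit 18174,nat_lit 1480369,nat_lit 268977,nat_lit 342294,nat_lit 114895,nat_lit 80235,nat_lit 463248,nat_lit 283668,nat_lit 373171,nat_lit 17465,nat_lit 496529,nat_lit 509350,nat_lit 17647,nat_lit 6969,nat_lit 410575,nat_lit 1074538,nat_lit 21939,nat_lit 30995,nat_lit 115009,nat_lit 495673,nat_lit 110524,nat_lit 4525136,nat_lit 80810,nat_lit 5012,nat_lit 7936,nat_lit 78833,nat_lit 1423802,nat_lit 410939,nat_lit 263833,nat_lit 83542,nat_lit 372677,nat_lit 1049875,nat_lit 87759,nat_lit 413433,nat_lit 8112,nat_lit 7996,nat_lit 1126457,nat_lit 32323,nat_lit 442006,nat_lit 269231,nat_lit 1052677,nat_lit 375376,nat_lit 277164,nat_lit 323859,nat_lit 1049594,nat_lit 1152762,nat_lit 365550,nat_lit 1107605,nat_lit 69867,nat_lit 517466,nat_lit 278810,nat_lit 1991756,nat_lit 1819598,nat_lit 327948,nat_lit 1119155,nat_lit 25797,nat_lit 4884,nat_lit 131052,nat_lit 1152238,nat_lit 432746,nat_lit 328687,nat_lit 28755,nat_lit 70572,nat_lit 1380372,nat_lit 104089,nat_lit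 126201,nat_lit 323989,nat_lit 69972,nat_lit 4211129,nat_lit 265924,nat_lit 1152241,nat_lit 31126,nat_lit 415081,nat_lit 110996,nat_lit 1740993,nat_lit 66803,nat_lit 92923,nat_lit 502683,nat_lit 126996,nat_lit 328942,nat_lit 83364,nat_lit 1284922,nat_lit 454927,nat_lit 7258,nat_lit 71099,nat_lit 1762331,nat_lit 1070481,nat_lit 94012,nat_lit 320875,nat_lit 88660,nat_lit 518458,nat_lit 275365,nat_lit 1070486,nat_lit 453548,nat_lit 26881,nat_lit 88659,nat_lit 1068652,nat_lit 1151038,nat_lit 376051,nat_lit 458489,nat_lit 312745,nat_lit 1068113,nat_lit 31827,nat_lit 1129124,nat_lit 1288537,nat_lit 1316528,nat_lit 5796,nat_lit 5041222,nat_lit 1768388,nat_lit 107763,nat_lit 70896,nat_lit 82154,nat_lit 1162323,nat_lit 32406,nat_lit 6510,nat_lit 81147,nat_lit 65897,nat_lit 17644,nat_lit 82854,nat_lit 326323,nat_lit 110147,nat_lit 334737,nat_lit 409851,nat_lit 1118996,nat_lit 283652,nat_lit 1489983,nat_lit 7402,nat_lit 413646,nat_lit 1260217,nat_lit 274862,nat_lit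 125334,nat_lit 115023,nat_lit 28435,nat_lit 108100,nat_lit 267982,nat_lit 69939,nat_lit 105470,nat_lit 32691,nat_lit 278442,nat_lit 1142470,nat_lit 455091,nat_lit 111507,nat_lit 364,nat_lit 277759,nat_lit 1742572,nat_lit 323571,nat_lit 1989551,nat_lit 80873,nat_lit 19460,nat_lit 125630,nat_lit 433060,nat_lit 268009,nat_lit 414719,nat_lit 1107525,nat_lit 1664004,nat_lit 1119486,nat_lit 343706,nat_lit 281604,nat_lit 7217,nat_lit 364651,nat_lit 285635,nat_lit 1141183,nat_lit 465173,nat_lit 443971,nat_lit 278464,nat_lit 369989,nat_lit 1069285,nat_lit 420761,nat_lit 1101723,nat_lit 85071,nat_lit 1316499,nat_lit 519397,nat_lit 124224,nat_lit 1724506,nat_lit 102659,nat_lit 82949,nat_lit 414015,nat_lit 325945,nat_lit 431189,nat_lit 2014202,nat_lit 1489937,nat_lit 375366,nat_lit 463932,nat_lit 455631,nat_lit 127343,nat_lit 20038,nat_lit 81969,nat_lit 452302,nat_lit 320767,nat_lit 4187,nat_lit 365998,nat_lit 1069478,nat_lit 80620,nat_lit 102484,nat_lit 1828156,nat_lit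 104112,nat_lit 8127,nat_lit 1134572,nat_lit 102713,nat_lit 104763,nat_lit 17343,nat_lit 274496,nat_lit 263084,nat_lit 70889,nat_lit 1066692,nat_lit 110827,nat_lit 332816,nat_lit 116390,nat_lit 27059,nat_lit 28249,nat_lit 19566,nat_lit 5375,nat_lit 28239,nat_lit 82881,nat_lit 457753,nat_lit 23108,nat_lit 127035,nat_lit 114940,nat_lit 1751301,nat_lit 431683,nat_lit 1292629,nat_lit 345676,nat_lit 1311043,nat_lit 329008,nat_lit 1650772,nat_lit 25925,nat_lit 263771,nat_lit 1134181,nat_lit 313075,nat_lit 103865,nat_lit 104100,nat_lit 1654852,nat_lit 28592,nat_lit 431686,nat_lit 1306986,nat_lit 415398,nat_lit 114261,nat_lit 267324,nat_lit 323155,nat_lit 1396805,nat_lit 4431,nat_lit 125632,nat_lit 348219,nat_lit 26021,nat_lit 127916,nat_lit 1135014,nat_lit 1309260,nat_lit 91225,nat_lit 21571,nat_lit 104810,nat_lit 1729562,nat_lit 432790,nat_lit 285332,nat_lit 71404,nat_lit 86460,nat_lit 350798,nat_lit 1956,nat_lit 1289243,nat_lit 344490,nat_lit 1707,nat_lit 70735,nat_lit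 1151398,nat_lit 266265,nat_lit 66756,nat_lit 32572,nat_lit 263921,nat_lit 1725633,nat_lit 282353,nat_lit 86084,nat_lit 319,nat_lit 112918,nat_lit 1066041,nat_lit 446399,nat_lit 410724,nat_lit 20229,nat_lit 365888,nat_lit 28309,nat_lit 1099471,nat_lit 6766,nat_lit 413939,nat_lit 81990,nat_lit 268595,nat_lit 415425,nat_lit 323835,nat_lit 343795,nat_lit 87270,nat_lit 108180,nat_lit 71360,nat_lit 267583,nat_lit 87141,nat_lit 440625,nat_lit 87792,nat_lit 4196,nat_lit 125210,nat_lit 5107,nat_lit 105030,nat_lit 463870,nat_lit 22849,nat_lit 267867,nat_lit 1055034,nat_lit 413974,nat_lit 4415,nat_lit 1121002,nat_lit 108116,nat_lit 1293969,nat_lit 322326,nat_lit 263451,nat_lit 112912,nat_lit 21851,nat_lit 262501,nat_lit 22801,nat_lit 519941,nat_lit 126912,nat_lit 126203,nat_lit 93787,nat_lit 501019,nat_lit 1137433,nat_lit 86037,nat_lit 1113872,nat_lit 443395,nat_lit 366332,nat_lit 459971,nat_lit 21595,nat_lit 86019,nat_lit 459670,nat_lit 20467,nat_lit 458388,nat_lit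 28357,nat_lit 1382138,nat_lit 311659,nat_lit 102705,nat_lit 278597,nat_lit 460476,nat_lit 336,nat_lit 103531,nat_lit 411311,nat_lit 284352,nat_lit 7744,nat_lit 340900,nat_lit 366161,nat_lit 110506,nat_lit 1137241,nat_lit 263525,nat_lit 323904,nat_lit 31727,nat_lit 277136,nat_lit 322558,nat_lit 93891,nat_lit 1372410,nat_lit 109674,nat_lit 438267,nat_lit 1414463,nat_lit 263252,nat_lit 331852,nat_lit 1115580,nat_lit 1306181,nat_lit 26937,nat_lit 5359,nat_lit 1098736,nat_lit 72384,nat_lit 1603,nat_lit 458731,nat_lit 460026,nat_lit 16720,nat_lit 523374,nat_lit 21905,nat_lit 365659,nat_lit 323670,nat_lit 266236,nat_lit 410033,nat_lit 327769,nat_lit 87354,nat_lit 1249023,nat_lit 91329,nat_lit 364865,nat_lit 1654540,nat_lit 67142,nat_lit 521148,nat_lit 462767,nat_lit 4108,nat_lit 321198,nat_lit 1151979,nat_lit 501339,nat_lit 66510,nat_lit 511,nat_lit 5822,nat_lit 502515,nat_lit 81006,nat_lit 365456,nat_lit 1360828,nat_lit 1770836,nat_lit 267284,nat_lit 6810,nat_lit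 521189,nat_lit 1064955,nat_lit 500844,nat_lit 278764,nat_lit 130878,nat_lit 274501,nat_lit 463281,nat_lit 27878,nat_lit 26297,nat_lit 1105,nat_lit 419241,nat_lit 312067,nat_lit 22166,nat_lit 66987,nat_lit 65556,nat_lit 115982,nat_lit 371301,nat_lit 507985,nat_lit 1141860,nat_lit 334166,nat_lit 127044,nat_lit 1326076,nat_lit 82931,nat_lit 431387,nat_lit 326421,nat_lit 333201,nat_lit 103418,nat_lit 275353,nat_lit 1331450,nat_lit 1049541,nat_lit 28667,nat_lit 268969,nat_lit 507798,nat_lit 1308993,nat_lit 1142761,nat_lit 4336,nat_lit 127918,nat_lit 452891,nat_lit 1336596,nat_lit 324601,nat_lit 344489,nat_lit 78255,nat_lit 1314025,nat_lit 497067,nat_lit 454649,nat_lit 1071764,nat_lit 81596,nat_lit 1107542,nat_lit 1404869,nat_lit 116313,nat_lit 342458,nat_lit 311402,nat_lit 457284,nat_lit 500756,nat_lit 376060,nat_lit 1807683,nat_lit 94185,nat_lit 108884,nat_lit 1306985,nat_lit 20284,nat_lit 16470,nat_lit 1446,nat_lit 81135,nat_lit 441,nat_lit 1074618,nat_lit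 83,nat_lit 1134522,nat_lit 267345,nat_lit 16441,nat_lit 1119978,nat_lit 80633,nat_lit 25663,nat_lit 105456,nat_lit 85910,nat_lit 26346,nat_lit 1401961,nat_lit 28673,nat_lit 103696,nat_lit 327401,nat_lit 1135889,nat_lit 31065,nat_lit 1421644,nat_lit 460037,nat_lit 27902,nat_lit 107520,nat_lit 1394404,nat_lit 107535,nat_lit 1506389,nat_lit 1305273,nat_lit 473347,nat_lit 21510,nat_lit 69,nat_lit 1134,nat_lit 353614,nat_lit 89065,nat_lit 332026,nat_lit 21947,nat_lit 125273,nat_lit 2025110,nat_lit 1850433,nat_lit 23532,nat_lit 1161636,nat_lit 269205,nat_lit 1119121,nat_lit 1776318,nat_lit 323604,nat_lit 87118,nat_lit 126016,nat_lit 1251051,nat_lit 112897,nat_lit 92422,nat_lit 1937,nat_lit 4263849,nat_lit 324548,nat_lit 21509,nat_lit 32745,nat_lit 438245,nat_lit 345529,nat_lit 20591,nat_lit 327343,nat_lit 83227,nat_lit 89086,nat_lit 1284441,nat_lit 1328063,nat_lit 111566,nat_lit 1850382,nat_lit 32666,nat_lit 21929,nat_lit 453550,nat_lit 26300,nat_lit 22081,nat_lit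 323140,nat_lit 80191,nat_lit 326334,nat_lit 263568,nat_lit 277232,nat_lit 91392,nat_lit 88337,nat_lit 1110293,nat_lit 1130732,nat_lit 16707,nat_lit 107946,nat_lit 110693,nat_lit 1106949,nat_lit 20881,nat_lit 464314,nat_lit 4325,nat_lit 1369445,nat_lit 375567,nat_lit 1977,nat_lit 372836,nat_lit 1677040,nat_lit 438268,nat_lit 348494,nat_lit 110355,nat_lit 1142540,nat_lit 1298150,nat_lit 432879,nat_lit 1110270,nat_lit 70932,nat_lit 1732240,nat_lit 442451,nat_lit 263148,nat_lit 1841487,nat_lit 92908,nat_lit 87404,nat_lit 5125,nat_lit 4529,nat_lit 520250,nat_lit 23299,nat_lit 77900,nat_lit 321977,nat_lit 1776,nat_lit 375462,nat_lit 350899,nat_lit 130843,nat_lit 88844,nat_lit 282281,nat_lit 463099,nat_lit 430425,nat_lit 23121,nat_lit 460517,nat_lit 1363603,nat_lit 269073,nat_lit 433046,nat_lit 348563,nat_lit 353360,nat_lit 1762371,nat_lit 328979,nat_lit 93883,nat_lit 323137,nat_lit 16411,nat_lit 413787,nat_lit 500825,nat_lit 376038,nat_lit 5057,nat_lit 285333,nat_lit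 110394,nat_lit 421628,nat_lit 80953,nat_lit 263436,nat_lit 263909,nat_lit 113428,nat_lit 443982,nat_lit 453862,nat_lit 1296105,nat_lit 266001,nat_lit 1152081,nat_lit 311318,nat_lit 437331,nat_lit 1463555,nat_lit 1113092,nat_lit 8085,nat_lit 348179,nat_lit 334415,nat_lit 334163,nat_lit 375909,nat_lit 1156531,nat_lit 1305596,nat_lit 67155,nat_lit 461888,nat_lit 370003,nat_lit 125519,nat_lit 375364,nat_lit 440943,nat_lit 322815,nat_lit 5445,nat_lit 327939,nat_lit 463791,nat_lit 1071887,nat_lit 289520,nat_lit 1036,nat_lit 22201,nat_lit 83035,nat_lit 1643630,nat_lit 410886,nat_lit 28953,nat_lit 263409,nat_lit 369668,nat_lit 1828110,nat_lit 410959,nat_lit 1132204,nat_lit 6805,nat_lit 416451,nat_lit 312294,nat_lit 16454,nat_lit 67161,nat_lit 1099438,nat_lit 268025,nat_lit 109583,nat_lit 5200,nat_lit 1316166,nat_lit 22214,nat_lit 457740,nat_lit 1375996,nat_lit 5403,nat_lit 321104,nat_lit 342842,nat_lit 1133654,nat_lit 345670,nat_lit 69566,nat_lit 1119125,nat_lit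 1724089,nat_lit 1305499,nat_lit 123984,nat_lit 110651,nat_lit 276844,nat_lit 17669,nat_lit 519082,nat_lit 1459513,nat_lit 265795,nat_lit 1336336,nat_lit 110353,nat_lit 83002,nat_lit 440590,nat_lit 5396,nat_lit 68862,nat_lit 1052409,nat_lit 520617,nat_lit 1251065,nat_lit 1936,nat_lit 463188,nat_lit 28593,nat_lit 1053780,nat_lit 69550,nat_lit 66320,nat_lit 111525,nat_lit 1117955,nat_lit 103406,nat_lit 421118,nat_lit 290793,nat_lit 115774,nat_lit 82709,nat_lit 1403540,nat_lit 28623,nat_lit 110483,nat_lit 16475,nat_lit 114924,nat_lit 414828,nat_lit 322127,nat_lit 70849,nat_lit 1049839,nat_lit 18117,nat_lit 269305,nat_lit 267667,nat_lit 414633,nat_lit 7827,nat_lit 403,nat_lit 21307,nat_lit 1731163,nat_lit 72398,nat_lit 1330260,nat_lit 23109,nat_lit 1068133,nat_lit 1396995,nat_lit 4499,nat_lit 372672,nat_lit 446222,nat_lit 342683,nat_lit 282894,nat_lit 4441841,nat_lit 334425,nat_lit 457450,nat_lit 21841,nat_lit 340017,nat_lit 1305585,nat_lit 366246,nat_lit 27290,nat_lit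 1115888,nat_lit 1108729,nat_lit 1712,nat_lit 327875,nat_lit 16656,nat_lit 114705,nat_lit 343102,nat_lit 1309502,nat_lit 70756,nat_lit 511942,nat_lit 311397,nat_lit 93860,nat_lit 116147,nat_lit 464148,nat_lit 32341,nat_lit 6742,nat_lit 1130587,nat_lit 130828,nat_lit 354629,nat_lit 108900,nat_lit 16627,nat_lit 1296,nat_lit 1658901,nat_lit 1683545,nat_lit 21401,nat_lit 20672,nat_lit 80570,nat_lit 511685,nat_lit 1141759,nat_lit 125673,nat_lit 1114902,nat_lit 1068720,nat_lit 432473,nat_lit 1250395,nat_lit 109652,nat_lit 263402,nat_lit 1063685,nat_lit 70912,nat_lit 6862,nat_lit 107925,nat_lit 1828523,nat_lit 102762,nat_lit 1055409,nat_lit 109648,nat_lit 325988,nat_lit 17841,nat_lit 283972,nat_lit 22163,nat_lit 1159118,nat_lit 349626,nat_lit 431012,nat_lit 266587,nat_lit 432409,nat_lit 350886,nat_lit 1683728,nat_lit 1249020,nat_lit 81814,nat_lit 330843,nat_lit 376782,nat_lit 313023,nat_lit 453379,nat_lit 115967,nat_lit 86320,nat_lit 1108630,nat_lit 1107711,nat_lit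 27625,nat_lit 278782,nat_lit 92750,nat_lit 1290255,nat_lit 376063,nat_lit 85695,nat_lit 287770,nat_lit 1309759,nat_lit 1117780,nat_lit 129700,nat_lit 1323973,nat_lit 115118,nat_lit 85077,nat_lit 65840,nat_lit 115798,nat_lit 20379,nat_lit 1309465,nat_lit 280250,nat_lit 1276,nat_lit 1303750,nat_lit 1115802,nat_lit 1055475,nat_lit 16474,nat_lit 5164997,nat_lit 5562,nat_lit 523205,nat_lit 412735,nat_lit 2095813,nat_lit 20394,nat_lit 6842,nat_lit 7852,nat_lit 433,nat_lit 85776,nat_lit 323916,nat_lit 1101574,nat_lit 410820,nat_lit 461843,nat_lit 524049,nat_lit 28944,nat_lit 464569,nat_lit 65619,nat_lit 347139,nat_lit 1664345,nat_lit 262209,nat_lit 1259,nat_lit 130767,nat_lit 345515,nat_lit 26190,nat_lit 502358,nat_lit 351167,nat_lit 457477,nat_lit 1072113,nat_lit 103868,nat_lit 353712,nat_lit 28950,nat_lit 275344,nat_lit 523035,nat_lit 91397,nat_lit 86447,nat_lit 86963,nat_lit 1900302,nat_lit 416499,nat_lit 345022,nat_lit 4457572,nat_lit 4522346,nat_lit 125595,nat_lit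 21482,nat_lit 1055695,nat_lit 263834,nat_lit 1076986,nat_lit 21937,nat_lit 413763,nat_lit 1316079,nat_lit 16718,nat_lit 1158906,nat_lit 1082,nat_lit 1161798,nat_lit 1052591,nat_lit 69740,nat_lit 81849,nat_lit 88835,nat_lit 343866,nat_lit 80923,nat_lit 326657,nat_lit 1896196,nat_lit 371798,nat_lit 349289,nat_lit 438533,nat_lit 5969657,nat_lit 103664,nat_lit 498004,nat_lit 1492414,nat_lit 353295,nat_lit 26303,nat_lit 1841769,nat_lit 88847,nat_lit 376506,nat_lit 463948,nat_lit 93764,nat_lit 5070,nat_lit 87366,nat_lit 31643,nat_lit 333125,nat_lit 23302,nat_lit 285590,nat_lit 1458607,nat_lit 275450,nat_lit 1115076,nat_lit 28997,nat_lit 113262,nat_lit 69568,nat_lit 92911,nat_lit 355301,nat_lit 87407,nat_lit 1396993,nat_lit 414785,nat_lit 130820,nat_lit 290575,nat_lit 410931,nat_lit 1039,nat_lit 67002,nat_lit 351225,nat_lit 1290300,nat_lit 331002,nat_lit 280218,nat_lit 420159,nat_lit 267323,nat_lit 369947,nat_lit 124229,nat_lit 91386,nat_lit 323161,nat_lit 438357,nat_lit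 65729,nat_lit 431684,nat_lit 323909,nat_lit 82325,nat_lit 20196,nat_lit 342790,nat_lit 263151,nat_lit 282725,nat_lit 1334017,nat_lit 1051660,nat_lit 414790,nat_lit 289552,nat_lit 1807601,nat_lit 91153,nat_lit 340206,nat_lit 108885,nat_lit 1754124,nat_lit 72475,nat_lit 1069134,nat_lit 284357,nat_lit 334841,nat_lit 113668,nat_lit 414659,nat_lit 113601,nat_lit 130062,nat_lit 463253,nat_lit 263571,nat_lit 276885,nat_lit 21439,nat_lit 345686,nat_lit 23460,nat_lit 4222555,nat_lit 460364,nat_lit 460108,nat_lit 334844,nat_lit 461891,nat_lit 4433,nat_lit 69211,nat_lit 114433,nat_lit 91395,nat_lit 355227,nat_lit 1055638,nat_lit 263439,nat_lit 435434,nat_lit 28757,nat_lit 28773,nat_lit 454678,nat_lit 109633,nat_lit 327276,nat_lit 65765,nat_lit 370086,nat_lit 86003,nat_lit 1141844,nat_lit 433068,nat_lit 81556,nat_lit 70924,nat_lit 282858,nat_lit 77903,nat_lit 1779,nat_lit 372814,nat_lit 435942,nat_lit 345829,nat_lit 107966,nat_lit 289523,nat_lit 262213,nat_lit 86341,nat_lit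 7089,nat_lit 418926,nat_lit 87131,nat_lit 277235,nat_lit 126542,nat_lit 1339334,nat_lit 1418681,nat_lit 85929,nat_lit 511664,nat_lit 1069253,nat_lit 463249,nat_lit 1742529,nat_lit 1807381,nat_lit 1063534,nat_lit 86085,nat_lit 364945,nat_lit 116075,nat_lit 421119,nat_lit 108987,nat_lit 6828,nat_lit 331705,nat_lit 457732,nat_lit 412693,nat_lit 20236,nat_lit 500979,nat_lit 354668,nat_lit 1134276,nat_lit 282342,nat_lit 1290182,nat_lit 114928,nat_lit 1314755,nat_lit 371003,nat_lit 1151985,nat_lit 345337,nat_lit 1338046,nat_lit 354981,nat_lit 1064027,nat_lit 265451,nat_lit 274778,nat_lit 1117967,nat_lit 20251,nat_lit 329025,nat_lit 112917,nat_lit 356099,nat_lit 323653,nat_lit 432745,nat_lit 4123,nat_lit 1818318,nat_lit 28228,nat_lit 92816,nat_lit 7962,nat_lit 70892,nat_lit 81998,nat_lit 20571,nat_lit 83711,nat_lit 356282,nat_lit 123973,nat_lit 438614,nat_lit 1492569,nat_lit 1282062,nat_lit 4277140,nat_lit 113297,nat_lit 25872,nat_lit 102,nat_lit 345850,nat_lit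 115961,nat_lit 17171,nat_lit 1158724,nat_lit 65790,nat_lit 289444,nat_lit 501140,nat_lit 87641,nat_lit 28741,nat_lit 131006,nat_lit 110672,nat_lit 438171,nat_lit 435407,nat_lit 282639,nat_lit 430319,nat_lit 442124,nat_lit 1114553,nat_lit 289456,nat_lit 102412,nat_lit 1459248,nat_lit 5113,nat_lit 29097,nat_lit 460529,nat_lit 125947,nat_lit 268880,nat_lit 371663,nat_lit 1464644,nat_lit 70969,nat_lit 1129715,nat_lit 277103,nat_lit 323502,nat_lit 334171,nat_lit 88320,nat_lit 5819,nat_lit 68842,nat_lit 1119161,nat_lit 1653139,nat_lit 416443,nat_lit 1500586,nat_lit 4522,nat_lit 82256,nat_lit 1392662,nat_lit 506203,nat_lit 343961,nat_lit 70714,nat_lit 435777,nat_lit 91498,nat_lit 266244,nat_lit 1451,nat_lit 71963,nat_lit 430875,nat_lit 289427,nat_lit 28352,nat_lit 1303792,nat_lit 5178,nat_lit 1643460,nat_lit 1159408,nat_lit 1061119,nat_lit 93260,nat_lit 276816,nat_lit 1126681,nat_lit 26353,nat_lit 1073,nat_lit 404,nat_lit 112913,nat_lit 457804,nat_lit 31147,nat_lit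 109631,nat_lit 129626,nat_lit 1134619,nat_lit 348522,nat_lit 458323,nat_lit 20565,nat_lit 507797,nat_lit 115641,nat_lit 65812,nat_lit 23446,nat_lit 276881,nat_lit 72640,nat_lit 495813,nat_lit 16698,nat_lit 364825,nat_lit 451857,nat_lit 72047,nat_lit 93295,nat_lit 289557,nat_lit 7994,nat_lit 442267,nat_lit 22853,nat_lit 27877,nat_lit 1360953,nat_lit 7870,nat_lit 277443,nat_lit 77843,nat_lit 28420,nat_lit 462,nat_lit 454854,nat_lit 1053694,nat_lit 375868,nat_lit 376570,nat_lit 278847,nat_lit 1119294,nat_lit 369892,nat_lit 118441,nat_lit 266006,nat_lit 1158801,nat_lit 435215,nat_lit 69205,nat_lit 20540,nat_lit 77892,nat_lit 25852,nat_lit 414746,nat_lit 80213,nat_lit 329299,nat_lit 4922,nat_lit 312577,nat_lit 65878,nat_lit 1109103,nat_lit 283844,nat_lit 334483,nat_lit 265925,nat_lit 20907,nat_lit 1380374,nat_lit 1245523,nat_lit 443748,nat_lit 20556,nat_lit 1361091,nat_lit 375550,nat_lit 67001,nat_lit 458446,nat_lit 88378,nat_lit 69525,nat_lit 333548,nat_lit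 93135,nat_lit 32510,nat_lit 1126670,nat_lit 5312,nat_lit 1328846,nat_lit 508246,nat_lit 87034,nat_lit 475066,nat_lit 268654,nat_lit 25920,nat_lit 1137228,nat_lit 420785,nat_lit 103771,nat_lit 353721,nat_lit 66641,nat_lit 1051663,nat_lit 416444,nat_lit 1110417,nat_lit 274859,nat_lit 20507,nat_lit 269233,nat_lit 85761,nat_lit 350917,nat_lit 475030,nat_lit 115964,nat_lit 110873,nat_lit 68671,nat_lit 1064043,nat_lit 127888,nat_lit 70720,nat_lit 323578,nat_lit 263232,nat_lit 1110272,nat_lit 25708,nat_lit 1050361,nat_lit 66539,nat_lit 80188,nat_lit 127086,nat_lit 437825,nat_lit 16740,nat_lit 4332,nat_lit 112966,nat_lit 284251,nat_lit 92497,nat_lit 85242,nat_lit 366164,nat_lit 1363562,nat_lit 371050,nat_lit 65978,nat_lit 1401876,nat_lit 108821,nat_lit 344853,nat_lit 356246,nat_lit 322305,nat_lit 111567,nat_lit 354636,nat_lit 344849,nat_lit 354645,nat_lit 323844,nat_lit 1141996,nat_lit 1462268,nat_lit 26282,nat_lit 80219,nat_lit 21395,nat_lit 88836,nat_lit 69289,nat_lit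 129614,nat_lit 126953,nat_lit 86356,nat_lit 114707,nat_lit 283968,nat_lit 376572,nat_lit 326420,nat_lit 31764,nat_lit 103653,nat_lit 347891,nat_lit 1049365,nat_lit 451663,nat_lit 278457,nat_lit 69956,nat_lit 1053017,nat_lit 18097,nat_lit 22193,nat_lit 1292884,nat_lit 1049003,nat_lit 1259779,nat_lit 21481,nat_lit 78156,nat_lit 114494,nat_lit 1389519,nat_lit 344403,nat_lit 21530,nat_lit 4280294,nat_lit 92523,nat_lit 123920,nat_lit 312403,nat_lit 1396750,nat_lit 2093041,nat_lit 80581,nat_lit 323580,nat_lit 412783,nat_lit 1413134,nat_lit 88334,nat_lit 114243,nat_lit 113427,nat_lit 20287,nat_lit 7150,nat_lit 371803,nat_lit 277306,nat_lit 78019,nat_lit 17385,nat_lit 72273,nat_lit 1401860,nat_lit 109590,nat_lit 91418,nat_lit 411226,nat_lit 348241,nat_lit 342784,nat_lit 17423,nat_lit 18126,nat_lit 1676313,nat_lit 25686,nat_lit 282288,nat_lit 126908,nat_lit 123926,nat_lit 91150,nat_lit 114667,nat_lit 126992,nat_lit 5142,nat_lit 1064723,nat_lit 369721,nat_lit 32570,nat_lit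 278249,nat_lit 72292,nat_lit 7886,nat_lit 1344,nat_lit 70678,nat_lit 6725,nat_lit 104720,nat_lit 7871,nat_lit 413414,nat_lit 322154,nat_lit 329307,nat_lit 72278,nat_lit 8124,nat_lit 88767,nat_lit 21555,nat_lit 6844,nat_lit 22222,nat_lit 1118980,nat_lit 85610,nat_lit 105104,nat_lit 88644,nat_lit 1458451,nat_lit 6545,nat_lit 88853,nat_lit 1055466,nat_lit 263769,nat_lit 1640102,nat_lit 1115882,nat_lit 415162,nat_lit 110821,nat_lit 20134,nat_lit 517316,nat_lit 288059,nat_lit 72676,nat_lit 1141396,nat_lit 87323,nat_lit 504132,nat_lit 4265155,nat_lit 284052,nat_lit 376816,nat_lit 1112730,nat_lit 5865,nat_lit 1119504,nat_lit 1370380,nat_lit 92921,nat_lit 82945,nat_lit 459750,nat_lit 1098684,nat_lit 265217,nat_lit 278468,nat_lit 6821,nat_lit 114260,nat_lit 457402,nat_lit 283925,nat_lit 110181,nat_lit 86340,nat_lit 288016,nat_lit 25678,nat_lit 21270,nat_lit 452025,nat_lit 315157,nat_lit 6415,nat_lit 72021,nat_lit 375151,nat_lit 1640083,nat_lit 328643,nat_lit 375823,nat_lit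 419142,nat_lit 65796,nat_lit 1119484,nat_lit 502531,nat_lit 28304,nat_lit 414127,nat_lit 356251,nat_lit 127972,nat_lit 105451,nat_lit 87056,nat_lit 78270,nat_lit 376747,nat_lit 1292721,nat_lit 80883,nat_lit 283630,nat_lit 315290,nat_lit 464238,nat_lit 1363910,nat_lit 278800,nat_lit 342948,nat_lit 80641,nat_lit 1115217,nat_lit 88748,nat_lit 458347,nat_lit 83174,nat_lit 409860,nat_lit 365763,nat_lit 31076,nat_lit 343641,nat_lit 279758,nat_lit 114281,nat_lit 1113883,nat_lit 1804,nat_lit 1308988,nat_lit 263227,nat_lit 18092,nat_lit 437484,nat_lit 110570,nat_lit 25705,nat_lit 1161899,nat_lit 283728,nat_lit 107727,nat_lit 103422,nat_lit 93180,nat_lit 1294016,nat_lit 320835,nat_lit 1751363,nat_lit 107536,nat_lit 265990,nat_lit 83199,nat_lit 92435,nat_lit 22180,nat_lit 315307,nat_lit 263184,nat_lit 105029,nat_lit 323157,nat_lit 110330,nat_lit 511998,nat_lit 263173,nat_lit 281840,nat_lit 1135525,nat_lit 497385,nat_lit 28867,nat_lit 277179,nat_lit 70715,nat_lit 503887,nat_lit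 462784,nat_lit 285461,nat_lit 267626,nat_lit 85574,nat_lit 7110,nat_lit 312515,nat_lit 93102,nat_lit 103322,nat_lit 6745,nat_lit 4868,nat_lit 32516,nat_lit 126041,nat_lit 93081,nat_lit 355566,nat_lit 459521,nat_lit 265222,nat_lit 31833,nat_lit 1117802,nat_lit 28753,nat_lit 1292732,nat_lit 1749994,nat_lit 129328,nat_lit 4259398,nat_lit 26042,nat_lit 88812,nat_lit 26006,nat_lit 372817,nat_lit 6933,nat_lit 366250,nat_lit 21518,nat_lit 4569425,nat_lit 102740,nat_lit 347150,nat_lit 26,nat_lit 1420355,nat_lit 501092,nat_lit 1638661,nat_lit 21701,nat_lit 1068821,nat_lit 523331,nat_lit 268906,nat_lit 458447,nat_lit 263268,nat_lit 282430,nat_lit 69872,nat_lit 328655,nat_lit 463210,nat_lit 289104,nat_lit 1114372,nat_lit 465893,nat_lit 1813568,nat_lit 77914,nat_lit 71017,nat_lit 27329,nat_lit 331867,nat_lit 27888,nat_lit 289551,nat_lit 1101542,nat_lit 31973,nat_lit 17434,nat_lit 465472,nat_lit 436580,nat_lit 103692,nat_lit 93951,nat_lit 267923,nat_lit 20388,nat_lit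 32686,nat_lit 451674,nat_lit 1818883,nat_lit 67307,nat_lit 345345,nat_lit 446214,nat_lit 290479,nat_lit 498341,nat_lit 412757,nat_lit 343785,nat_lit 312747,nat_lit 509134,nat_lit 27065,nat_lit 26340,nat_lit 1506411,nat_lit 111532,nat_lit 32748,nat_lit 326884,nat_lit 5238777,nat_lit 4259583,nat_lit 6811,nat_lit 1246954,nat_lit 115969,nat_lit 27404,nat_lit 321969,nat_lit 116032,nat_lit 68844,nat_lit 431161,nat_lit 21397,nat_lit 371777,nat_lit 453274,nat_lit 411200,nat_lit 1775183,nat_lit 289435,nat_lit 26003,nat_lit 70890,nat_lit 320837,nat_lit 268949,nat_lit 111024,nat_lit 1156838,nat_lit 93119,nat_lit 266266,nat_lit 438000,nat_lit 328688,nat_lit 18095,nat_lit 87274,nat_lit 1118318,nat_lit 500803,nat_lit 116457,nat_lit 283707,nat_lit 327347,nat_lit 92847,nat_lit 111014,nat_lit 375396,nat_lit 6565,nat_lit 27732,nat_lit 267196,nat_lit 1383020,nat_lit 124506,nat_lit 69616,nat_lit 328633,nat_lit 110526,nat_lit 126570,nat_lit 20762,nat_lit 70982,nat_lit 281620,nat_lit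 81513,nat_lit 80129,nat_lit 1327185,nat_lit 1136981,nat_lit 1754161,nat_lit 65876,nat_lit 1285102,nat_lit 107952,nat_lit 30988,nat_lit 1152767,nat_lit 1061881,nat_lit 1108398,nat_lit 282937,nat_lit 1377508,nat_lit 410858,nat_lit 421873,nat_lit 511578,nat_lit 25806,nat_lit 1156842,nat_lit 340244,nat_lit 314949,nat_lit 1158032,nat_lit 411302,nat_lit 66310,nat_lit 347151,nat_lit 508730,nat_lit 110842,nat_lit 503612,nat_lit 129365,nat_lit 25923,nat_lit 340224,nat_lit 69887,nat_lit 1065071,nat_lit 343696,nat_lit 1424041,nat_lit 1068112,nat_lit 451900,nat_lit 1158095,nat_lit 355391,nat_lit 20283,nat_lit 1490689,nat_lit 1151231,nat_lit 435203,nat_lit 287852,nat_lit 1069157,nat_lit 287824,nat_lit 124332,nat_lit 334094,nat_lit 107947,nat_lit 4198202,nat_lit 27396,nat_lit 116059,nat_lit 94014,nat_lit 1292544,nat_lit 72036,nat_lit 323172,nat_lit 103706,nat_lit 344059,nat_lit 283568,nat_lit 375814,nat_lit 282906,nat_lit 126037,nat_lit 343744,nat_lit 4174,nat_lit 311601,nat_lit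 16623,nat_lit 356330,nat_lit 115987,nat_lit 1049572,nat_lit 419049,nat_lit 438629,nat_lit 277402,nat_lit 327620,nat_lit 265914,nat_lit 130876,nat_lit 69547,nat_lit 284228,nat_lit 107797,nat_lit 83136,nat_lit 115718,nat_lit 460059,nat_lit 16725,nat_lit 7062,nat_lit 431185,nat_lit 87356,nat_lit 441360,nat_lit 1379397,nat_lit 371516,nat_lit 289132,nat_lit 1114134,nat_lit 432723,nat_lit 103500,nat_lit 115110,nat_lit 28353,nat_lit 284335,nat_lit 110617,nat_lit 369934,nat_lit 349612,nat_lit 127027,nat_lit 26176,nat_lit 438529,nat_lit 21747,nat_lit 72598,nat_lit 20431,nat_lit 70972,nat_lit 27324,nat_lit 4472917,nat_lit 365886,nat_lit 21274,nat_lit 7166,nat_lit 102739,nat_lit 1316588,nat_lit 66566,nat_lit 502033,nat_lit 127003,nat_lit 345371,nat_lit 343019,nat_lit 4452,nat_lit 78160,nat_lit 1999,nat_lit 311374,nat_lit 1503491,nat_lit 506287,nat_lit 442382,nat_lit 87140,nat_lit 21865,nat_lit 442773,nat_lit 285443,nat_lit 1339196,nat_lit 1075876,nat_lit 460004,nat_lit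 262250,nat_lit 17337,nat_lit 331524,nat_lit 523290,nat_lit 5348,nat_lit 312979,nat_lit 67246,nat_lit 16410,nat_lit 1151339,nat_lit 28772,nat_lit 1151749,nat_lit 459156,nat_lit 517180,nat_lit 410020,nat_lit 81515,nat_lit 315071,nat_lit 331781,nat_lit 372990,nat_lit 1049904,nat_lit 436819,nat_lit 1107364,nat_lit 420876,nat_lit 1339331,nat_lit 275377,nat_lit 1676622,nat_lit 28911,nat_lit 414715,nat_lit 523067,nat_lit 1328019,nat_lit 130734,nat_lit 323601,nat_lit 1317657,nat_lit 104729,nat_lit 265902,nat_lit 2082235,nat_lit 109617,nat_lit 347195,nat_lit 89061,nat_lit 1327344,nat_lit 1109931,nat_lit 355397,nat_lit 1064682,nat_lit 507812,nat_lit 440998,nat_lit 1370369,nat_lit 267267,nat_lit 323236,nat_lit 93955,nat_lit 1770833,nat_lit 103173,nat_lit 21425,nat_lit 339974,nat_lit 5033,nat_lit 331856,nat_lit 5185,nat_lit 1851,nat_lit 28412,nat_lit 118505,nat_lit 1292622,nat_lit 130643,nat_lit 1126481,nat_lit 340300,nat_lit 342779,nat_lit 1402137,nat_lit 506118,nat_lit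 342350,nat_lit 1108931,nat_lit 27662,nat_lit 91499,nat_lit 495621,nat_lit 372492,nat_lit 5380,nat_lit 459583,nat_lit 350806,nat_lit 1311851,nat_lit 495680,nat_lit 1283150,nat_lit 86416,nat_lit 113072,nat_lit 110640,nat_lit 411027,nat_lit 20409,nat_lit 1380715,nat_lit 340197,nat_lit 279446,nat_lit 1382681,nat_lit 349924,nat_lit 22796,nat_lit 266601,nat_lit 1421553,nat_lit 107845,nat_lit 1382704,nat_lit 278874,nat_lit 432390,nat_lit 110938,nat_lit 277100,nat_lit 107758,nat_lit 463097,nat_lit 334419,nat_lit 280214,nat_lit 281662,nat_lit 351146,nat_lit 1403931,nat_lit 263104,nat_lit 1076112,nat_lit 442128,nat_lit 87099,nat_lit 72387,nat_lit 277156,nat_lit 414707,nat_lit 436646,nat_lit 66876,nat_lit 329392,nat_lit 1068096,nat_lit 1152100,nat_lit 27285,nat_lit 17382,nat_lit 282713,nat_lit 29587,nat_lit 71398,nat_lit 282373,nat_lit 20052,nat_lit 1066222,nat_lit 410005,nat_lit 349263,nat_lit 68634,nat_lit 343829,nat_lit 268975,nat_lit 121,nat_lit 1113878,nat_lit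 113605,nat_lit 7875,nat_lit 443798,nat_lit 452975,nat_lit 263140,nat_lit 282700,nat_lit 267603,nat_lit 130028,nat_lit 496581,nat_lit 28422,nat_lit 1115539,nat_lit 282261,nat_lit 412734,nat_lit 333139,nat_lit 1156529,nat_lit 4337,nat_lit 1119253,nat_lit 32746,nat_lit 347909,nat_lit 1292880,nat_lit 453221,nat_lit 1052313,nat_lit 1480383,nat_lit 278550,nat_lit 126995,nat_lit 350960,nat_lit 328015,nat_lit 324587,nat_lit 314960,nat_lit 84996,nat_lit 508949,nat_lit 1113169,nat_lit 103354,nat_lit 115610,nat_lit 372538,nat_lit 1680697,nat_lit 1246886,nat_lit 340922,nat_lit 4421,nat_lit 371604,nat_lit 1099436,nat_lit 283411,nat_lit 281,nat_lit 1330266,nat_lit 376575,nat_lit 1134785,nat_lit 356090,nat_lit 80316,nat_lit 123985,nat_lit 18161,nat_lit 1485745,nat_lit 345775,nat_lit 355941,nat_lit 409877,nat_lit 110575,nat_lit 267343,nat_lit 1330257,nat_lit 331973,nat_lit 274662,nat_lit 81603,nat_lit 1347,nat_lit 1159237,nat_lit 263195,nat_lit 322619,nat_lit 125251,nat_lit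 4537,nat_lit 1388627,nat_lit 1068622,nat_lit 1126419,nat_lit 289596,nat_lit 124243,nat_lit 21785,nat_lit 130291,nat_lit 110287,nat_lit 345060,nat_lit 349419,nat_lit 420612,nat_lit 1156116,nat_lit 20415,nat_lit 1262,nat_lit 414490,nat_lit 325,nat_lit 107582,nat_lit 103451,nat_lit 91142,nat_lit 1063347,nat_lit 1463731,nat_lit 1141654,nat_lit 67302,nat_lit 71083,nat_lit 1075888,nat_lit 1048900,nat_lit 433044,nat_lit 411328,nat_lit 1160186,nat_lit 82938,nat_lit 28565,nat_lit 28921,nat_lit 65881,nat_lit 17680,nat_lit 1252244,nat_lit 32334,nat_lit 266009,nat_lit 110361,nat_lit 267065,nat_lit 70761,nat_lit 88324,nat_lit 1479603,nat_lit 19699,nat_lit 353385,nat_lit 508230,nat_lit 66305,nat_lit 86787,nat_lit 1282154,nat_lit 105274,nat_lit 322544,nat_lit 279913,nat_lit 115135,nat_lit 21553,nat_lit 85683,nat_lit 1052400,nat_lit 327786,nat_lit 130755,nat_lit 17386,nat_lit 19689,nat_lit 1119315,nat_lit 1130821,nat_lit 86014,nat_lit 1110106,nat_lit 17329,nat_lit 326707,nat_lit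 7951,nat_lit 285358,nat_lit 365971,nat_lit 421520,nat_lit 320785,nat_lit 1107136,nat_lit 21525,nat_lit 451611,nat_lit 436547,nat_lit 1374544,nat_lit 413647,nat_lit 1114138,nat_lit 112959,nat_lit 114373,nat_lit 1061121,nat_lit 70683,nat_lit 4121,nat_lit 340204]
def orb4 : List Nat := [nat_lit 284230,nat_lit 1420273,nat_lit 1053034,nat_lit 20203,nat_lit 500800,nat_lit 92827,nat_lit 4280318,nat_lit 102596,nat_lit 410604,nat_lit 1110332,nat_lit 1370416,nat_lit 1676314,nat_lit 69360,nat_lit 409941,nat_lit 1311738,nat_lit 322117,nat_lit 365477,nat_lit 102678,nat_lit 16582,nat_lit 265459,nat_lit 453188,nat_lit 372540,nat_lit 103436,nat_lit 1766330,nat_lit 347803,nat_lit 345669,nat_lit 20720,nat_lit 2030330,nat_lit 1131788,nat_lit 522947,nat_lit 21744,nat_lit 290369,nat_lit 1063344,nat_lit 80460,nat_lit 274746,nat_lit 326035,nat_lit 2003898,nat_lit 1246235,nat_lit 1851195,nat_lit 82245,nat_lit 25883,nat_lit 342372,nat_lit 1724,nat_lit 327764,nat_lit 21743,nat_lit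 437188,nat_lit 369857,nat_lit 19694,nat_lit 129707,nat_lit 289173,nat_lit 2033,nat_lit 21763,nat_lit 1773136,nat_lit 451,nat_lit 1729644,nat_lit 103667,nat_lit 115983,nat_lit 1819969,nat_lit 276827,nat_lit 331854,nat_lit 1246547,nat_lit 91413,nat_lit 26277,nat_lit 315113,nat_lit 1068863,nat_lit 326339,nat_lit 1377637,nat_lit 115980,nat_lit 114438,nat_lit 323854,nat_lit 263483,nat_lit 5326,nat_lit 1282475,nat_lit 93867,nat_lit 125333,nat_lit 412778,nat_lit 5230259,nat_lit 126571,nat_lit 85605,nat_lit 281627,nat_lit 287765,nat_lit 125966,nat_lit 27726,nat_lit 1134249,nat_lit 1108934,nat_lit 267968,nat_lit 262579,nat_lit 371454,nat_lit 323827,nat_lit 28650,nat_lit 345395,nat_lit 115649,nat_lit 276801,nat_lit 4207567,nat_lit 80635,nat_lit 1070106,nat_lit 1306,nat_lit 1290179,nat_lit 1332816,nat_lit 1137220,nat_lit 21849,nat_lit 1060970,nat_lit 320934,nat_lit 20239,nat_lit 1806447,nat_lit 290726,nat_lit 127055,nat_lit 414483,nat_lit 110510,nat_lit 22800,nat_lit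 268604,nat_lit 1807,nat_lit 82923,nat_lit 82170,nat_lit 441370,nat_lit 365849,nat_lit 425,nat_lit 282729,nat_lit 17513,nat_lit 278969,nat_lit 32454,nat_lit 263829,nat_lit 507585,nat_lit 4526,nat_lit 109126,nat_lit 28250,nat_lit 473747,nat_lit 453438,nat_lit 413744,nat_lit 1338361,nat_lit 455657,nat_lit 473875,nat_lit 1374826,nat_lit 87782,nat_lit 410956,nat_lit 21477,nat_lit 349260,nat_lit 1115797,nat_lit 324585,nat_lit 78831,nat_lit 1325828,nat_lit 519171,nat_lit 70458,nat_lit 28474,nat_lit 86420,nat_lit 1127321,nat_lit 26281,nat_lit 110853,nat_lit 1114896,nat_lit 5782,nat_lit 21489,nat_lit 420175,nat_lit 419013,nat_lit 68630,nat_lit 20389,nat_lit 4206,nat_lit 284934,nat_lit 431044,nat_lit 268635,nat_lit 72303,nat_lit 312982,nat_lit 109796,nat_lit 87616,nat_lit 443418,nat_lit 4116,nat_lit 520427,nat_lit 323585,nat_lit 130155,nat_lit 93233,nat_lit 1465317,nat_lit 343145,nat_lit 69230,nat_lit 495721,nat_lit 16469,nat_lit 375404,nat_lit 1289306,nat_lit 125518,nat_lit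 345,nat_lit 372310,nat_lit 421116,nat_lit 437483,nat_lit 87742,nat_lit 1136334,nat_lit 343020,nat_lit 127067,nat_lit 443290,nat_lit 1459300,nat_lit 16444,nat_lit 517392,nat_lit 1399487,nat_lit 108208,nat_lit 475129,nat_lit 285039,nat_lit 109375,nat_lit 129647,nat_lit 520122,nat_lit 327748,nat_lit 282305,nat_lit 323919,nat_lit 65,nat_lit 16705,nat_lit 65616,nat_lit 66643,nat_lit 418836,nat_lit 92949,nat_lit 110339,nat_lit 7182,nat_lit 376590,nat_lit 1360113,nat_lit 420777,nat_lit 130726,nat_lit 266586,nat_lit 277403,nat_lit 344076,nat_lit 351168,nat_lit 334,nat_lit 87121,nat_lit 410627,nat_lit 290622,nat_lit 1853012,nat_lit 65733,nat_lit 327342,nat_lit 1064879,nat_lit 330819,nat_lit 266148,nat_lit 1074481,nat_lit 1298323,nat_lit 26364,nat_lit 1461865,nat_lit 285636,nat_lit 31508,nat_lit 438532,nat_lit 347375,nat_lit 274745,nat_lit 1101519,nat_lit 81854,nat_lit 1069422,nat_lit 31043,nat_lit 80917,nat_lit 1314836,nat_lit 110830,nat_lit 81649,nat_lit 416702,nat_lit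 5018,nat_lit 269225,nat_lit 78149,nat_lit 104107,nat_lit 5140,nat_lit 1115396,nat_lit 1290244,nat_lit 5781,nat_lit 1151035,nat_lit 22212,nat_lit 435,nat_lit 1257,nat_lit 65595,nat_lit 4506646,nat_lit 1993468,nat_lit 110604,nat_lit 86094,nat_lit 105136,nat_lit 442099,nat_lit 6927,nat_lit 125246,nat_lit 91364,nat_lit 93974,nat_lit 102726,nat_lit 87360,nat_lit 32515,nat_lit 109324,nat_lit 323690,nat_lit 1050303,nat_lit 72688,nat_lit 1295957,nat_lit 81514,nat_lit 27707,nat_lit 18004,nat_lit 267600,nat_lit 114622,nat_lit 416015,nat_lit 355312,nat_lit 68656,nat_lit 1743785,nat_lit 1152048,nat_lit 283625,nat_lit 26177,nat_lit 463278,nat_lit 1336387,nat_lit 370241,nat_lit 129723,nat_lit 278334,nat_lit 1402180,nat_lit 80981,nat_lit 327697,nat_lit 1108670,nat_lit 267355,nat_lit 418907,nat_lit 1061060,nat_lit 1250563,nat_lit 509363,nat_lit 1339290,nat_lit 1818649,nat_lit 1315819,nat_lit 504768,nat_lit 66880,nat_lit 23449,nat_lit 25956,nat_lit 31739,nat_lit 127994,nat_lit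 266489,nat_lit 31475,nat_lit 263877,nat_lit 1651644,nat_lit 69691,nat_lit 1248953,nat_lit 127996,nat_lit 323692,nat_lit 21454,nat_lit 21491,nat_lit 129852,nat_lit 20075,nat_lit 93887,nat_lit 4378,nat_lit 1420053,nat_lit 266553,nat_lit 22086,nat_lit 4211691,nat_lit 266219,nat_lit 375116,nat_lit 111537,nat_lit 103315,nat_lit 506169,nat_lit 1822459,nat_lit 279354,nat_lit 503788,nat_lit 277756,nat_lit 278835,nat_lit 85593,nat_lit 88347,nat_lit 262383,nat_lit 66476,nat_lit 420558,nat_lit 490,nat_lit 340249,nat_lit 370956,nat_lit 89028,nat_lit 125529,nat_lit 103851,nat_lit 414670,nat_lit 413678,nat_lit 457488,nat_lit 1098067,nat_lit 1108905,nat_lit 1071722,nat_lit 129732,nat_lit 69548,nat_lit 278961,nat_lit 474900,nat_lit 285439,nat_lit 1506364,nat_lit 371020,nat_lit 1156431,nat_lit 1131843,nat_lit 113387,nat_lit 83219,nat_lit 334490,nat_lit 414718,nat_lit 289445,nat_lit 77850,nat_lit 312572,nat_lit 102720,nat_lit 93121,nat_lit 23131,nat_lit 1769402,nat_lit 1061201,nat_lit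 17488,nat_lit 28436,nat_lit 279310,nat_lit 1142724,nat_lit 289872,nat_lit 81658,nat_lit 5156550,nat_lit 6762,nat_lit 108849,nat_lit 29099,nat_lit 17155,nat_lit 4366,nat_lit 130298,nat_lit 284928,nat_lit 116139,nat_lit 65854,nat_lit 1327098,nat_lit 1053099,nat_lit 1372076,nat_lit 26201,nat_lit 430097,nat_lit 1399566,nat_lit 454553,nat_lit 290811,nat_lit 265905,nat_lit 82196,nat_lit 28678,nat_lit 1130725,nat_lit 129942,nat_lit 435449,nat_lit 1393428,nat_lit 91365,nat_lit 1136198,nat_lit 287996,nat_lit 282512,nat_lit 21765,nat_lit 520143,nat_lit 110165,nat_lit 32449,nat_lit 1666128,nat_lit 282364,nat_lit 332858,nat_lit 278635,nat_lit 420122,nat_lit 25850,nat_lit 118378,nat_lit 78742,nat_lit 83349,nat_lit 1107606,nat_lit 375788,nat_lit 1315162,nat_lit 129990,nat_lit 326668,nat_lit 266561,nat_lit 369728,nat_lit 72697,nat_lit 1131,nat_lit 508154,nat_lit 277097,nat_lit 1463353,nat_lit 464190,nat_lit 1403878,nat_lit 345489,nat_lit 127034,nat_lit 495,nat_lit 345286,nat_lit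 278949,nat_lit 314971,nat_lit 8106,nat_lit 125211,nat_lit 320774,nat_lit 322131,nat_lit 342805,nat_lit 86372,nat_lit 124160,nat_lit 16396,nat_lit 28729,nat_lit 347876,nat_lit 1458246,nat_lit 87617,nat_lit 32425,nat_lit 344153,nat_lit 452346,nat_lit 125953,nat_lit 26193,nat_lit 87313,nat_lit 6489,nat_lit 1676182,nat_lit 348081,nat_lit 72364,nat_lit 93232,nat_lit 409849,nat_lit 372412,nat_lit 347214,nat_lit 267312,nat_lit 326233,nat_lit 17179,nat_lit 431017,nat_lit 263750,nat_lit 344833,nat_lit 1769795,nat_lit 1644825,nat_lit 1283326,nat_lit 415422,nat_lit 1134660,nat_lit 6588,nat_lit 72596,nat_lit 365881,nat_lit 1388819,nat_lit 1776363,nat_lit 81472,nat_lit 1819,nat_lit 21580,nat_lit 523260,nat_lit 1055510,nat_lit 342635,nat_lit 91388,nat_lit 517715,nat_lit 87780,nat_lit 444100,nat_lit 413888,nat_lit 1323374,nat_lit 269072,nat_lit 435249,nat_lit 68847,nat_lit 1500224,nat_lit 20074,nat_lit 262465,nat_lit 20166,nat_lit 414789,nat_lit 1130300,nat_lit 28604,nat_lit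 23195,nat_lit 416571,nat_lit 1115718,nat_lit 332025,nat_lit 430997,nat_lit 87110,nat_lit 1245210,nat_lit 5444,nat_lit 327994,nat_lit 111596,nat_lit 4391872,nat_lit 80484,nat_lit 289535,nat_lit 70740,nat_lit 103756,nat_lit 315311,nat_lit 81651,nat_lit 20676,nat_lit 82031,nat_lit 274867,nat_lit 277526,nat_lit 326598,nat_lit 105036,nat_lit 522937,nat_lit 4160,nat_lit 19472,nat_lit 364870,nat_lit 371049,nat_lit 323247,nat_lit 5303274,nat_lit 325905,nat_lit 1465316,nat_lit 1158843,nat_lit 263854,nat_lit 342721,nat_lit 23488,nat_lit 1721283,nat_lit 329390,nat_lit 127382,nat_lit 1130766,nat_lit 356108,nat_lit 460095,nat_lit 1076159,nat_lit 31460,nat_lit 87276,nat_lit 420847,nat_lit 71322,nat_lit 322134,nat_lit 25843,nat_lit 87487,nat_lit 1131946,nat_lit 1156181,nat_lit 458819,nat_lit 1069061,nat_lit 311353,nat_lit 441358,nat_lit 266574,nat_lit 130049,nat_lit 1656506,nat_lit 1066347,nat_lit 28912,nat_lit 344171,nat_lit 498000,nat_lit 126032,nat_lit 104102,nat_lit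 329444,nat_lit 365459,nat_lit 275388,nat_lit 1099071,nat_lit 461905,nat_lit 1336686,nat_lit 1317573,nat_lit 1287409,nat_lit 1323369,nat_lit 1063680,nat_lit 1076475,nat_lit 129295,nat_lit 69882,nat_lit 65958,nat_lit 461925,nat_lit 118464,nat_lit 1327194,nat_lit 345785,nat_lit 81684,nat_lit 80278,nat_lit 345828,nat_lit 343996,nat_lit 108227,nat_lit 1370383,nat_lit 1401915,nat_lit 511936,nat_lit 262378,nat_lit 25870,nat_lit 452881,nat_lit 267920,nat_lit 267694,nat_lit 1491267,nat_lit 5806,nat_lit 20139,nat_lit 108275,nat_lit 103697,nat_lit 332100,nat_lit 31310,nat_lit 1060884,nat_lit 32681,nat_lit 321189,nat_lit 333007,nat_lit 1381269,nat_lit 2030593,nat_lit 86421,nat_lit 1653699,nat_lit 4433599,nat_lit 1345,nat_lit 68716,nat_lit 321962,nat_lit 354917,nat_lit 343722,nat_lit 342778,nat_lit 125669,nat_lit 333040,nat_lit 507792,nat_lit 20560,nat_lit 464302,nat_lit 1795,nat_lit 28416,nat_lit 1397156,nat_lit 1134502,nat_lit 323663,nat_lit 65585,nat_lit 92870,nat_lit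 268592,nat_lit 21265,nat_lit 1399787,nat_lit 1684474,nat_lit 69275,nat_lit 1151318,nat_lit 1284843,nat_lit 20588,nat_lit 1061124,nat_lit 421630,nat_lit 1295302,nat_lit 127246,nat_lit 1462382,nat_lit 6507,nat_lit 420953,nat_lit 70960,nat_lit 355045,nat_lit 263419,nat_lit 1295427,nat_lit 105278,nat_lit 87721,nat_lit 127921,nat_lit 320782,nat_lit 1158208,nat_lit 329300,nat_lit 334571,nat_lit 350468,nat_lit 268652,nat_lit 93126,nat_lit 80143,nat_lit 68687,nat_lit 348409,nat_lit 375444,nat_lit 81516,nat_lit 289509,nat_lit 1396964,nat_lit 1312100,nat_lit 81579,nat_lit 364548,nat_lit 17830,nat_lit 285454,nat_lit 376495,nat_lit 1107684,nat_lit 1650950,nat_lit 1303567,nat_lit 522906,nat_lit 498367,nat_lit 1292645,nat_lit 509033,nat_lit 4605358,nat_lit 502458,nat_lit 1289988,nat_lit 7057,nat_lit 25620,nat_lit 340275,nat_lit 20142,nat_lit 436537,nat_lit 262415,nat_lit 1480361,nat_lit 107547,nat_lit 21569,nat_lit 453055,nat_lit 1489258,nat_lit 7104,nat_lit 315387,nat_lit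 415376,nat_lit 283392,nat_lit 1463729,nat_lit 459108,nat_lit 70079,nat_lit 5126,nat_lit 322492,nat_lit 4501,nat_lit 78128,nat_lit 23226,nat_lit 431409,nat_lit 21830,nat_lit 1065875,nat_lit 27651,nat_lit 1142764,nat_lit 334085,nat_lit 332880,nat_lit 114694,nat_lit 277102,nat_lit 2009491,nat_lit 421545,nat_lit 27642,nat_lit 414801,nat_lit 28732,nat_lit 373156,nat_lit 83179,nat_lit 113222,nat_lit 23116,nat_lit 282628,nat_lit 446143,nat_lit 1248273,nat_lit 436559,nat_lit 1863594,nat_lit 20737,nat_lit 1098686,nat_lit 432467,nat_lit 340025,nat_lit 1743536,nat_lit 415430,nat_lit 1639441,nat_lit 500998,nat_lit 1054976,nat_lit 1295628,nat_lit 520389,nat_lit 268634,nat_lit 518465,nat_lit 331726,nat_lit 1847502,nat_lit 4293,nat_lit 20485,nat_lit 1108225,nat_lit 344835,nat_lit 27372,nat_lit 1114181,nat_lit 1156160,nat_lit 105219,nat_lit 126981,nat_lit 351171,nat_lit 69363,nat_lit 20723,nat_lit 311716,nat_lit 324602,nat_lit 459691,nat_lit 1305338,nat_lit 441422,nat_lit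 20220,nat_lit 80300,nat_lit 113425,nat_lit 504720,nat_lit 280315,nat_lit 82324,nat_lit 1162212,nat_lit 16804,nat_lit 85614,nat_lit 285328,nat_lit 107840,nat_lit 343985,nat_lit 2047,nat_lit 81679,nat_lit 80785,nat_lit 28348,nat_lit 1128789,nat_lit 1107699,nat_lit 26883,nat_lit 83391,nat_lit 5712,nat_lit 280297,nat_lit 323221,nat_lit 28238,nat_lit 83526,nat_lit 72422,nat_lit 511657,nat_lit 26276,nat_lit 80895,nat_lit 20843,nat_lit 129646,nat_lit 105190,nat_lit 350545,nat_lit 289073,nat_lit 437311,nat_lit 323587,nat_lit 72346,nat_lit 127914,nat_lit 77925,nat_lit 277455,nat_lit 70732,nat_lit 523964,nat_lit 265468,nat_lit 113646,nat_lit 27067,nat_lit 1068817,nat_lit 1479679,nat_lit 322577,nat_lit 28613,nat_lit 355077,nat_lit 274702,nat_lit 465210,nat_lit 65620,nat_lit 27562,nat_lit 443333,nat_lit 410,nat_lit 1328123,nat_lit 1471,nat_lit 1418348,nat_lit 32534,nat_lit 496975,nat_lit 81871,nat_lit 27699,nat_lit 28622,nat_lit 16399,nat_lit 1398458,nat_lit 1303793,nat_lit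 1376325,nat_lit 69637,nat_lit 343110,nat_lit 498364,nat_lit 1317520,nat_lit 459178,nat_lit 93270,nat_lit 419155,nat_lit 522959,nat_lit 17855,nat_lit 1098665,nat_lit 376517,nat_lit 32364,nat_lit 1284795,nat_lit 25904,nat_lit 1478718,nat_lit 1159078,nat_lit 103481,nat_lit 125242,nat_lit 1130564,nat_lit 326719,nat_lit 347241,nat_lit 420623,nat_lit 1751461,nat_lit 92988,nat_lit 86211,nat_lit 420879,nat_lit 130097,nat_lit 31167,nat_lit 355428,nat_lit 7227,nat_lit 72000,nat_lit 87468,nat_lit 82276,nat_lit 27664,nat_lit 501478,nat_lit 268910,nat_lit 83260,nat_lit 1137409,nat_lit 111524,nat_lit 83025,nat_lit 453866,nat_lit 511571,nat_lit 419072,nat_lit 371763,nat_lit 107777,nat_lit 1312063,nat_lit 265279,nat_lit 343295,nat_lit 1101422,nat_lit 266254,nat_lit 70606,nat_lit 497327,nat_lit 27753,nat_lit 20558,nat_lit 1131327,nat_lit 104769,nat_lit 66884,nat_lit 453659,nat_lit 1156778,nat_lit 1245454,nat_lit 474026,nat_lit 1314554,nat_lit 4288,nat_lit 1372144,nat_lit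 342291,nat_lit 420972,nat_lit 31809,nat_lit 78229,nat_lit 1486073,nat_lit 1372069,nat_lit 4222187,nat_lit 1424149,nat_lit 285595,nat_lit 4255729,nat_lit 328111,nat_lit 4540,nat_lit 5465,nat_lit 354628,nat_lit 69683,nat_lit 269071,nat_lit 102422,nat_lit 1064947,nat_lit 87364,nat_lit 81,nat_lit 22204,nat_lit 1309668,nat_lit 111553,nat_lit 28415,nat_lit 332822,nat_lit 115472,nat_lit 415385,nat_lit 65558,nat_lit 375870,nat_lit 17849,nat_lit 376430,nat_lit 414657,nat_lit 1360955,nat_lit 314990,nat_lit 278533,nat_lit 18115,nat_lit 23227,nat_lit 77838,nat_lit 1069372,nat_lit 22211,nat_lit 1314753,nat_lit 5211,nat_lit 69635,nat_lit 1064006,nat_lit 453526,nat_lit 474051,nat_lit 420800,nat_lit 115715,nat_lit 78101,nat_lit 327428,nat_lit 416495,nat_lit 85076,nat_lit 331664,nat_lit 1072026,nat_lit 1314828,nat_lit 1025,nat_lit 78186,nat_lit 26986,nat_lit 355003,nat_lit 370001,nat_lit 85057,nat_lit 94145,nat_lit 1156537,nat_lit 275364,nat_lit 327313,nat_lit 269083,nat_lit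 19541,nat_lit 263249,nat_lit 413254,nat_lit 412911,nat_lit 1392945,nat_lit 111509,nat_lit 1721705,nat_lit 103680,nat_lit 31977,nat_lit 66832,nat_lit 1397057,nat_lit 124097,nat_lit 1055465,nat_lit 375044,nat_lit 427,nat_lit 1742,nat_lit 17409,nat_lit 443155,nat_lit 1338139,nat_lit 16789,nat_lit 103225,nat_lit 1385,nat_lit 285630,nat_lit 83525,nat_lit 464319,nat_lit 348486,nat_lit 20144,nat_lit 326053,nat_lit 1115561,nat_lit 81829,nat_lit 325952,nat_lit 31500,nat_lit 1725201,nat_lit 431438,nat_lit 1338319,nat_lit 4222662,nat_lit 354897,nat_lit 1463545,nat_lit 1050044,nat_lit 4145,nat_lit 25947,nat_lit 507670,nat_lit 501169,nat_lit 1682177,nat_lit 113347,nat_lit 23323,nat_lit 92560,nat_lit 441345,nat_lit 17715,nat_lit 344894,nat_lit 435472,nat_lit 442469,nat_lit 458692,nat_lit 1404606,nat_lit 1305587,nat_lit 1723455,nat_lit 1401921,nat_lit 1290265,nat_lit 85007,nat_lit 114926,nat_lit 459185,nat_lit 7829,nat_lit 86275,nat_lit 263916,nat_lit 1284884,nat_lit 326351,nat_lit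 5132,nat_lit 5526,nat_lit 1076294,nat_lit 1793,nat_lit 284332,nat_lit 17996,nat_lit 320794,nat_lit 92819,nat_lit 125275,nat_lit 1121018,nat_lit 93211,nat_lit 282257,nat_lit 1159233,nat_lit 80897,nat_lit 290043,nat_lit 110170,nat_lit 1327417,nat_lit 411222,nat_lit 322556,nat_lit 93200,nat_lit 1054287,nat_lit 327358,nat_lit 506197,nat_lit 1311854,nat_lit 278171,nat_lit 19525,nat_lit 113919,nat_lit 109582,nat_lit 1294384,nat_lit 268609,nat_lit 333465,nat_lit 274860,nat_lit 315132,nat_lit 4277359,nat_lit 355078,nat_lit 28607,nat_lit 440764,nat_lit 410027,nat_lit 116068,nat_lit 127891,nat_lit 350785,nat_lit 67151,nat_lit 350480,nat_lit 6508,nat_lit 283891,nat_lit 1290299,nat_lit 278547,nat_lit 65555,nat_lit 85,nat_lit 22873,nat_lit 1121050,nat_lit 21414,nat_lit 103174,nat_lit 91370,nat_lit 78083,nat_lit 1134271,nat_lit 356243,nat_lit 26197,nat_lit 473681,nat_lit 1771091,nat_lit 375481,nat_lit 32496,nat_lit 438543,nat_lit 327952,nat_lit 1151061,nat_lit 460442,nat_lit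 1304150,nat_lit 86020,nat_lit 89009,nat_lit 103729,nat_lit 290737,nat_lit 4477178,nat_lit 1381299,nat_lit 1113103,nat_lit 1260314,nat_lit 356010,nat_lit 462863,nat_lit 461924,nat_lit 1151411,nat_lit 103785,nat_lit 442479,nat_lit 1152366,nat_lit 265230,nat_lit 349871,nat_lit 32404,nat_lit 327612,nat_lit 67150,nat_lit 68678,nat_lit 334480,nat_lit 81828,nat_lit 88782,nat_lit 1135702,nat_lit 414479,nat_lit 103353,nat_lit 1294401,nat_lit 25878,nat_lit 83150,nat_lit 23536,nat_lit 4433594,nat_lit 113230,nat_lit 415308,nat_lit 126549,nat_lit 348229,nat_lit 21585,nat_lit 437871,nat_lit 454549,nat_lit 509291,nat_lit 104789,nat_lit 1316586,nat_lit 1114369,nat_lit 1260453,nat_lit 127398,nat_lit 82159,nat_lit 83257,nat_lit 326406,nat_lit 409833,nat_lit 349251,nat_lit 285668,nat_lit 113,nat_lit 4352,nat_lit 1315951,nat_lit 1375123,nat_lit 1369348,nat_lit 28332,nat_lit 276751,nat_lit 289470,nat_lit 69605,nat_lit 283068,nat_lit 1311809,nat_lit 431365,nat_lit 1644814,nat_lit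 5777,nat_lit 430416,nat_lit 88979,nat_lit 108266,nat_lit 110229,nat_lit 88982,nat_lit 278769,nat_lit 105380,nat_lit 21587,nat_lit 289365,nat_lit 1064017,nat_lit 364570,nat_lit 285467,nat_lit 347219,nat_lit 18106,nat_lit 283582,nat_lit 31993,nat_lit 4210773,nat_lit 19696,nat_lit 26956,nat_lit 413413,nat_lit 113423,nat_lit 1249513,nat_lit 1248875,nat_lit 1077182,nat_lit 85785,nat_lit 375859,nat_lit 21263,nat_lit 69957,nat_lit 1159107,nat_lit 285619,nat_lit 1132273,nat_lit 2024785,nat_lit 81585,nat_lit 6505,nat_lit 104721,nat_lit 32484,nat_lit 31766,nat_lit 263919,nat_lit 72612,nat_lit 105412,nat_lit 1656134,nat_lit 69397,nat_lit 17388,nat_lit 1645370,nat_lit 263365,nat_lit 21590,nat_lit 311365,nat_lit 88837,nat_lit 107609,nat_lit 31763,nat_lit 431851,nat_lit 415438,nat_lit 1701,nat_lit 1721455,nat_lit 127321,nat_lit 1142672,nat_lit 103423,nat_lit 1656131,nat_lit 126180,nat_lit 4308052,nat_lit 345093,nat_lit 437230,nat_lit 31638,nat_lit 1312340,nat_lit 1126827,nat_lit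 1115577,nat_lit 4209905,nat_lit 1283071,nat_lit 66453,nat_lit 277184,nat_lit 1680726,nat_lit 1259867,nat_lit 16465,nat_lit 1163002,nat_lit 287825,nat_lit 1683689,nat_lit 459694,nat_lit 26266,nat_lit 356012,nat_lit 22835,nat_lit 80977,nat_lit 334569,nat_lit 1066241,nat_lit 31473,nat_lit 508265,nat_lit 278542,nat_lit 1072112,nat_lit 410878,nat_lit 432396,nat_lit 1397056,nat_lit 126575,nat_lit 503793,nat_lit 457743,nat_lit 332218,nat_lit 442,nat_lit 105043,nat_lit 1836099,nat_lit 1468,nat_lit 17850,nat_lit 5055,nat_lit 85594,nat_lit 113045,nat_lit 326547,nat_lit 31635,nat_lit 17999,nat_lit 278469,nat_lit 326550,nat_lit 89,nat_lit 285497,nat_lit 66574,nat_lit 287974,nat_lit 7091,nat_lit 102640,nat_lit 1399123,nat_lit 269062,nat_lit 113231,nat_lit 1770410,nat_lit 322203,nat_lit 1370534,nat_lit 1726771,nat_lit 20033,nat_lit 1311657,nat_lit 333243,nat_lit 461838,nat_lit 278758,nat_lit 366270,nat_lit 115456,nat_lit 509156,nat_lit 27326,nat_lit 419183,nat_lit 314959,nat_lit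 347817,nat_lit 109505,nat_lit 1114092,nat_lit 414726,nat_lit 130044,nat_lit 327914,nat_lit 81561,nat_lit 125199,nat_lit 113753,nat_lit 505,nat_lit 348560,nat_lit 1160086,nat_lit 88339,nat_lit 17486,nat_lit 86844,nat_lit 130153,nat_lit 127290,nat_lit 312293,nat_lit 1683739,nat_lit 1419707,nat_lit 364970,nat_lit 1151942,nat_lit 334403,nat_lit 430873,nat_lit 108220,nat_lit 421627,nat_lit 124180,nat_lit 1666067,nat_lit 5140147,nat_lit 453523,nat_lit 83366,nat_lit 72684,nat_lit 7401,nat_lit 1462287,nat_lit 1462001,nat_lit 285459,nat_lit 28308,nat_lit 66627,nat_lit 125616,nat_lit 109307,nat_lit 109163,nat_lit 103748,nat_lit 267033,nat_lit 1049550,nat_lit 70650,nat_lit 1748943,nat_lit 69611,nat_lit 127061,nat_lit 1055729,nat_lit 1048902,nat_lit 321252,nat_lit 31637,nat_lit 326393,nat_lit 331855,nat_lit 69231,nat_lit 263166,nat_lit 111039,nat_lit 68709,nat_lit 1159430,nat_lit 508330,nat_lit 345147,nat_lit 85615,nat_lit 113770,nat_lit 1118142,nat_lit 409706,nat_lit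 1275,nat_lit 130105,nat_lit 1063532,nat_lit 284991,nat_lit 25601,nat_lit 442627,nat_lit 440762,nat_lit 1093,nat_lit 1290324,nat_lit 323823,nat_lit 345531,nat_lit 1305573,nat_lit 501009,nat_lit 463078,nat_lit 124499,nat_lit 83633,nat_lit 276752,nat_lit 281621,nat_lit 110257,nat_lit 1052238,nat_lit 353530,nat_lit 1332307,nat_lit 130108,nat_lit 7785,nat_lit 265903,nat_lit 66555,nat_lit 19706,nat_lit 320593,nat_lit 1251651,nat_lit 520106,nat_lit 332603,nat_lit 102718,nat_lit 129363,nat_lit 372710,nat_lit 1372089,nat_lit 274639,nat_lit 282389,nat_lit 19478,nat_lit 1284414,nat_lit 71236,nat_lit 323526,nat_lit 1490705,nat_lit 1290446,nat_lit 20049,nat_lit 129721,nat_lit 1691,nat_lit 1381440,nat_lit 86810,nat_lit 107921,nat_lit 5139536,nat_lit 459861,nat_lit 124110,nat_lit 93199,nat_lit 517177,nat_lit 326746,nat_lit 410883,nat_lit 369942,nat_lit 16400,nat_lit 279491,nat_lit 113321,nat_lit 130070,nat_lit 1159183,nat_lit 282693,nat_lit 365838,nat_lit 28227,nat_lit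 1068282,nat_lit 115648,nat_lit 103845,nat_lit 1141497,nat_lit 72474,nat_lit 263401,nat_lit 283840,nat_lit 26028,nat_lit 113918,nat_lit 1052996,nat_lit 320793,nat_lit 29610,nat_lit 71936,nat_lit 77840,nat_lit 115006,nat_lit 413284,nat_lit 452864,nat_lit 109203,nat_lit 1486959,nat_lit 329382,nat_lit 105243,nat_lit 311317,nat_lit 267163,nat_lit 312380,nat_lit 18096,nat_lit 457664,nat_lit 32421,nat_lit 1115732,nat_lit 69839,nat_lit 91539,nat_lit 376428,nat_lit 127340,nat_lit 1754388,nat_lit 498026,nat_lit 345318,nat_lit 1309936,nat_lit 464101,nat_lit 109460,nat_lit 5818,nat_lit 369999,nat_lit 129689,nat_lit 322139,nat_lit 28587,nat_lit 4253011,nat_lit 290748,nat_lit 263748,nat_lit 1306896,nat_lit 506,nat_lit 372651,nat_lit 278212,nat_lit 113644,nat_lit 1063513,nat_lit 283755,nat_lit 454593,nat_lit 287936,nat_lit 130667,nat_lit 1681670,nat_lit 70571,nat_lit 1063697,nat_lit 1055515,nat_lit 435289,nat_lit 70682,nat_lit 1420388,nat_lit 17742,nat_lit 1076846,nat_lit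 127059,nat_lit 1283654,nat_lit 103493,nat_lit 17660,nat_lit 21739,nat_lit 5137,nat_lit 340078,nat_lit 72617,nat_lit 32420,nat_lit 282602,nat_lit 283419,nat_lit 1283049,nat_lit 4891,nat_lit 109466,nat_lit 463182,nat_lit 129344,nat_lit 4282026,nat_lit 266602,nat_lit 1113664,nat_lit 91185,nat_lit 1813756,nat_lit 20817,nat_lit 66618,nat_lit 17403,nat_lit 1245412,nat_lit 17392,nat_lit 17459,nat_lit 274686,nat_lit 111603,nat_lit 356281,nat_lit 109545,nat_lit 77836,nat_lit 26267,nat_lit 22854,nat_lit 129301,nat_lit 1077225,nat_lit 16639,nat_lit 340166,nat_lit 23238,nat_lit 349291,nat_lit 104784,nat_lit 31164,nat_lit 16661,nat_lit 333476,nat_lit 26033,nat_lit 373162,nat_lit 1656060,nat_lit 17412,nat_lit 453,nat_lit 28337,nat_lit 1721262,nat_lit 1490539,nat_lit 109308,nat_lit 420164,nat_lit 17296,nat_lit 2093035,nat_lit 110486,nat_lit 1157881,nat_lit 1163201,nat_lit 17430,nat_lit 431545,nat_lit 265296,nat_lit 1260526,nat_lit 20735,nat_lit 443284,nat_lit 511756,nat_lit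 373733,nat_lit 327771,nat_lit 113324,nat_lit 315086,nat_lit 1121274,nat_lit 28763,nat_lit 31489,nat_lit 1113875,nat_lit 27376,nat_lit 1478884,nat_lit 16748,nat_lit 21753,nat_lit 20160,nat_lit 108111,nat_lit 332601,nat_lit 326460,nat_lit 413358,nat_lit 325971,nat_lit 4255983,nat_lit 364991,nat_lit 16704,nat_lit 495684,nat_lit 66885,nat_lit 1118229,nat_lit 334102,nat_lit 1327195,nat_lit 4287491,nat_lit 88772,nat_lit 508693,nat_lit 88662,nat_lit 91216,nat_lit 5009,nat_lit 509372,nat_lit 125957,nat_lit 1119548,nat_lit 329139,nat_lit 16591,nat_lit 269263,nat_lit 1130060,nat_lit 70597,nat_lit 322284,nat_lit 92481,nat_lit 69393,nat_lit 320582,nat_lit 2022,nat_lit 1360899,nat_lit 420815,nat_lit 1317476,nat_lit 455620,nat_lit 312676,nat_lit 1070681,nat_lit 5716,nat_lit 290490,nat_lit 110515,nat_lit 16453,nat_lit 1314575,nat_lit 32403,nat_lit 1142468,nat_lit 283749,nat_lit 1621,nat_lit 7939,nat_lit 311386,nat_lit 66545,nat_lit 69649,nat_lit 420934,nat_lit 356273,nat_lit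 508675,nat_lit 1376689,nat_lit 332547,nat_lit 441947,nat_lit 273,nat_lit 267861,nat_lit 327483,nat_lit 354926,nat_lit 16388,nat_lit 31813,nat_lit 1724756,nat_lit 473434,nat_lit 69973,nat_lit 345518,nat_lit 520613,nat_lit 1813,nat_lit 1311513,nat_lit 127168,nat_lit 93774,nat_lit 323843,nat_lit 1128809,nat_lit 1333996,nat_lit 373747,nat_lit 1666281,nat_lit 1113705,nat_lit 511940,nat_lit 1287396,nat_lit 410043,nat_lit 321855,nat_lit 372819,nat_lit 103182,nat_lit 114939,nat_lit 289390,nat_lit 458777,nat_lit 452331,nat_lit 1245521,nat_lit 315291,nat_lit 1834668,nat_lit 68698,nat_lit 349947,nat_lit 1260569,nat_lit 109137,nat_lit 1399567,nat_lit 1294355,nat_lit 1310609,nat_lit 1159228,nat_lit 284992,nat_lit 411057,nat_lit 92931,nat_lit 321807,nat_lit 6734,nat_lit 282282,nat_lit 1376155,nat_lit 1118998,nat_lit 1489342,nat_lit 69718,nat_lit 6843,nat_lit 1327311,nat_lit 465167,nat_lit 85710,nat_lit 68,nat_lit 115644,nat_lit 507651,nat_lit 1463898,nat_lit 281616,nat_lit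 1371732,nat_lit 92739,nat_lit 285350,nat_lit 110320,nat_lit 1742149,nat_lit 81980,nat_lit 345171,nat_lit 124347,nat_lit 312406,nat_lit 22867,nat_lit 323812,nat_lit 327745,nat_lit 320944,nat_lit 1425151,nat_lit 104132,nat_lit 31027,nat_lit 20544,nat_lit 274832,nat_lit 451675,nat_lit 72283,nat_lit 280219,nat_lit 1112838,nat_lit 1070508,nat_lit 1855238,nat_lit 31323,nat_lit 1119291,nat_lit 1287765,nat_lit 1478757,nat_lit 110569,nat_lit 130117,nat_lit 340902,nat_lit 279557,nat_lit 453392,nat_lit 23444,nat_lit 29617,nat_lit 1101625,nat_lit 1458579,nat_lit 347148,nat_lit 25626,nat_lit 465232,nat_lit 1156175,nat_lit 269306,nat_lit 1360645,nat_lit 511695,nat_lit 8091,nat_lit 344058,nat_lit 31728,nat_lit 1115237,nat_lit 1121086,nat_lit 285692,nat_lit 1121023,nat_lit 26964,nat_lit 130873,nat_lit 438207,nat_lit 6463,nat_lit 1248357,nat_lit 124009,nat_lit 278164,nat_lit 435396,nat_lit 283888,nat_lit 1137401,nat_lit 511641,nat_lit 355241,nat_lit 1461249,nat_lit 27585,nat_lit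 371355,nat_lit 65785,nat_lit 464108,nat_lit 274681,nat_lit 19514,nat_lit 1074448,nat_lit 126574,nat_lit 80319,nat_lit 326545,nat_lit 331372,nat_lit 32687,nat_lit 86208,nat_lit 421452,nat_lit 1290217,nat_lit 86972,nat_lit 460142,nat_lit 21945,nat_lit 435214,nat_lit 4605248,nat_lit 281701,nat_lit 355056,nat_lit 20539,nat_lit 347882,nat_lit 125862,nat_lit 125604,nat_lit 473797,nat_lit 282318,nat_lit 18149,nat_lit 103438,nat_lit 320869,nat_lit 334758,nat_lit 81982,nat_lit 2024526,nat_lit 414016,nat_lit 443440,nat_lit 1064190,nat_lit 65636,nat_lit 1126767,nat_lit 1152020,nat_lit 102593,nat_lit 459088,nat_lit 279301,nat_lit 1075535,nat_lit 1372078,nat_lit 277573,nat_lit 289472,nat_lit 462505,nat_lit 328511,nat_lit 1055489,nat_lit 85009,nat_lit 17812,nat_lit 1111017,nat_lit 324582,nat_lit 372665,nat_lit 69862,nat_lit 331001,nat_lit 1491268,nat_lit 1835439,nat_lit 285587,nat_lit 31142,nat_lit 91247,nat_lit 323588,nat_lit 344492,nat_lit 281659,nat_lit 1853115,nat_lit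 5377,nat_lit 1117971,nat_lit 453701,nat_lit 375118,nat_lit 1418981,nat_lit 440767,nat_lit 31972,nat_lit 113742,nat_lit 83311,nat_lit 414613,nat_lit 1069136,nat_lit 446438,nat_lit 283413,nat_lit 1742150,nat_lit 290810,nat_lit 1162476,nat_lit 454662,nat_lit 457980,nat_lit 116038,nat_lit 32761,nat_lit 5119,nat_lit 410944,nat_lit 289075,nat_lit 325909,nat_lit 1136283,nat_lit 1330859,nat_lit 1812787,nat_lit 410522,nat_lit 65612,nat_lit 31545,nat_lit 107755,nat_lit 315130,nat_lit 4456753,nat_lit 347156,nat_lit 371961,nat_lit 1053670,nat_lit 453711,nat_lit 1108988,nat_lit 70032,nat_lit 371483,nat_lit 269222,nat_lit 1052230,nat_lit 1119972,nat_lit 1377203,nat_lit 83344,nat_lit 1420313,nat_lit 289563,nat_lit 105238,nat_lit 504806,nat_lit 4244479,nat_lit 66481,nat_lit 1163161,nat_lit 334745,nat_lit 124138,nat_lit 262372,nat_lit 109286,nat_lit 67249,nat_lit 289683,nat_lit 66905,nat_lit 1130816,nat_lit 1287750,nat_lit 1768553,nat_lit 342768,nat_lit 440902,nat_lit 462588,nat_lit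 7238,nat_lit 112955,nat_lit 69702,nat_lit 28419,nat_lit 278788,nat_lit 433126,nat_lit 1360067,nat_lit 109291,nat_lit 1113882,nat_lit 93870,nat_lit 288190,nat_lit 312766,nat_lit 354630,nat_lit 2046315,nat_lit 1768123,nat_lit 431001,nat_lit 1137338,nat_lit 1107284,nat_lit 23494,nat_lit 126532,nat_lit 103660,nat_lit 332821,nat_lit 265470,nat_lit 508100,nat_lit 72341,nat_lit 31059,nat_lit 430442,nat_lit 66995,nat_lit 23475,nat_lit 28346,nat_lit 28431,nat_lit 7825,nat_lit 70891,nat_lit 81905,nat_lit 5134,nat_lit 503574,nat_lit 421861,nat_lit 1332332,nat_lit 1072025,nat_lit 80298,nat_lit 87062,nat_lit 269286,nat_lit 355418,nat_lit 413444,nat_lit 1158224,nat_lit 1157547,nat_lit 81690,nat_lit 4521902,nat_lit 443973,nat_lit 278545,nat_lit 443193,nat_lit 323500,nat_lit 87401,nat_lit 327360,nat_lit 1773924,nat_lit 263572,nat_lit 366254,nat_lit 436820,nat_lit 371434,nat_lit 2047935,nat_lit 1285040,nat_lit 1053008,nat_lit 263758,nat_lit 105468,nat_lit 1287849,nat_lit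 115482,nat_lit 114602,nat_lit 20741,nat_lit 414827,nat_lit 1158740,nat_lit 266560,nat_lit 70934,nat_lit 454979,nat_lit 1248849,nat_lit 20585,nat_lit 18170,nat_lit 405,nat_lit 524208,nat_lit 323139,nat_lit 107748,nat_lit 29073,nat_lit 27557,nat_lit 22257,nat_lit 1784896,nat_lit 323600,nat_lit 327568,nat_lit 91396,nat_lit 413262,nat_lit 524220,nat_lit 102803,nat_lit 343039,nat_lit 355429,nat_lit 107955,nat_lit 327747,nat_lit 69546,nat_lit 72448,nat_lit 129788,nat_lit 355951,nat_lit 1653867,nat_lit 1107620,nat_lit 454899,nat_lit 1118203,nat_lit 453567,nat_lit 344148,nat_lit 333033,nat_lit 83027,nat_lit 29619,nat_lit 1684475,nat_lit 5460,nat_lit 1159238,nat_lit 446459,nat_lit 91390,nat_lit 355931,nat_lit 107940,nat_lit 92857,nat_lit 460443,nat_lit 1101747,nat_lit 127889,nat_lit 86363,nat_lit 27708,nat_lit 365675,nat_lit 366329,nat_lit 5545,nat_lit 413713,nat_lit 1051891,nat_lit 1112997,nat_lit 1784858,nat_lit 522547,nat_lit 263852,nat_lit 342380,nat_lit 1676608,nat_lit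 457966,nat_lit 123904,nat_lit 91371,nat_lit 376406,nat_lit 5708,nat_lit 32411,nat_lit 28473,nat_lit 410513,nat_lit 25681,nat_lit 26948,nat_lit 105393,nat_lit 65851,nat_lit 463887,nat_lit 353701,nat_lit 279979,nat_lit 314966,nat_lit 1729552,nat_lit 278523,nat_lit 437306,nat_lit 465898,nat_lit 113392,nat_lit 67158,nat_lit 108271,nat_lit 1333865,nat_lit 6938,nat_lit 289765,nat_lit 81940,nat_lit 280316,nat_lit 333456,nat_lit 372309,nat_lit 365466,nat_lit 69567,nat_lit 287747,nat_lit 431174,nat_lit 5828,nat_lit 320937,nat_lit 17433,nat_lit 289817,nat_lit 6570,nat_lit 323777,nat_lit 28560,nat_lit 1316081,nat_lit 282345,nat_lit 23358,nat_lit 327913,nat_lit 2080868,nat_lit 16708,nat_lit 110868,nat_lit 19710,nat_lit 115952,nat_lit 20054,nat_lit 366163,nat_lit 325893,nat_lit 1294419,nat_lit 416428,nat_lit 1819587,nat_lit 495705,nat_lit 289508,nat_lit 278843,nat_lit 1107283,nat_lit 1764031,nat_lit 27756,nat_lit 348367,nat_lit 16409,nat_lit 80636,nat_lit 326292,nat_lit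 83301,nat_lit 1069035,nat_lit 1127404,nat_lit 1654977,nat_lit 22862,nat_lit 6906,nat_lit 21402,nat_lit 67260,nat_lit 276804,nat_lit 269075,nat_lit 80913,nat_lit 65861,nat_lit 327609,nat_lit 1107214,nat_lit 31978,nat_lit 68675,nat_lit 517838,nat_lit 6548,nat_lit 70062,nat_lit 107542,nat_lit 103790,nat_lit 275349,nat_lit 5042095,nat_lit 1129065,nat_lit 278950,nat_lit 376048,nat_lit 1063275,nat_lit 1358,nat_lit 437948,nat_lit 509249,nat_lit 409651,nat_lit 452329,nat_lit 1305260,nat_lit 473686,nat_lit 498668,nat_lit 104771,nat_lit 6401,nat_lit 315025,nat_lit 4180,nat_lit 444099,nat_lit 1982891,nat_lit 129641,nat_lit 93772,nat_lit 102506,nat_lit 1311637,nat_lit 442607,nat_lit 6849,nat_lit 93289,nat_lit 279993,nat_lit 501332,nat_lit 4434352,nat_lit 442452,nat_lit 91342,nat_lit 1060923,nat_lit 263766,nat_lit 1288556,nat_lit 129470,nat_lit 344891,nat_lit 1070014,nat_lit 22265,nat_lit 91493,nat_lit 83600,nat_lit 416511,nat_lit 432788,nat_lit 7745,nat_lit 118348,nat_lit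 312218,nat_lit 80462,nat_lit 7151,nat_lit 518810,nat_lit 1063929,nat_lit 1060865,nat_lit 32571,nat_lit 446124,nat_lit 18127,nat_lit 65979,nat_lit 7950,nat_lit 1605,nat_lit 113892,nat_lit 103871,nat_lit 69290,nat_lit 7887,nat_lit 7957,nat_lit 1142763,nat_lit 321964,nat_lit 1350,nat_lit 21418,nat_lit 81913,nat_lit 26283,nat_lit 355057,nat_lit 277307,nat_lit 267518,nat_lit 1114938,nat_lit 109644,nat_lit 267585,nat_lit 1048833,nat_lit 364990,nat_lit 130874,nat_lit 420431,nat_lit 372630,nat_lit 87740,nat_lit 519850,nat_lit 414736,nat_lit 315067,nat_lit 114495,nat_lit 104723,nat_lit 1289996,nat_lit 321,nat_lit 283669,nat_lit 347878,nat_lit 1108627,nat_lit 343699,nat_lit 1258,nat_lit 498494,nat_lit 82960,nat_lit 331670,nat_lit 4417,nat_lit 25838,nat_lit 109584,nat_lit 414031,nat_lit 68837,nat_lit 1396751,nat_lit 1762534,nat_lit 355929,nat_lit 1327930,nat_lit 281828,nat_lit 312912,nat_lit 109502,nat_lit 1413135,nat_lit 1465039,nat_lit 524217,nat_lit 88335,nat_lit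 129615,nat_lit 501334,nat_lit 324595,nat_lit 21531,nat_lit 1295600,nat_lit 446148,nat_lit 322155,nat_lit 87130,nat_lit 371631,nat_lit 115052,nat_lit 274837,nat_lit 278771,nat_lit 263514,nat_lit 6974,nat_lit 1681667,nat_lit 369856,nat_lit 1114172,nat_lit 324516,nat_lit 129690,nat_lit 65774,nat_lit 349780,nat_lit 4517,nat_lit 355091,nat_lit 1295126,nat_lit 125328,nat_lit 1421651,nat_lit 1292692,nat_lit 107603,nat_lit 1117204,nat_lit 263056,nat_lit 1292947,nat_lit 1048891,nat_lit 1381697,nat_lit 66896,nat_lit 431184,nat_lit 433075,nat_lit 87318,nat_lit 110863,nat_lit 116140,nat_lit 65983,nat_lit 262451,nat_lit 66965,nat_lit 68659,nat_lit 1098499,nat_lit 108265,nat_lit 86419,nat_lit 1403644,nat_lit 85676,nat_lit 421445,nat_lit 31148,nat_lit 326063,nat_lit 464570,nat_lit 109553,nat_lit 1742170,nat_lit 435537,nat_lit 17156,nat_lit 32511,nat_lit 365884,nat_lit 446372,nat_lit 81667,nat_lit 277568,nat_lit 1133573,nat_lit 1110928,nat_lit 329043,nat_lit 349264,nat_lit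 288058,nat_lit 1814783,nat_lit 115990,nat_lit 437235,nat_lit 459089,nat_lit 28421,nat_lit 340901,nat_lit 372822,nat_lit 518822,nat_lit 372419,nat_lit 282384,nat_lit 77893,nat_lit 446035,nat_lit 25921,nat_lit 72271,nat_lit 81662,nat_lit 283,nat_lit 437182,nat_lit 129712,nat_lit 25683,nat_lit 413466,nat_lit 265984,nat_lit 1076842,nat_lit 265232,nat_lit 115948,nat_lit 312762,nat_lit 354745,nat_lit 32506,nat_lit 276750,nat_lit 350963,nat_lit 278636,nat_lit 441100,nat_lit 83054,nat_lit 330992,nat_lit 1316529,nat_lit 107578,nat_lit 456961,nat_lit 501424,nat_lit 113724,nat_lit 459772,nat_lit 110899,nat_lit 290714,nat_lit 1806588,nat_lit 1684465,nat_lit 1393412,nat_lit 2028,nat_lit 262469,nat_lit 1070022,nat_lit 320745,nat_lit 267034,nat_lit 1314577,nat_lit 2008126,nat_lit 1065882,nat_lit 88831,nat_lit 85669,nat_lit 2038449,nat_lit 431018,nat_lit 1337603,nat_lit 116293,nat_lit 102830,nat_lit 322566,nat_lit 1491280,nat_lit 1126485,nat_lit 282203,nat_lit 443827,nat_lit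 265242,nat_lit 81999,nat_lit 282176,nat_lit 496582,nat_lit 114284,nat_lit 2015215,nat_lit 435547,nat_lit 332102,nat_lit 441029,nat_lit 1500230,nat_lit 1053617,nat_lit 1112662,nat_lit 1309753,nat_lit 453205,nat_lit 432410,nat_lit 508012,nat_lit 124484,nat_lit 18075,nat_lit 1338305,nat_lit 321107,nat_lit 312405,nat_lit 1665998,nat_lit 31311,nat_lit 103658,nat_lit 85996,nat_lit 1110460,nat_lit 333241,nat_lit 27412,nat_lit 89030,nat_lit 20457,nat_lit 265450,nat_lit 1249616,nat_lit 5038,nat_lit 88977,nat_lit 344314,nat_lit 435505,nat_lit 278598,nat_lit 331685,nat_lit 520558,nat_lit 1076165,nat_lit 342592,nat_lit 93167,nat_lit 2031936,nat_lit 262508,nat_lit 28928,nat_lit 30996,nat_lit 267182,nat_lit 125270,nat_lit 267507,nat_lit 276800,nat_lit 277497,nat_lit 126956,nat_lit 438353,nat_lit 509263,nat_lit 1070405,nat_lit 66495,nat_lit 285617,nat_lit 91331,nat_lit 274480,nat_lit 26987,nat_lit 109587,nat_lit 289594,nat_lit 115727,nat_lit 103535,nat_lit 1119228,nat_lit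 274483,nat_lit 1726739,nat_lit 460527,nat_lit 88858,nat_lit 419076,nat_lit 27046,nat_lit 323846,nat_lit 103700,nat_lit 267536,nat_lit 88985,nat_lit 278202,nat_lit 328638,nat_lit 355130,nat_lit 327402,nat_lit 22803,nat_lit 80805,nat_lit 365316,nat_lit 441935,nat_lit 290757,nat_lit 114945,nat_lit 326228,nat_lit 80789,nat_lit 342606,nat_lit 263445,nat_lit 340307,nat_lit 124014,nat_lit 27222,nat_lit 1312444,nat_lit 110662,nat_lit 283557,nat_lit 20531,nat_lit 25856,nat_lit 331846,nat_lit 503461,nat_lit 376390,nat_lit 16432,nat_lit 16784,nat_lit 523930,nat_lit 66790,nat_lit 109657,nat_lit 114406,nat_lit 130134,nat_lit 1361151,nat_lit 125190,nat_lit 26257,nat_lit 66814,nat_lit 322555,nat_lit 104762,nat_lit 420544,nat_lit 437157,nat_lit 265302,nat_lit 1420308,nat_lit 105024,nat_lit 1365,nat_lit 1048998,nat_lit 372846,nat_lit 105408,nat_lit 102469,nat_lit 1049542,nat_lit 1108666,nat_lit 344336,nat_lit 22192,nat_lit 83248,nat_lit 344334,nat_lit 342798,nat_lit 7824,nat_lit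 1504254,nat_lit 115647,nat_lit 267925,nat_lit 65743,nat_lit 422,nat_lit 349427,nat_lit 83708,nat_lit 1114084,nat_lit 1063339,nat_lit 108187,nat_lit 31408,nat_lit 23119,nat_lit 354881,nat_lit 1141503,nat_lit 125633,nat_lit 1048836,nat_lit 7183,nat_lit 376591,nat_lit 375887,nat_lit 80627,nat_lit 115008,nat_lit 1141182,nat_lit 1130566,nat_lit 508928,nat_lit 66452,nat_lit 1261211,nat_lit 344298,nat_lit 94010,nat_lit 1748038]
def orb5 : List Nat := [nat_lit 66757,nat_lit 282901,nat_lit 441392,nat_lit 1129558,nat_lit 1379578,nat_lit 87406,nat_lit 72298,nat_lit 276814,nat_lit 1141567,nat_lit 1288958,nat_lit 4111,nat_lit 85936,nat_lit 465670,nat_lit 28581,nat_lit 81723,nat_lit 16617,nat_lit 414747,nat_lit 88652,nat_lit 78820,nat_lit 463276,nat_lit 1770860,nat_lit 4876,nat_lit 283886,nat_lit 1399396,nat_lit 82992,nat_lit 85060,nat_lit 262385,nat_lit 125369,nat_lit 354900,nat_lit 69964,nat_lit 17651,nat_lit 274758,nat_lit 71363,nat_lit 104753,nat_lit 349094,nat_lit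 115034,nat_lit 127987,nat_lit 28270,nat_lit 283626,nat_lit 113649,nat_lit 265916,nat_lit 110534,nat_lit 71942,nat_lit 432,nat_lit 92825,nat_lit 262975,nat_lit 1312497,nat_lit 70766,nat_lit 1484452,nat_lit 454928,nat_lit 114794,nat_lit 349614,nat_lit 2014207,nat_lit 356325,nat_lit 28366,nat_lit 465509,nat_lit 1397839,nat_lit 1754138,nat_lit 6467,nat_lit 350491,nat_lit 277555,nat_lit 1665683,nat_lit 465497,nat_lit 1748974,nat_lit 21269,nat_lit 276787,nat_lit 462528,nat_lit 108121,nat_lit 66864,nat_lit 6918,nat_lit 20174,nat_lit 278638,nat_lit 82001,nat_lit 87033,nat_lit 290581,nat_lit 279531,nat_lit 1070761,nat_lit 283673,nat_lit 440596,nat_lit 372993,nat_lit 320828,nat_lit 1636,nat_lit 1295611,nat_lit 1052352,nat_lit 1070144,nat_lit 511573,nat_lit 69695,nat_lit 414798,nat_lit 446106,nat_lit 112965,nat_lit 83265,nat_lit 4636955,nat_lit 507824,nat_lit 1289233,nat_lit 26005,nat_lit 31793,nat_lit 312746,nat_lit 114894,nat_lit 87088,nat_lit 23140,nat_lit 93204,nat_lit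 348073,nat_lit 1479673,nat_lit 92924,nat_lit 1158206,nat_lit 107760,nat_lit 78020,nat_lit 323908,nat_lit 67248,nat_lit 347792,nat_lit 1418820,nat_lit 1363908,nat_lit 375811,nat_lit 1413316,nat_lit 114767,nat_lit 269228,nat_lit 69892,nat_lit 348587,nat_lit 103397,nat_lit 6832,nat_lit 108115,nat_lit 462617,nat_lit 1246916,nat_lit 462534,nat_lit 87739,nat_lit 4536763,nat_lit 266218,nat_lit 32362,nat_lit 82177,nat_lit 124329,nat_lit 1121221,nat_lit 20475,nat_lit 129771,nat_lit 108099,nat_lit 70416,nat_lit 1305358,nat_lit 110225,nat_lit 442259,nat_lit 371622,nat_lit 1325797,nat_lit 372709,nat_lit 6419,nat_lit 87462,nat_lit 355243,nat_lit 364750,nat_lit 124606,nat_lit 371308,nat_lit 436501,nat_lit 72005,nat_lit 130961,nat_lit 320613,nat_lit 497968,nat_lit 17835,nat_lit 1836460,nat_lit 1063184,nat_lit 332203,nat_lit 348058,nat_lit 20218,nat_lit 102766,nat_lit 27286,nat_lit 1309284,nat_lit 32751,nat_lit 334426,nat_lit 323662,nat_lit 414979,nat_lit 5099,nat_lit 267158,nat_lit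 91398,nat_lit 91139,nat_lit 123961,nat_lit 1465067,nat_lit 105153,nat_lit 283059,nat_lit 25706,nat_lit 268644,nat_lit 376491,nat_lit 1328569,nat_lit 340,nat_lit 1130054,nat_lit 1157564,nat_lit 502067,nat_lit 105231,nat_lit 22809,nat_lit 77830,nat_lit 452324,nat_lit 334828,nat_lit 1260,nat_lit 130138,nat_lit 83216,nat_lit 326462,nat_lit 421882,nat_lit 1250724,nat_lit 266003,nat_lit 432899,nat_lit 7086,nat_lit 1337925,nat_lit 82894,nat_lit 278293,nat_lit 1049793,nat_lit 28751,nat_lit 315109,nat_lit 1727151,nat_lit 415377,nat_lit 83172,nat_lit 83626,nat_lit 1295764,nat_lit 82921,nat_lit 129636,nat_lit 1111019,nat_lit 453050,nat_lit 83390,nat_lit 500969,nat_lit 1136954,nat_lit 8169,nat_lit 7952,nat_lit 1052265,nat_lit 1361155,nat_lit 93105,nat_lit 7942,nat_lit 68841,nat_lit 70852,nat_lit 27291,nat_lit 331772,nat_lit 376507,nat_lit 1315177,nat_lit 413289,nat_lit 107886,nat_lit 326897,nat_lit 118725,nat_lit 27563,nat_lit 127039,nat_lit 118420,nat_lit 413252,nat_lit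 1121263,nat_lit 1328068,nat_lit 66982,nat_lit 416516,nat_lit 375099,nat_lit 451589,nat_lit 1063611,nat_lit 473862,nat_lit 315142,nat_lit 1506965,nat_lit 364969,nat_lit 354746,nat_lit 323183,nat_lit 416574,nat_lit 504000,nat_lit 65804,nat_lit 265322,nat_lit 129941,nat_lit 83365,nat_lit 88336,nat_lit 1115733,nat_lit 1306688,nat_lit 452181,nat_lit 83686,nat_lit 457814,nat_lit 83220,nat_lit 70596,nat_lit 4477260,nat_lit 262511,nat_lit 282182,nat_lit 20548,nat_lit 411369,nat_lit 475029,nat_lit 17685,nat_lit 322628,nat_lit 1118191,nat_lit 1725866,nat_lit 93436,nat_lit 312767,nat_lit 1729871,nat_lit 1136300,nat_lit 28441,nat_lit 1983376,nat_lit 18171,nat_lit 267972,nat_lit 21755,nat_lit 91193,nat_lit 78825,nat_lit 1361209,nat_lit 285638,nat_lit 20059,nat_lit 1099174,nat_lit 268607,nat_lit 366156,nat_lit 313082,nat_lit 31045,nat_lit 1404604,nat_lit 115662,nat_lit 332778,nat_lit 1360277,nat_lit 1052656,nat_lit 454937,nat_lit 452006,nat_lit 17456,nat_lit 5486,nat_lit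 1133802,nat_lit 1142553,nat_lit 102842,nat_lit 16403,nat_lit 113898,nat_lit 453206,nat_lit 110512,nat_lit 421441,nat_lit 20787,nat_lit 23120,nat_lit 114361,nat_lit 372723,nat_lit 420773,nat_lit 262399,nat_lit 1109,nat_lit 411371,nat_lit 71086,nat_lit 443387,nat_lit 22085,nat_lit 113359,nat_lit 91157,nat_lit 1125,nat_lit 1157561,nat_lit 94186,nat_lit 1070661,nat_lit 421649,nat_lit 78740,nat_lit 443385,nat_lit 1331540,nat_lit 130099,nat_lit 23290,nat_lit 4996090,nat_lit 28,nat_lit 17734,nat_lit 430147,nat_lit 107583,nat_lit 517315,nat_lit 118342,nat_lit 4437,nat_lit 107610,nat_lit 7908,nat_lit 462507,nat_lit 331727,nat_lit 1156373,nat_lit 130766,nat_lit 328729,nat_lit 351131,nat_lit 85946,nat_lit 1659660,nat_lit 322560,nat_lit 25689,nat_lit 21951,nat_lit 342789,nat_lit 327248,nat_lit 474090,nat_lit 29078,nat_lit 267664,nat_lit 502351,nat_lit 5552,nat_lit 420528,nat_lit 1245619,nat_lit 372479,nat_lit 2069865,nat_lit 67301,nat_lit 127339,nat_lit 268612,nat_lit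 276,nat_lit 503795,nat_lit 17,nat_lit 1151214,nat_lit 442560,nat_lit 18099,nat_lit 268560,nat_lit 351217,nat_lit 5369,nat_lit 288069,nat_lit 91203,nat_lit 65771,nat_lit 118782,nat_lit 1393003,nat_lit 5372,nat_lit 349584,nat_lit 435539,nat_lit 112958,nat_lit 4998081,nat_lit 114603,nat_lit 1071681,nat_lit 102656,nat_lit 411025,nat_lit 1743678,nat_lit 1642924,nat_lit 21441,nat_lit 1687226,nat_lit 262341,nat_lit 311566,nat_lit 21867,nat_lit 263254,nat_lit 5441,nat_lit 27246,nat_lit 4471820,nat_lit 1107151,nat_lit 21740,nat_lit 1112656,nat_lit 127377,nat_lit 1483876,nat_lit 350948,nat_lit 88726,nat_lit 419054,nat_lit 320539,nat_lit 83225,nat_lit 409683,nat_lit 1287364,nat_lit 1107198,nat_lit 326704,nat_lit 268911,nat_lit 323516,nat_lit 421867,nat_lit 375571,nat_lit 418905,nat_lit 114282,nat_lit 268028,nat_lit 103427,nat_lit 1141427,nat_lit 333488,nat_lit 5039,nat_lit 1831247,nat_lit 455675,nat_lit 509198,nat_lit 283675,nat_lit 1107376,nat_lit 284390,nat_lit 282513,nat_lit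 1325886,nat_lit 1459483,nat_lit 1261228,nat_lit 461836,nat_lit 20563,nat_lit 1317861,nat_lit 372334,nat_lit 1370543,nat_lit 1052865,nat_lit 431681,nat_lit 1069251,nat_lit 1361477,nat_lit 91462,nat_lit 130750,nat_lit 31744,nat_lit 263764,nat_lit 1156497,nat_lit 91470,nat_lit 285291,nat_lit 437956,nat_lit 85043,nat_lit 263504,nat_lit 465833,nat_lit 349105,nat_lit 1307561,nat_lit 1339,nat_lit 65942,nat_lit 20494,nat_lit 1159507,nat_lit 345668,nat_lit 2041,nat_lit 263429,nat_lit 290020,nat_lit 503894,nat_lit 284048,nat_lit 16,nat_lit 278117,nat_lit 1489900,nat_lit 81643,nat_lit 66307,nat_lit 1246234,nat_lit 115476,nat_lit 103665,nat_lit 376577,nat_lit 21822,nat_lit 1131952,nat_lit 508987,nat_lit 276923,nat_lit 1333587,nat_lit 267265,nat_lit 1070351,nat_lit 334083,nat_lit 87642,nat_lit 31980,nat_lit 328784,nat_lit 71088,nat_lit 21610,nat_lit 70075,nat_lit 125884,nat_lit 1724417,nat_lit 457958,nat_lit 277482,nat_lit 86798,nat_lit 333507,nat_lit 124580,nat_lit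 1459643,nat_lit 356302,nat_lit 5019,nat_lit 418878,nat_lit 442106,nat_lit 435605,nat_lit 65641,nat_lit 1140156,nat_lit 1371377,nat_lit 1661611,nat_lit 1156540,nat_lit 376548,nat_lit 1314534,nat_lit 65593,nat_lit 86299,nat_lit 1055482,nat_lit 68672,nat_lit 1290310,nat_lit 1379571,nat_lit 266577,nat_lit 418835,nat_lit 107525,nat_lit 1658597,nat_lit 285295,nat_lit 28723,nat_lit 107749,nat_lit 278767,nat_lit 115611,nat_lit 21904,nat_lit 1137380,nat_lit 446052,nat_lit 110,nat_lit 28609,nat_lit 1115854,nat_lit 26361,nat_lit 110831,nat_lit 322321,nat_lit 1858149,nat_lit 473855,nat_lit 125198,nat_lit 1304235,nat_lit 2092826,nat_lit 266262,nat_lit 103491,nat_lit 85931,nat_lit 375578,nat_lit 459774,nat_lit 4396287,nat_lit 66609,nat_lit 81722,nat_lit 109457,nat_lit 1403305,nat_lit 70459,nat_lit 327573,nat_lit 114609,nat_lit 278195,nat_lit 82283,nat_lit 27541,nat_lit 1720388,nat_lit 263100,nat_lit 1413542,nat_lit 69572,nat_lit 275379,nat_lit 431695,nat_lit 454896,nat_lit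 1754374,nat_lit 269041,nat_lit 1283823,nat_lit 328108,nat_lit 7163,nat_lit 1768497,nat_lit 268633,nat_lit 1841982,nat_lit 473857,nat_lit 107793,nat_lit 85711,nat_lit 17659,nat_lit 109333,nat_lit 443797,nat_lit 268593,nat_lit 413585,nat_lit 1107710,nat_lit 31036,nat_lit 4198171,nat_lit 1053683,nat_lit 22892,nat_lit 1055308,nat_lit 521131,nat_lit 320833,nat_lit 1749225,nat_lit 262918,nat_lit 1311040,nat_lit 7169,nat_lit 16398,nat_lit 289356,nat_lit 103183,nat_lit 323833,nat_lit 410980,nat_lit 113348,nat_lit 23225,nat_lit 91393,nat_lit 1142001,nat_lit 2096880,nat_lit 2069817,nat_lit 365840,nat_lit 1129110,nat_lit 1506110,nat_lit 69710,nat_lit 89003,nat_lit 375231,nat_lit 25649,nat_lit 110278,nat_lit 81686,nat_lit 88838,nat_lit 329019,nat_lit 85956,nat_lit 69209,nat_lit 465812,nat_lit 108971,nat_lit 1374796,nat_lit 277521,nat_lit 4122,nat_lit 1822715,nat_lit 459537,nat_lit 411066,nat_lit 419046,nat_lit 431091,nat_lit 1251068,nat_lit 1682660,nat_lit 1642062,nat_lit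 108123,nat_lit 327615,nat_lit 320527,nat_lit 93157,nat_lit 1646,nat_lit 1051669,nat_lit 375360,nat_lit 437359,nat_lit 114623,nat_lit 508979,nat_lit 68689,nat_lit 30991,nat_lit 518462,nat_lit 93078,nat_lit 5862,nat_lit 343697,nat_lit 1137321,nat_lit 31806,nat_lit 411052,nat_lit 322608,nat_lit 4923,nat_lit 442448,nat_lit 465260,nat_lit 124228,nat_lit 327934,nat_lit 463215,nat_lit 343291,nat_lit 5427,nat_lit 313028,nat_lit 1289923,nat_lit 22165,nat_lit 29034,nat_lit 1260483,nat_lit 1833786,nat_lit 1126489,nat_lit 263756,nat_lit 277180,nat_lit 372825,nat_lit 69371,nat_lit 276742,nat_lit 93210,nat_lit 1370384,nat_lit 1314810,nat_lit 1424961,nat_lit 457307,nat_lit 348076,nat_lit 334139,nat_lit 1812910,nat_lit 85680,nat_lit 114447,nat_lit 413467,nat_lit 1306395,nat_lit 1288463,nat_lit 327427,nat_lit 89002,nat_lit 1070334,nat_lit 327318,nat_lit 1838677,nat_lit 412721,nat_lit 5355,nat_lit 366278,nat_lit 87483,nat_lit 274766,nat_lit 262590,nat_lit 1119281,nat_lit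 4647598,nat_lit 5318,nat_lit 421105,nat_lit 1294361,nat_lit 1483827,nat_lit 442372,nat_lit 72299,nat_lit 126550,nat_lit 372329,nat_lit 1250241,nat_lit 110854,nat_lit 369946,nat_lit 93248,nat_lit 263594,nat_lit 504169,nat_lit 1391332,nat_lit 332714,nat_lit 313060,nat_lit 6809,nat_lit 1775299,nat_lit 1372606,nat_lit 1118127,nat_lit 1157717,nat_lit 350554,nat_lit 1393771,nat_lit 460100,nat_lit 1157776,nat_lit 280212,nat_lit 289209,nat_lit 275385,nat_lit 114405,nat_lit 87716,nat_lit 1687482,nat_lit 347796,nat_lit 86462,nat_lit 22164,nat_lit 1141998,nat_lit 26345,nat_lit 313073,nat_lit 340243,nat_lit 356118,nat_lit 323385,nat_lit 69884,nat_lit 1142512,nat_lit 1249189,nat_lit 1812927,nat_lit 1066326,nat_lit 348353,nat_lit 1741034,nat_lit 432462,nat_lit 130112,nat_lit 66666,nat_lit 1421715,nat_lit 80892,nat_lit 65936,nat_lit 269292,nat_lit 519227,nat_lit 1066409,nat_lit 21819,nat_lit 1114474,nat_lit 1653349,nat_lit 22170,nat_lit 276901,nat_lit 1742480,nat_lit 86379,nat_lit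 329147,nat_lit 266217,nat_lit 110659,nat_lit 127,nat_lit 1161836,nat_lit 282265,nat_lit 129691,nat_lit 115705,nat_lit 113260,nat_lit 83193,nat_lit 21774,nat_lit 116076,nat_lit 333462,nat_lit 91564,nat_lit 66816,nat_lit 1112848,nat_lit 442453,nat_lit 321273,nat_lit 4357,nat_lit 1485742,nat_lit 1066239,nat_lit 415025,nat_lit 70661,nat_lit 6571,nat_lit 1137414,nat_lit 86339,nat_lit 437013,nat_lit 124507,nat_lit 1414128,nat_lit 1315781,nat_lit 1064635,nat_lit 109140,nat_lit 1115731,nat_lit 496528,nat_lit 1139712,nat_lit 80997,nat_lit 1163003,nat_lit 1833978,nat_lit 1132272,nat_lit 1852175,nat_lit 438598,nat_lit 28606,nat_lit 25627,nat_lit 508134,nat_lit 371278,nat_lit 1070506,nat_lit 345433,nat_lit 269056,nat_lit 111598,nat_lit 1074582,nat_lit 1063502,nat_lit 4608401,nat_lit 462777,nat_lit 86953,nat_lit 20211,nat_lit 267155,nat_lit 67244,nat_lit 1152063,nat_lit 288086,nat_lit 1106993,nat_lit 126181,nat_lit 1115500,nat_lit 328785,nat_lit 102841,nat_lit 507,nat_lit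 29609,nat_lit 7403,nat_lit 129347,nat_lit 26959,nat_lit 78252,nat_lit 274833,nat_lit 349589,nat_lit 496624,nat_lit 80491,nat_lit 279567,nat_lit 20147,nat_lit 432956,nat_lit 369907,nat_lit 1141754,nat_lit 442602,nat_lit 4454764,nat_lit 114883,nat_lit 311312,nat_lit 1748667,nat_lit 32678,nat_lit 345449,nat_lit 436821,nat_lit 4441326,nat_lit 1337614,nat_lit 70590,nat_lit 1503294,nat_lit 522579,nat_lit 5860,nat_lit 65982,nat_lit 31162,nat_lit 91542,nat_lit 348142,nat_lit 263364,nat_lit 282575,nat_lit 1129710,nat_lit 7153,nat_lit 376496,nat_lit 442478,nat_lit 1754364,nat_lit 314948,nat_lit 323504,nat_lit 1112836,nat_lit 464229,nat_lit 6422,nat_lit 414478,nat_lit 1660569,nat_lit 412902,nat_lit 349930,nat_lit 4277851,nat_lit 7850,nat_lit 344090,nat_lit 328620,nat_lit 268883,nat_lit 326298,nat_lit 1369195,nat_lit 115119,nat_lit 1428,nat_lit 92433,nat_lit 26894,nat_lit 114756,nat_lit 1643758,nat_lit 123925,nat_lit 1162005,nat_lit 69284,nat_lit 1157722,nat_lit 320913,nat_lit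 332004,nat_lit 65563,nat_lit 356249,nat_lit 1751484,nat_lit 1294670,nat_lit 81637,nat_lit 69316,nat_lit 504041,nat_lit 1666821,nat_lit 1131921,nat_lit 1156528,nat_lit 70415,nat_lit 104142,nat_lit 320719,nat_lit 7259,nat_lit 365883,nat_lit 1284428,nat_lit 496960,nat_lit 375107,nat_lit 66895,nat_lit 413764,nat_lit 69188,nat_lit 28987,nat_lit 1486606,nat_lit 20718,nat_lit 1245427,nat_lit 1098772,nat_lit 419099,nat_lit 4432,nat_lit 1303572,nat_lit 78835,nat_lit 460121,nat_lit 1361,nat_lit 409913,nat_lit 279919,nat_lit 86422,nat_lit 114666,nat_lit 1157902,nat_lit 80837,nat_lit 502707,nat_lit 1311748,nat_lit 458769,nat_lit 31381,nat_lit 519958,nat_lit 21932,nat_lit 1723969,nat_lit 282383,nat_lit 116416,nat_lit 1130431,nat_lit 313008,nat_lit 1069081,nat_lit 5169,nat_lit 1945,nat_lit 118444,nat_lit 365338,nat_lit 1110096,nat_lit 28646,nat_lit 503443,nat_lit 66500,nat_lit 327235,nat_lit 17750,nat_lit 328126,nat_lit 86265,nat_lit 1309461,nat_lit 1683,nat_lit 1117860,nat_lit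 1328574,nat_lit 420265,nat_lit 285441,nat_lit 420613,nat_lit 1724161,nat_lit 1260436,nat_lit 92778,nat_lit 1500431,nat_lit 68665,nat_lit 69292,nat_lit 1726020,nat_lit 20805,nat_lit 80145,nat_lit 287763,nat_lit 1249019,nat_lit 80812,nat_lit 19708,nat_lit 1771092,nat_lit 107887,nat_lit 19685,nat_lit 372474,nat_lit 344078,nat_lit 1423665,nat_lit 1729870,nat_lit 1049530,nat_lit 265467,nat_lit 1158971,nat_lit 315161,nat_lit 1136277,nat_lit 1309638,nat_lit 262939,nat_lit 1098692,nat_lit 519769,nat_lit 442010,nat_lit 1306949,nat_lit 1295678,nat_lit 334799,nat_lit 463950,nat_lit 441932,nat_lit 464537,nat_lit 323845,nat_lit 269253,nat_lit 108883,nat_lit 274517,nat_lit 340369,nat_lit 32719,nat_lit 282561,nat_lit 473455,nat_lit 451987,nat_lit 444145,nat_lit 114692,nat_lit 279892,nat_lit 278451,nat_lit 1132,nat_lit 263438,nat_lit 109132,nat_lit 288079,nat_lit 109647,nat_lit 267539,nat_lit 68688,nat_lit 70591,nat_lit 311742,nat_lit 326222,nat_lit 495822,nat_lit 410937,nat_lit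 277057,nat_lit 502030,nat_lit 116373,nat_lit 1151977,nat_lit 31121,nat_lit 282875,nat_lit 369899,nat_lit 7081,nat_lit 1986876,nat_lit 331419,nat_lit 85093,nat_lit 1643,nat_lit 506163,nat_lit 340201,nat_lit 1680724,nat_lit 1332115,nat_lit 1366,nat_lit 1331974,nat_lit 331694,nat_lit 321219,nat_lit 1769812,nat_lit 6449,nat_lit 1769705,nat_lit 1302,nat_lit 22843,nat_lit 345168,nat_lit 311310,nat_lit 289391,nat_lit 124236,nat_lit 5542,nat_lit 17516,nat_lit 28927,nat_lit 518862,nat_lit 1052609,nat_lit 1115471,nat_lit 1419626,nat_lit 410892,nat_lit 323258,nat_lit 85772,nat_lit 32527,nat_lit 462761,nat_lit 2004677,nat_lit 113041,nat_lit 1287481,nat_lit 343014,nat_lit 266470,nat_lit 22100,nat_lit 1110000,nat_lit 69396,nat_lit 5395,nat_lit 80644,nat_lit 263231,nat_lit 87035,nat_lit 415381,nat_lit 80549,nat_lit 328793,nat_lit 412906,nat_lit 66789,nat_lit 416486,nat_lit 5054,nat_lit 27214,nat_lit 460140,nat_lit 1119679,nat_lit 20734,nat_lit 442362,nat_lit 1305235,nat_lit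 454606,nat_lit 86357,nat_lit 127038,nat_lit 1046,nat_lit 274838,nat_lit 87701,nat_lit 1314884,nat_lit 446145,nat_lit 330774,nat_lit 410816,nat_lit 289046,nat_lit 78784,nat_lit 509504,nat_lit 518928,nat_lit 1424048,nat_lit 81937,nat_lit 289537,nat_lit 508155,nat_lit 103657,nat_lit 26299,nat_lit 94149,nat_lit 451840,nat_lit 1484379,nat_lit 1895340,nat_lit 278449,nat_lit 92817,nat_lit 1485232,nat_lit 118425,nat_lit 124179,nat_lit 123916,nat_lit 1292886,nat_lit 521109,nat_lit 372410,nat_lit 1309674,nat_lit 1101487,nat_lit 1156118,nat_lit 284334,nat_lit 438270,nat_lit 1152315,nat_lit 1107695,nat_lit 32361,nat_lit 127087,nat_lit 1107372,nat_lit 71961,nat_lit 432740,nat_lit 453566,nat_lit 455676,nat_lit 277061,nat_lit 500814,nat_lit 283585,nat_lit 1118188,nat_lit 443715,nat_lit 69891,nat_lit 66636,nat_lit 125694,nat_lit 1135891,nat_lit 289742,nat_lit 364558,nat_lit 72702,nat_lit 431020,nat_lit 432721,nat_lit 275430,nat_lit 113004,nat_lit 80179,nat_lit 1723497,nat_lit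 2081785,nat_lit 111038,nat_lit 17466,nat_lit 113465,nat_lit 1141353,nat_lit 107867,nat_lit 110654,nat_lit 1654865,nat_lit 1141052,nat_lit 66608,nat_lit 1380091,nat_lit 4331,nat_lit 320516,nat_lit 1377713,nat_lit 432896,nat_lit 27024,nat_lit 81519,nat_lit 275376,nat_lit 1159491,nat_lit 464145,nat_lit 344491,nat_lit 115468,nat_lit 4292,nat_lit 265465,nat_lit 1317460,nat_lit 462608,nat_lit 1676054,nat_lit 1773305,nat_lit 103345,nat_lit 332908,nat_lit 420844,nat_lit 1137222,nat_lit 1048981,nat_lit 282702,nat_lit 86969,nat_lit 353534,nat_lit 86323,nat_lit 114965,nat_lit 1314497,nat_lit 23546,nat_lit 1135376,nat_lit 31033,nat_lit 109616,nat_lit 333244,nat_lit 328976,nat_lit 285589,nat_lit 452870,nat_lit 1134996,nat_lit 323940,nat_lit 331793,nat_lit 114757,nat_lit 1376153,nat_lit 110171,nat_lit 110606,nat_lit 107780,nat_lit 66478,nat_lit 435392,nat_lit 68713,nat_lit 18084,nat_lit 1050190,nat_lit 1098750,nat_lit 130115,nat_lit 517169,nat_lit 442449,nat_lit 4459,nat_lit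 1831913,nat_lit 20483,nat_lit 416027,nat_lit 92929,nat_lit 372800,nat_lit 103401,nat_lit 1141823,nat_lit 4215557,nat_lit 21779,nat_lit 78745,nat_lit 453227,nat_lit 437841,nat_lit 365551,nat_lit 413785,nat_lit 21818,nat_lit 102630,nat_lit 274796,nat_lit 1055340,nat_lit 108260,nat_lit 1396454,nat_lit 1304254,nat_lit 26309,nat_lit 284409,nat_lit 87445,nat_lit 1294340,nat_lit 105132,nat_lit 1724015,nat_lit 345412,nat_lit 6891,nat_lit 4648179,nat_lit 1459899,nat_lit 262229,nat_lit 463295,nat_lit 1249275,nat_lit 114777,nat_lit 4651451,nat_lit 130641,nat_lit 77931,nat_lit 23535,nat_lit 289711,nat_lit 20202,nat_lit 1131726,nat_lit 311737,nat_lit 502036,nat_lit 31125,nat_lit 465861,nat_lit 1074192,nat_lit 19564,nat_lit 474010,nat_lit 1775190,nat_lit 124249,nat_lit 1068816,nat_lit 431795,nat_lit 263145,nat_lit 277183,nat_lit 66644,nat_lit 78074,nat_lit 4222918,nat_lit 331865,nat_lit 19561,nat_lit 1156851,nat_lit 442417,nat_lit 88645,nat_lit 93851,nat_lit 1053889,nat_lit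 457027,nat_lit 1157459,nat_lit 328710,nat_lit 1842117,nat_lit 324580,nat_lit 86843,nat_lit 1119507,nat_lit 1283513,nat_lit 329145,nat_lit 130113,nat_lit 104124,nat_lit 1403668,nat_lit 1118124,nat_lit 274627,nat_lit 27212,nat_lit 2024889,nat_lit 1108716,nat_lit 1113102,nat_lit 28998,nat_lit 110275,nat_lit 414036,nat_lit 93103,nat_lit 347244,nat_lit 277093,nat_lit 92484,nat_lit 1305169,nat_lit 465242,nat_lit 86442,nat_lit 345369,nat_lit 344406,nat_lit 355013,nat_lit 495722,nat_lit 1052420,nat_lit 436624,nat_lit 276820,nat_lit 277233,nat_lit 69630,nat_lit 278891,nat_lit 504171,nat_lit 263161,nat_lit 287806,nat_lit 327916,nat_lit 66836,nat_lit 350478,nat_lit 279914,nat_lit 435263,nat_lit 114382,nat_lit 88745,nat_lit 343105,nat_lit 284224,nat_lit 66542,nat_lit 21829,nat_lit 81002,nat_lit 1115404,nat_lit 1454,nat_lit 284015,nat_lit 1251916,nat_lit 1066425,nat_lit 105279,nat_lit 115473,nat_lit 1332825,nat_lit 1110265,nat_lit 104724,nat_lit 80915,nat_lit 116389,nat_lit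 108975,nat_lit 413438,nat_lit 110158,nat_lit 1314878,nat_lit 331667,nat_lit 83204,nat_lit 323334,nat_lit 19690,nat_lit 328933,nat_lit 102643,nat_lit 4605594,nat_lit 81593,nat_lit 458393,nat_lit 1289989,nat_lit 442597,nat_lit 453631,nat_lit 372657,nat_lit 92479,nat_lit 523865,nat_lit 267459,nat_lit 1383318,nat_lit 1853107,nat_lit 28241,nat_lit 369904,nat_lit 325974,nat_lit 284307,nat_lit 126187,nat_lit 1339025,nat_lit 410601,nat_lit 350799,nat_lit 290619,nat_lit 29585,nat_lit 460009,nat_lit 349844,nat_lit 409937,nat_lit 67237,nat_lit 78780,nat_lit 2016228,nat_lit 65552,nat_lit 1467,nat_lit 365582,nat_lit 105363,nat_lit 108102,nat_lit 112981,nat_lit 349072,nat_lit 17211,nat_lit 285262,nat_lit 327366,nat_lit 1118230,nat_lit 130788,nat_lit 453201,nat_lit 443196,nat_lit 1142542,nat_lit 1074576,nat_lit 1682073,nat_lit 1421555,nat_lit 375440,nat_lit 66767,nat_lit 4547663,nat_lit 1478912,nat_lit 32762,nat_lit 1115075,nat_lit 1283519,nat_lit 282198,nat_lit 435200,nat_lit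 67258,nat_lit 265264,nat_lit 71338,nat_lit 72432,nat_lit 457051,nat_lit 108857,nat_lit 5189,nat_lit 6892,nat_lit 1136192,nat_lit 355044,nat_lit 81131,nat_lit 1807443,nat_lit 1114542,nat_lit 104091,nat_lit 1484132,nat_lit 322129,nat_lit 355326,nat_lit 107606,nat_lit 105216,nat_lit 17387,nat_lit 517377,nat_lit 290042,nat_lit 328640,nat_lit 1076912,nat_lit 71249,nat_lit 1282111,nat_lit 1129542,nat_lit 83300,nat_lit 457020,nat_lit 375557,nat_lit 1372153,nat_lit 1109615,nat_lit 1110268,nat_lit 365822,nat_lit 1052694,nat_lit 430143,nat_lit 372377,nat_lit 462739,nat_lit 369691,nat_lit 1135887,nat_lit 5354,nat_lit 441030,nat_lit 454652,nat_lit 1746352,nat_lit 323641,nat_lit 439233,nat_lit 107924,nat_lit 365573,nat_lit 372815,nat_lit 91391,nat_lit 1115059,nat_lit 102716,nat_lit 78245,nat_lit 432485,nat_lit 321258,nat_lit 32684,nat_lit 278724,nat_lit 5241532,nat_lit 345178,nat_lit 1161649,nat_lit 20590,nat_lit 1727142,nat_lit 355014,nat_lit 511939,nat_lit 280217,nat_lit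 345806,nat_lit 107754,nat_lit 114713,nat_lit 109817,nat_lit 502501,nat_lit 1360874,nat_lit 1282158,nat_lit 72452,nat_lit 1065962,nat_lit 348565,nat_lit 517230,nat_lit 118363,nat_lit 371305,nat_lit 511568,nat_lit 437274,nat_lit 343643,nat_lit 129348,nat_lit 32442,nat_lit 497328,nat_lit 1050203,nat_lit 28742,nat_lit 283662,nat_lit 430166,nat_lit 332694,nat_lit 108869,nat_lit 520623,nat_lit 123924,nat_lit 7100,nat_lit 369676,nat_lit 23237,nat_lit 520390,nat_lit 1310972,nat_lit 349443,nat_lit 265812,nat_lit 125636,nat_lit 7268,nat_lit 1894713,nat_lit 1310275,nat_lit 91236,nat_lit 315364,nat_lit 82926,nat_lit 1069462,nat_lit 442691,nat_lit 1075969,nat_lit 438531,nat_lit 312260,nat_lit 1833294,nat_lit 373142,nat_lit 1644826,nat_lit 365541,nat_lit 287744,nat_lit 343628,nat_lit 6414,nat_lit 1856763,nat_lit 71056,nat_lit 82928,nat_lit 5105,nat_lit 326565,nat_lit 413700,nat_lit 1141521,nat_lit 453189,nat_lit 6511,nat_lit 353713,nat_lit 4516912,nat_lit 435516,nat_lit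 1134650,nat_lit 82006,nat_lit 262575,nat_lit 17636,nat_lit 1486508,nat_lit 72507,nat_lit 21398,nat_lit 85227,nat_lit 333484,nat_lit 104005,nat_lit 110955,nat_lit 92505,nat_lit 103489,nat_lit 364635,nat_lit 348356,nat_lit 65899,nat_lit 523953,nat_lit 277147,nat_lit 441921,nat_lit 274522,nat_lit 110395,nat_lit 413760,nat_lit 81857,nat_lit 413251,nat_lit 1070355,nat_lit 458411,nat_lit 16830,nat_lit 459179,nat_lit 1158841,nat_lit 5146,nat_lit 116377,nat_lit 32428,nat_lit 1053926,nat_lit 274502,nat_lit 31339,nat_lit 110485,nat_lit 416420,nat_lit 1399494,nat_lit 263275,nat_lit 1818203,nat_lit 1265,nat_lit 331348,nat_lit 103686,nat_lit 1069305,nat_lit 69388,nat_lit 284943,nat_lit 21508,nat_lit 334820,nat_lit 2019279,nat_lit 17643,nat_lit 25840,nat_lit 263142,nat_lit 431356,nat_lit 1156678,nat_lit 328753,nat_lit 312401,nat_lit 376550,nat_lit 518511,nat_lit 375856,nat_lit 83387,nat_lit 311356,nat_lit 94122,nat_lit 321195,nat_lit 1326329,nat_lit 268,nat_lit 1099439,nat_lit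 5861,nat_lit 1331180,nat_lit 509029,nat_lit 517185,nat_lit 1251946,nat_lit 331583,nat_lit 276822,nat_lit 269299,nat_lit 25859,nat_lit 365925,nat_lit 506131,nat_lit 420865,nat_lit 320940,nat_lit 350918,nat_lit 19567,nat_lit 27280,nat_lit 262400,nat_lit 354638,nat_lit 125931,nat_lit 1260538,nat_lit 87124,nat_lit 1331642,nat_lit 1135023,nat_lit 6448,nat_lit 1288448,nat_lit 91414,nat_lit 1070513,nat_lit 1363563,nat_lit 266227,nat_lit 130042,nat_lit 444143,nat_lit 1847493,nat_lit 443585,nat_lit 439189,nat_lit 266603,nat_lit 83644,nat_lit 1391169,nat_lit 1109100,nat_lit 312897,nat_lit 442289,nat_lit 69401,nat_lit 326555,nat_lit 1114543,nat_lit 1733,nat_lit 110643,nat_lit 108986,nat_lit 1134702,nat_lit 116430,nat_lit 355409,nat_lit 4195390,nat_lit 523206,nat_lit 1893808,nat_lit 278851,nat_lit 1249601,nat_lit 1070128,nat_lit 1784251,nat_lit 1152051,nat_lit 497230,nat_lit 17601,nat_lit 85766,nat_lit 1071441,nat_lit 5349,nat_lit 519409,nat_lit 1098862,nat_lit 431811,nat_lit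 1049532,nat_lit 27247,nat_lit 113667,nat_lit 410021,nat_lit 5034,nat_lit 263886,nat_lit 4632593,nat_lit 278209,nat_lit 323779,nat_lit 31318,nat_lit 441280,nat_lit 68843,nat_lit 111531,nat_lit 6483,nat_lit 4605593,nat_lit 353615,nat_lit 327957,nat_lit 1274,nat_lit 81136,nat_lit 80534,nat_lit 1309763,nat_lit 129764,nat_lit 27900,nat_lit 281617,nat_lit 1479929,nat_lit 103334,nat_lit 88771,nat_lit 108223,nat_lit 80838,nat_lit 81489,nat_lit 1298320,nat_lit 1939,nat_lit 1776411,nat_lit 1136335,nat_lit 92499,nat_lit 1157425,nat_lit 88640,nat_lit 1310458,nat_lit 274492,nat_lit 26192,nat_lit 519152,nat_lit 1156182,nat_lit 130842,nat_lit 6928,nat_lit 110875,nat_lit 107585,nat_lit 290454,nat_lit 91366,nat_lit 523029,nat_lit 1461328,nat_lit 92526,nat_lit 1638628,nat_lit 68691,nat_lit 94123,nat_lit 1309439,nat_lit 1052560,nat_lit 6451,nat_lit 1110321,nat_lit 498283,nat_lit 25875,nat_lit 66926,nat_lit 1374790,nat_lit 1283334,nat_lit 94144,nat_lit 344051,nat_lit 29029,nat_lit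 285594,nat_lit 410026,nat_lit 81812,nat_lit 80640,nat_lit 500942,nat_lit 500972,nat_lit 103487,nat_lit 1991765,nat_lit 278613,nat_lit 333561,nat_lit 257,nat_lit 289107,nat_lit 326037,nat_lit 278188,nat_lit 87363,nat_lit 1989355,nat_lit 1113668,nat_lit 370969,nat_lit 8172,nat_lit 1732187,nat_lit 1374800,nat_lit 1129494,nat_lit 23462,nat_lit 112975,nat_lit 71353,nat_lit 1283492,nat_lit 1361136,nat_lit 20058,nat_lit 315372,nat_lit 102460,nat_lit 1731603,nat_lit 500971,nat_lit 1841486,nat_lit 289790,nat_lit 23301,nat_lit 343745,nat_lit 1290047,nat_lit 23443,nat_lit 1310785,nat_lit 1134251,nat_lit 326394,nat_lit 419056,nat_lit 523066,nat_lit 496441,nat_lit 1311729,nat_lit 93118,nat_lit 1382670,nat_lit 26940,nat_lit 372495,nat_lit 107577,nat_lit 69529,nat_lit 327760,nat_lit 1293381,nat_lit 110847,nat_lit 465492,nat_lit 125507,nat_lit 107855,nat_lit 458318,nat_lit 78228,nat_lit 373734,nat_lit 20422,nat_lit 1119332,nat_lit 86126,nat_lit 263225,nat_lit 4329,nat_lit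 1052906,nat_lit 311311,nat_lit 322497,nat_lit 1052353,nat_lit 495854,nat_lit 1052699,nat_lit 344085,nat_lit 102725,nat_lit 87116,nat_lit 507654,nat_lit 32517,nat_lit 7845,nat_lit 86278,nat_lit 311635,nat_lit 473779,nat_lit 519168,nat_lit 17318,nat_lit 21593,nat_lit 523291,nat_lit 4,nat_lit 31040,nat_lit 32432,nat_lit 113342,nat_lit 1332976,nat_lit 16619,nat_lit 1478889,nat_lit 1377977,nat_lit 1064977,nat_lit 1388,nat_lit 1306731,nat_lit 1260480,nat_lit 1491174,nat_lit 1061818,nat_lit 1076334,nat_lit 498431,nat_lit 365993,nat_lit 69994,nat_lit 1360902,nat_lit 349391,nat_lit 365457,nat_lit 443622,nat_lit 23209,nat_lit 80945,nat_lit 107579,nat_lit 66879,nat_lit 269206,nat_lit 65732,nat_lit 1651033,nat_lit 116048,nat_lit 27398,nat_lit 457126,nat_lit 1311761,nat_lit 1287748,nat_lit 80313,nat_lit 519824,nat_lit 110246,nat_lit 67306,nat_lit 323503,nat_lit 80233,nat_lit 1298202,nat_lit 1119491,nat_lit 1133625,nat_lit 130965,nat_lit 1463573,nat_lit 4101,nat_lit 356245,nat_lit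 520208,nat_lit 334572,nat_lit 365568,nat_lit 81580,nat_lit 115697,nat_lit 129286,nat_lit 356332,nat_lit 321852,nat_lit 28948,nat_lit 77829,nat_lit 263171,nat_lit 263507,nat_lit 1157708,nat_lit 410709,nat_lit 1360873,nat_lit 278934,nat_lit 263830,nat_lit 31548,nat_lit 114256,nat_lit 1860843,nat_lit 19505,nat_lit 19513,nat_lit 523500,nat_lit 330777,nat_lit 18163,nat_lit 1261291,nat_lit 520131,nat_lit 327872,nat_lit 1158057,nat_lit 410710,nat_lit 115051,nat_lit 4627012,nat_lit 70764,nat_lit 421626,nat_lit 1294657,nat_lit 334579,nat_lit 1309669,nat_lit 26000,nat_lit 93162,nat_lit 453572,nat_lit 1077051,nat_lit 25604,nat_lit 1108588,nat_lit 103365,nat_lit 462446,nat_lit 1099184,nat_lit 326682,nat_lit 66499,nat_lit 453316,nat_lit 345173,nat_lit 26899,nat_lit 1360869,nat_lit 25964,nat_lit 281835,nat_lit 430356,nat_lit 104716,nat_lit 29691,nat_lit 1334076,nat_lit 16467,nat_lit 266641,nat_lit 1283070,nat_lit 102597,nat_lit 68848,nat_lit 327578,nat_lit 373183,nat_lit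 115134,nat_lit 284070,nat_lit 372666,nat_lit 19691,nat_lit 409665,nat_lit 509019,nat_lit 85700,nat_lit 1850113,nat_lit 2031248,nat_lit 327920,nat_lit 276757,nat_lit 508347,nat_lit 274687,nat_lit 31979,nat_lit 364975,nat_lit 473678,nat_lit 104177,nat_lit 118527,nat_lit 4158,nat_lit 438469,nat_lit 1369321,nat_lit 524057,nat_lit 285614,nat_lit 1126412,nat_lit 496570,nat_lit 7187,nat_lit 1298374,nat_lit 283731,nat_lit 278948,nat_lit 21871,nat_lit 497338,nat_lit 351152,nat_lit 1070501,nat_lit 71408,nat_lit 93807,nat_lit 22190,nat_lit 1115113,nat_lit 289710,nat_lit 80661,nat_lit 28475,nat_lit 1741764,nat_lit 1388878,nat_lit 1290260,nat_lit 115030,nat_lit 266585,nat_lit 26938,nat_lit 276812,nat_lit 20719,nat_lit 442097,nat_lit 353711,nat_lit 1068142,nat_lit 343707,nat_lit 440640,nat_lit 281839,nat_lit 1323982,nat_lit 78771,nat_lit 20543,nat_lit 20464,nat_lit 25795,nat_lit 321110,nat_lit 103190,nat_lit 458817,nat_lit 1463281,nat_lit 1052721,nat_lit 86451,nat_lit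 71333,nat_lit 1260454,nat_lit 80314,nat_lit 65811,nat_lit 70654,nat_lit 285012,nat_lit 6747,nat_lit 2094003,nat_lit 278166,nat_lit 1285092,nat_lit 1686479,nat_lit 453867,nat_lit 289364,nat_lit 350804,nat_lit 109251,nat_lit 1769715,nat_lit 287844,nat_lit 1129580,nat_lit 1645324,nat_lit 334842,nat_lit 115689,nat_lit 1311146,nat_lit 431125,nat_lit 431787,nat_lit 109566,nat_lit 16805,nat_lit 82150,nat_lit 1403590,nat_lit 70652,nat_lit 17683,nat_lit 344484,nat_lit 88683,nat_lit 331582,nat_lit 267364,nat_lit 416001,nat_lit 321971,nat_lit 1113765,nat_lit 1506108,nat_lit 32326,nat_lit 1055417,nat_lit 27667,nat_lit 465164,nat_lit 421104,nat_lit 355563,nat_lit 268569,nat_lit 517312,nat_lit 116476,nat_lit 1309754,nat_lit 108944,nat_lit 130995,nat_lit 1317486,nat_lit 1108415,nat_lit 81125,nat_lit 1248934,nat_lit 459715,nat_lit 23273,nat_lit 460518,nat_lit 265926,nat_lit 104785,nat_lit 1129531,nat_lit 82191,nat_lit 266163,nat_lit 1051727,nat_lit 289091,nat_lit 113327,nat_lit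 6763,nat_lit 322126,nat_lit 376748,nat_lit 1314458,nat_lit 416063,nat_lit 371033,nat_lit 321795,nat_lit 1250988,nat_lit 92420,nat_lit 326554,nat_lit 1724730,nat_lit 344368,nat_lit 440635,nat_lit 326033,nat_lit 72043,nat_lit 1152006,nat_lit 331364,nat_lit 267326,nat_lit 1486899,nat_lit 1370393,nat_lit 1288497,nat_lit 504143,nat_lit 442735,nat_lit 129601,nat_lit 1814106,nat_lit 86249,nat_lit 129284,nat_lit 460436,nat_lit 27589,nat_lit 1119227,nat_lit 21710,nat_lit 1326911,nat_lit 473514,nat_lit 1381308,nat_lit 1726,nat_lit 265828,nat_lit 72447,nat_lit 1098497,nat_lit 123918,nat_lit 81478,nat_lit 463953,nat_lit 462655,nat_lit 5151024,nat_lit 107844,nat_lit 1328060,nat_lit 1829180,nat_lit 2047759,nat_lit 275369,nat_lit 326737,nat_lit 1089,nat_lit 443388,nat_lit 1101486,nat_lit 1098812,nat_lit 509162,nat_lit 420858,nat_lit 431537,nat_lit 1157777,nat_lit 29019,nat_lit 21611,nat_lit 124012,nat_lit 1462331,nat_lit 343617,nat_lit 1134245,nat_lit 312379,nat_lit 5402,nat_lit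 16624,nat_lit 81642,nat_lit 502028,nat_lit 453375,nat_lit 465519,nat_lit 327937,nat_lit 263589,nat_lit 20430,nat_lit 81935,nat_lit 340964,nat_lit 72302,nat_lit 1727,nat_lit 87012,nat_lit 340368,nat_lit 1130939,nat_lit 92773,nat_lit 464633,nat_lit 81606,nat_lit 283406,nat_lit 267710,nat_lit 420860,nat_lit 27219,nat_lit 284950,nat_lit 29611,nat_lit 2030335,nat_lit 1740801,nat_lit 66660,nat_lit 1114475,nat_lit 315087,nat_lit 130283,nat_lit 29625,nat_lit 506278,nat_lit 1152005,nat_lit 420163,nat_lit 1863483,nat_lit 1723,nat_lit 1162863,nat_lit 27045,nat_lit 327962,nat_lit 430186,nat_lit 4154,nat_lit 4463276,nat_lit 66828,nat_lit 1141332,nat_lit 88761,nat_lit 263174,nat_lit 1403582,nat_lit 1376230,nat_lit 130970,nat_lit 111552,nat_lit 70076,nat_lit 462862,nat_lit 118523,nat_lit 440576,nat_lit 438192,nat_lit 344175,nat_lit 411390,nat_lit 125243,nat_lit 1299,nat_lit 81577,nat_lit 1107265,nat_lit 22092,nat_lit 435248,nat_lit 1314532,nat_lit 348217,nat_lit 421818,nat_lit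 130031,nat_lit 418820,nat_lit 110572,nat_lit 1098852,nat_lit 1119914,nat_lit 522512,nat_lit 322545,nat_lit 1420009,nat_lit 289433,nat_lit 440918,nat_lit 1248832,nat_lit 80147,nat_lit 131051,nat_lit 127171,nat_lit 518489,nat_lit 28410,nat_lit 326641,nat_lit 283887,nat_lit 436499,nat_lit 72357,nat_lit 285337,nat_lit 1110339,nat_lit 115971,nat_lit 1108412,nat_lit 290713,nat_lit 31737,nat_lit 4500,nat_lit 1129228,nat_lit 21935,nat_lit 82224,nat_lit 31321,nat_lit 102478,nat_lit 267315,nat_lit 289878,nat_lit 114427,nat_lit 92522,nat_lit 282966,nat_lit 462523,nat_lit 72260,nat_lit 1097925,nat_lit 1727046,nat_lit 349379,nat_lit 1055343,nat_lit 330820,nat_lit 1998,nat_lit 1101572,nat_lit 444053,nat_lit 27546,nat_lit 416703,nat_lit 432433,nat_lit 1307,nat_lit 263216,nat_lit 1029,nat_lit 4243483,nat_lit 263091,nat_lit 517220,nat_lit 82241,nat_lit 277440,nat_lit 107963,nat_lit 78063,nat_lit 1285035,nat_lit 1370821,nat_lit 85061,nat_lit 1099066,nat_lit 354883,nat_lit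 1309274,nat_lit 7995,nat_lit 1330404,nat_lit 110187,nat_lit 20250,nat_lit 67268,nat_lit 321259,nat_lit 72339,nat_lit 1130475,nat_lit 371686,nat_lit 1070079,nat_lit 354705,nat_lit 345066,nat_lit 1382668,nat_lit 432876,nat_lit 82353,nat_lit 108814,nat_lit 69552,nat_lit 1388827,nat_lit 1420238,nat_lit 93284,nat_lit 280298,nat_lit 92561,nat_lit 267568,nat_lit 278633,nat_lit 125233,nat_lit 365465,nat_lit 315198,nat_lit 351166,nat_lit 409648,nat_lit 431680,nat_lit 332995,nat_lit 86800,nat_lit 1064979,nat_lit 267690,nat_lit 444096,nat_lit 70607,nat_lit 438185,nat_lit 82238,nat_lit 1360812,nat_lit 31505,nat_lit 129452,nat_lit 369733,nat_lit 517397,nat_lit 69562,nat_lit 327436,nat_lit 281665,nat_lit 323817,nat_lit 2025,nat_lit 340225,nat_lit 1774910,nat_lit 1133809,nat_lit 110948,nat_lit 1654713,nat_lit 265323,nat_lit 277582,nat_lit 5886,nat_lit 329360,nat_lit 129349,nat_lit 1157904,nat_lit 501327,nat_lit 1070138,nat_lit 130132,nat_lit 414028,nat_lit 517395,nat_lit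 127974,nat_lit 328726,nat_lit 1141692,nat_lit 432411,nat_lit 345420,nat_lit 333200,nat_lit 17854,nat_lit 71423,nat_lit 80177,nat_lit 312261,nat_lit 1068115,nat_lit 436550,nat_lit 127227,nat_lit 31380,nat_lit 85584,nat_lit 113003,nat_lit 1986497,nat_lit 102825,nat_lit 313020,nat_lit 4117,nat_lit 85678,nat_lit 123930,nat_lit 509531,nat_lit 1055315,nat_lit 22784,nat_lit 435483,nat_lit 340288,nat_lit 372480,nat_lit 28345,nat_lit 430436,nat_lit 1117263,nat_lit 83198,nat_lit 130645,nat_lit 268627,nat_lit 20545,nat_lit 453225,nat_lit 459854,nat_lit 16811,nat_lit 27050,nat_lit 268570,nat_lit 287855,nat_lit 1252070,nat_lit 1141827,nat_lit 1298404,nat_lit 1396332,nat_lit 85951,nat_lit 19518,nat_lit 1070480,nat_lit 347372,nat_lit 420929,nat_lit 71950,nat_lit 114608,nat_lit 71993,nat_lit 5029,nat_lit 321222,nat_lit 5397,nat_lit 276762,nat_lit 420931,nat_lit 413721,nat_lit 465855,nat_lit 17828,nat_lit 27315,nat_lit 1768026,nat_lit 87706,nat_lit 5141,nat_lit 1372442,nat_lit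 1109764,nat_lit 71337,nat_lit 1061189,nat_lit 69433,nat_lit 28588,nat_lit 289425,nat_lit 1502297,nat_lit 1288531,nat_lit 72276,nat_lit 27385,nat_lit 409807,nat_lit 284309,nat_lit 105124,nat_lit 1108741,nat_lit 334587,nat_lit 113404,nat_lit 426,nat_lit 519278,nat_lit 454565,nat_lit 436500,nat_lit 1070166,nat_lit 4543,nat_lit 1113881,nat_lit 19456,nat_lit 130035,nat_lit 21568,nat_lit 72473,nat_lit 444058,nat_lit 113071,nat_lit 22095,nat_lit 87120,nat_lit 66501,nat_lit 22890,nat_lit 1063692,nat_lit 1459251,nat_lit 282734,nat_lit 105110,nat_lit 364911,nat_lit 1108734,nat_lit 23359,nat_lit 437836,nat_lit 1294564,nat_lit 1162182,nat_lit 66963,nat_lit 129280,nat_lit 107770,nat_lit 93761,nat_lit 1074611,nat_lit 1658820,nat_lit 414980,nat_lit 80297,nat_lit 344506,nat_lit 353680,nat_lit 289873,nat_lit 71940,nat_lit 1156113,nat_lit 129984,nat_lit 285502,nat_lit 375468,nat_lit 371004,nat_lit 1770586,nat_lit 108848,nat_lit 431788,nat_lit 123987,nat_lit 16643,nat_lit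 5327,nat_lit 17408,nat_lit 345348,nat_lit 72262,nat_lit 347227,nat_lit 432902,nat_lit 442131,nat_lit 1120854,nat_lit 343963,nat_lit 1075889,nat_lit 81599,nat_lit 416059,nat_lit 1142457,nat_lit 290574,nat_lit 27312,nat_lit 6806,nat_lit 18068,nat_lit 345094,nat_lit 1076825,nat_lit 118427,nat_lit 70971,nat_lit 355307,nat_lit 334143,nat_lit 71248,nat_lit 326756,nat_lit 83139,nat_lit 263107,nat_lit 411056,nat_lit 31487,nat_lit 415484,nat_lit 66363,nat_lit 93249,nat_lit 7787,nat_lit 80911,nat_lit 80495,nat_lit 4345,nat_lit 280293,nat_lit 459696,nat_lit 348396,nat_lit 31723,nat_lit 1308990,nat_lit 1160113,nat_lit 517776,nat_lit 502356,nat_lit 91472,nat_lit 1330793,nat_lit 1282070]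
def orb6 : List Nat := [nat_lit 4430780,nat_lit 1676560,nat_lit 16709,nat_lit 495844,nat_lit 313006,nat_lit 412736,nat_lit 102835,nat_lit 1069482,nat_lit 278608,nat_lit 5179,nat_lit 464272,nat_lit 1069124,nat_lit 461844,nat_lit 1252275,nat_lit 125187,nat_lit 1370385,nat_lit 1098831,nat_lit 371605,nat_lit 2046211,nat_lit 412675,nat_lit 289859,nat_lit 372481,nat_lit 28684,nat_lit 104129,nat_lit 282724,nat_lit 413679,nat_lit 28326,nat_lit 72019,nat_lit 80665,nat_lit 281658,nat_lit 21868,nat_lit 311729,nat_lit 442771,nat_lit 1807686,nat_lit 344048,nat_lit 1309462,nat_lit 1161577,nat_lit 1314560,nat_lit 5118,nat_lit 31376,nat_lit 123974,nat_lit 438341,nat_lit 1141440,nat_lit 331782,nat_lit 459187,nat_lit 314,nat_lit 80272,nat_lit 1852314,nat_lit 31409,nat_lit 7849,nat_lit 375573,nat_lit 1115129,nat_lit 446271,nat_lit 115777,nat_lit 1108891,nat_lit 375046,nat_lit 1131803,nat_lit 1424,nat_lit 112899,nat_lit 103502,nat_lit 454660,nat_lit 364549,nat_lit 21254,nat_lit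 27369,nat_lit 18110,nat_lit 116046,nat_lit 1066649,nat_lit 70906,nat_lit 102747,nat_lit 1246443,nat_lit 83350,nat_lit 115470,nat_lit 1645210,nat_lit 262234,nat_lit 20245,nat_lit 420947,nat_lit 1053888,nat_lit 102607,nat_lit 129681,nat_lit 127935,nat_lit 1060940,nat_lit 464154,nat_lit 455078,nat_lit 1136911,nat_lit 1311833,nat_lit 131046,nat_lit 1326102,nat_lit 1114556,nat_lit 129299,nat_lit 453658,nat_lit 67162,nat_lit 355918,nat_lit 32339,nat_lit 343867,nat_lit 78094,nat_lit 1463407,nat_lit 267462,nat_lit 4294,nat_lit 340208,nat_lit 355302,nat_lit 20486,nat_lit 453374,nat_lit 114410,nat_lit 18156,nat_lit 1052901,nat_lit 349946,nat_lit 4279909,nat_lit 1307563,nat_lit 349294,nat_lit 17808,nat_lit 458414,nat_lit 283454,nat_lit 1687470,nat_lit 6462,nat_lit 342595,nat_lit 267290,nat_lit 21605,nat_lit 275372,nat_lit 354906,nat_lit 104172,nat_lit 93235,nat_lit 31300,nat_lit 329027,nat_lit 441925,nat_lit 31502,nat_lit 5353,nat_lit 1328389,nat_lit 276926,nat_lit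 289084,nat_lit 103226,nat_lit 25622,nat_lit 290448,nat_lit 87019,nat_lit 6491,nat_lit 1107690,nat_lit 1465029,nat_lit 31855,nat_lit 1292547,nat_lit 1639653,nat_lit 1776581,nat_lit 126195,nat_lit 131014,nat_lit 328767,nat_lit 465558,nat_lit 375812,nat_lit 94127,nat_lit 473913,nat_lit 31492,nat_lit 7067,nat_lit 349459,nat_lit 1075643,nat_lit 312549,nat_lit 340037,nat_lit 267620,nat_lit 127311,nat_lit 343806,nat_lit 1101477,nat_lit 451903,nat_lit 334414,nat_lit 110244,nat_lit 108905,nat_lit 19532,nat_lit 2003771,nat_lit 421582,nat_lit 345061,nat_lit 91579,nat_lit 506190,nat_lit 349774,nat_lit 1421206,nat_lit 1479428,nat_lit 321174,nat_lit 109124,nat_lit 114921,nat_lit 1053454,nat_lit 265278,nat_lit 85758,nat_lit 71422,nat_lit 1310460,nat_lit 283973,nat_lit 82127,nat_lit 1051739,nat_lit 5866,nat_lit 265327,nat_lit 1812846,nat_lit 347899,nat_lit 18000,nat_lit 496049,nat_lit 343027,nat_lit 277268,nat_lit 282715,nat_lit 279803,nat_lit 1162213,nat_lit 431845,nat_lit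 262545,nat_lit 93205,nat_lit 1336337,nat_lit 333038,nat_lit 1361152,nat_lit 345081,nat_lit 350490,nat_lit 1126483,nat_lit 105465,nat_lit 111555,nat_lit 70913,nat_lit 1290641,nat_lit 438540,nat_lit 1307539,nat_lit 27220,nat_lit 436826,nat_lit 1658598,nat_lit 107526,nat_lit 1261164,nat_lit 442673,nat_lit 115004,nat_lit 1119916,nat_lit 4346,nat_lit 1246890,nat_lit 1485811,nat_lit 321793,nat_lit 92430,nat_lit 22885,nat_lit 332111,nat_lit 28940,nat_lit 285637,nat_lit 28910,nat_lit 31760,nat_lit 114747,nat_lit 67242,nat_lit 17745,nat_lit 312079,nat_lit 115035,nat_lit 1296026,nat_lit 355248,nat_lit 330841,nat_lit 20675,nat_lit 92441,nat_lit 289038,nat_lit 70595,nat_lit 266160,nat_lit 6574,nat_lit 1855,nat_lit 1361649,nat_lit 103761,nat_lit 85681,nat_lit 1294323,nat_lit 315342,nat_lit 1054990,nat_lit 1151337,nat_lit 20053,nat_lit 103510,nat_lit 437491,nat_lit 7174,nat_lit 28780,nat_lit 278974,nat_lit 442428,nat_lit 22869,nat_lit 1070362,nat_lit 278204,nat_lit 5161878,nat_lit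 19483,nat_lit 72281,nat_lit 340036,nat_lit 339993,nat_lit 522597,nat_lit 91,nat_lit 20197,nat_lit 1361296,nat_lit 1066321,nat_lit 453270,nat_lit 20201,nat_lit 265983,nat_lit 66661,nat_lit 81838,nat_lit 1314901,nat_lit 1115333,nat_lit 1113188,nat_lit 267375,nat_lit 326289,nat_lit 1377339,nat_lit 371761,nat_lit 69374,nat_lit 496580,nat_lit 1055726,nat_lit 410393,nat_lit 116369,nat_lit 1724507,nat_lit 21262,nat_lit 125268,nat_lit 345113,nat_lit 31153,nat_lit 311321,nat_lit 70757,nat_lit 503835,nat_lit 20155,nat_lit 1294399,nat_lit 16810,nat_lit 1048943,nat_lit 267711,nat_lit 285369,nat_lit 1061803,nat_lit 376049,nat_lit 17331,nat_lit 342604,nat_lit 464149,nat_lit 125331,nat_lit 320787,nat_lit 25957,nat_lit 115953,nat_lit 327359,nat_lit 1099499,nat_lit 68624,nat_lit 1392947,nat_lit 458307,nat_lit 343636,nat_lit 1487082,nat_lit 108096,nat_lit 269244,nat_lit 284996,nat_lit 1141738,nat_lit 69380,nat_lit 25962,nat_lit 1479598,nat_lit 366171,nat_lit 1462321,nat_lit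 7396,nat_lit 278268,nat_lit 86976,nat_lit 443654,nat_lit 411342,nat_lit 333562,nat_lit 326038,nat_lit 1076476,nat_lit 282609,nat_lit 78763,nat_lit 1151744,nat_lit 435882,nat_lit 72268,nat_lit 333398,nat_lit 267281,nat_lit 5867,nat_lit 1121022,nat_lit 1053009,nat_lit 1061295,nat_lit 503731,nat_lit 420,nat_lit 103375,nat_lit 454681,nat_lit 1152698,nat_lit 118720,nat_lit 1250502,nat_lit 94117,nat_lit 435866,nat_lit 69306,nat_lit 111526,nat_lit 431310,nat_lit 1458606,nat_lit 32689,nat_lit 105467,nat_lit 4436415,nat_lit 28644,nat_lit 457489,nat_lit 29118,nat_lit 1381125,nat_lit 5804,nat_lit 82227,nat_lit 21424,nat_lit 114937,nat_lit 91412,nat_lit 342348,nat_lit 454579,nat_lit 414654,nat_lit 23502,nat_lit 462595,nat_lit 113772,nat_lit 326725,nat_lit 4630804,nat_lit 508268,nat_lit 4153,nat_lit 1404902,nat_lit 315140,nat_lit 114746,nat_lit 437482,nat_lit 70577,nat_lit 290559,nat_lit 320854,nat_lit 1479002,nat_lit 373182,nat_lit 437318,nat_lit 1129274,nat_lit 452336,nat_lit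 93804,nat_lit 1250325,nat_lit 114490,nat_lit 326,nat_lit 80144,nat_lit 109145,nat_lit 1681772,nat_lit 27379,nat_lit 1776319,nat_lit 1681,nat_lit 129342,nat_lit 473430,nat_lit 457147,nat_lit 17508,nat_lit 115094,nat_lit 94140,nat_lit 4282641,nat_lit 27283,nat_lit 456981,nat_lit 267067,nat_lit 1393414,nat_lit 1249267,nat_lit 495717,nat_lit 113338,nat_lit 430140,nat_lit 370105,nat_lit 7865,nat_lit 1115412,nat_lit 17395,nat_lit 80666,nat_lit 376740,nat_lit 289040,nat_lit 4207,nat_lit 1334249,nat_lit 87098,nat_lit 124164,nat_lit 304,nat_lit 69571,nat_lit 443598,nat_lit 113007,nat_lit 102721,nat_lit 507926,nat_lit 65797,nat_lit 440582,nat_lit 26318,nat_lit 130032,nat_lit 333043,nat_lit 1055401,nat_lit 507982,nat_lit 345772,nat_lit 1325829,nat_lit 326459,nat_lit 463254,nat_lit 281838,nat_lit 465813,nat_lit 1653436,nat_lit 80634,nat_lit 473454,nat_lit 331578,nat_lit 412901,nat_lit 21909,nat_lit 268545,nat_lit 410622,nat_lit 23295,nat_lit 68677,nat_lit 340217,nat_lit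 496389,nat_lit 25834,nat_lit 91566,nat_lit 435909,nat_lit 116417,nat_lit 289198,nat_lit 107781,nat_lit 267028,nat_lit 86012,nat_lit 1142587,nat_lit 82995,nat_lit 267685,nat_lit 1849787,nat_lit 26963,nat_lit 278756,nat_lit 115631,nat_lit 268026,nat_lit 109510,nat_lit 311727,nat_lit 501397,nat_lit 343793,nat_lit 356240,nat_lit 410860,nat_lit 1399102,nat_lit 1768012,nat_lit 281691,nat_lit 126001,nat_lit 23110,nat_lit 442048,nat_lit 267503,nat_lit 115772,nat_lit 6740,nat_lit 1061838,nat_lit 267921,nat_lit 496532,nat_lit 125516,nat_lit 86362,nat_lit 5135,nat_lit 1829616,nat_lit 29035,nat_lit 508224,nat_lit 92751,nat_lit 112977,nat_lit 322563,nat_lit 1336321,nat_lit 518565,nat_lit 1687494,nat_lit 326630,nat_lit 108819,nat_lit 327942,nat_lit 26044,nat_lit 70675,nat_lit 87022,nat_lit 88420,nat_lit 443452,nat_lit 431771,nat_lit 80185,nat_lit 442005,nat_lit 344377,nat_lit 4201,nat_lit 437310,nat_lit 287987,nat_lit 92566,nat_lit 363,nat_lit 1245585,nat_lit 2008149,nat_lit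 1142545,nat_lit 311721,nat_lit 1900262,nat_lit 2027,nat_lit 371513,nat_lit 276906,nat_lit 415299,nat_lit 22874,nat_lit 451860,nat_lit 463937,nat_lit 509524,nat_lit 435222,nat_lit 5116,nat_lit 82863,nat_lit 116074,nat_lit 1136944,nat_lit 1505876,nat_lit 1376613,nat_lit 268548,nat_lit 370089,nat_lit 32708,nat_lit 1484047,nat_lit 1282369,nat_lit 1808724,nat_lit 114681,nat_lit 107761,nat_lit 1074483,nat_lit 1101502,nat_lit 129450,nat_lit 372676,nat_lit 125955,nat_lit 1306371,nat_lit 130107,nat_lit 127024,nat_lit 266156,nat_lit 285391,nat_lit 1061120,nat_lit 1053692,nat_lit 509516,nat_lit 312254,nat_lit 31632,nat_lit 1055462,nat_lit 414810,nat_lit 1656005,nat_lit 110928,nat_lit 457446,nat_lit 66886,nat_lit 25625,nat_lit 28329,nat_lit 278864,nat_lit 263248,nat_lit 4163,nat_lit 442431,nat_lit 92860,nat_lit 1130755,nat_lit 1052358,nat_lit 69989,nat_lit 104774,nat_lit 109316,nat_lit 276758,nat_lit 129305,nat_lit 458837,nat_lit 276915,nat_lit 1101476,nat_lit 323179,nat_lit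 524182,nat_lit 441025,nat_lit 91372,nat_lit 1246885,nat_lit 269235,nat_lit 70762,nat_lit 87743,nat_lit 31721,nat_lit 93849,nat_lit 17839,nat_lit 278618,nat_lit 1119675,nat_lit 126014,nat_lit 290452,nat_lit 282873,nat_lit 1658949,nat_lit 340250,nat_lit 282987,nat_lit 410896,nat_lit 19542,nat_lit 356335,nat_lit 6732,nat_lit 5017,nat_lit 104080,nat_lit 435621,nat_lit 92933,nat_lit 1137329,nat_lit 83541,nat_lit 288076,nat_lit 437865,nat_lit 129807,nat_lit 1298325,nat_lit 342715,nat_lit 1303866,nat_lit 453275,nat_lit 89072,nat_lit 69225,nat_lit 5220,nat_lit 28699,nat_lit 1283733,nat_lit 1304155,nat_lit 457492,nat_lit 509034,nat_lit 439246,nat_lit 1162822,nat_lit 267071,nat_lit 85948,nat_lit 416017,nat_lit 20282,nat_lit 441409,nat_lit 520448,nat_lit 93937,nat_lit 288003,nat_lit 23289,nat_lit 5520,nat_lit 344997,nat_lit 1071760,nat_lit 66881,nat_lit 1676729,nat_lit 1305537,nat_lit 517354,nat_lit 72004,nat_lit 72003,nat_lit 19540,nat_lit 29116,nat_lit 32569,nat_lit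 124251,nat_lit 348395,nat_lit 462822,nat_lit 504057,nat_lit 102734,nat_lit 19695,nat_lit 1055685,nat_lit 1403888,nat_lit 5215297,nat_lit 31724,nat_lit 348357,nat_lit 1282879,nat_lit 67323,nat_lit 283052,nat_lit 1317477,nat_lit 473705,nat_lit 421,nat_lit 1333504,nat_lit 1250287,nat_lit 1052782,nat_lit 366319,nat_lit 1126737,nat_lit 1135696,nat_lit 430398,nat_lit 17726,nat_lit 1371371,nat_lit 1403883,nat_lit 1855507,nat_lit 6585,nat_lit 371697,nat_lit 339994,nat_lit 283711,nat_lit 524051,nat_lit 2046270,nat_lit 1369359,nat_lit 1421508,nat_lit 1829953,nat_lit 1117417,nat_lit 1152332,nat_lit 125627,nat_lit 1134932,nat_lit 124133,nat_lit 1115817,nat_lit 1363881,nat_lit 282710,nat_lit 4221260,nat_lit 334505,nat_lit 1326683,nat_lit 1250048,nat_lit 464623,nat_lit 419244,nat_lit 1327875,nat_lit 328910,nat_lit 1049494,nat_lit 23230,nat_lit 413937,nat_lit 1061861,nat_lit 266491,nat_lit 118351,nat_lit 92913,nat_lit 278289,nat_lit 7958,nat_lit 28612,nat_lit 463187,nat_lit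 107923,nat_lit 1458256,nat_lit 347819,nat_lit 1054988,nat_lit 1849765,nat_lit 275407,nat_lit 20240,nat_lit 333205,nat_lit 1293563,nat_lit 1117765,nat_lit 1137001,nat_lit 287939,nat_lit 344998,nat_lit 72641,nat_lit 31974,nat_lit 81902,nat_lit 1376340,nat_lit 347877,nat_lit 1055636,nat_lit 1293007,nat_lit 5521498,nat_lit 340069,nat_lit 350476,nat_lit 1290176,nat_lit 17494,nat_lit 283881,nat_lit 365850,nat_lit 109121,nat_lit 1113667,nat_lit 464186,nat_lit 457286,nat_lit 287828,nat_lit 91452,nat_lit 1115375,nat_lit 345793,nat_lit 345745,nat_lit 130154,nat_lit 322241,nat_lit 115692,nat_lit 323819,nat_lit 125695,nat_lit 1298348,nat_lit 334420,nat_lit 441411,nat_lit 28571,nat_lit 105148,nat_lit 1132100,nat_lit 20911,nat_lit 71076,nat_lit 440748,nat_lit 430315,nat_lit 1060931,nat_lit 1290174,nat_lit 86974,nat_lit 413889,nat_lit 420798,nat_lit 113615,nat_lit 465555,nat_lit 333136,nat_lit 92928,nat_lit 276763,nat_lit 1230,nat_lit 518885,nat_lit 1683537,nat_lit 328794,nat_lit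 21455,nat_lit 328636,nat_lit 113614,nat_lit 1055411,nat_lit 1135,nat_lit 1310272,nat_lit 5523,nat_lit 17168,nat_lit 87316,nat_lit 1052911,nat_lit 1360110,nat_lit 343150,nat_lit 78265,nat_lit 415462,nat_lit 7932,nat_lit 1490710,nat_lit 4199427,nat_lit 27665,nat_lit 451833,nat_lit 83376,nat_lit 438676,nat_lit 88750,nat_lit 332180,nat_lit 364801,nat_lit 351173,nat_lit 456980,nat_lit 92859,nat_lit 23235,nat_lit 2084452,nat_lit 93936,nat_lit 70651,nat_lit 343022,nat_lit 414961,nat_lit 5104,nat_lit 17765,nat_lit 410532,nat_lit 69638,nat_lit 87787,nat_lit 2014451,nat_lit 1831253,nat_lit 1305,nat_lit 473852,nat_lit 5466,nat_lit 443371,nat_lit 81809,nat_lit 1500606,nat_lit 431003,nat_lit 320955,nat_lit 80,nat_lit 270,nat_lit 70734,nat_lit 28942,nat_lit 267371,nat_lit 83605,nat_lit 430163,nat_lit 376473,nat_lit 112997,nat_lit 20846,nat_lit 28869,nat_lit 1052657,nat_lit 473919,nat_lit 1066265,nat_lit 72654,nat_lit 20463,nat_lit 1327423,nat_lit 1396377,nat_lit 1282073,nat_lit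 441937,nat_lit 1339376,nat_lit 1381649,nat_lit 124011,nat_lit 5205,nat_lit 103745,nat_lit 16741,nat_lit 289856,nat_lit 1050005,nat_lit 127230,nat_lit 345146,nat_lit 282630,nat_lit 452351,nat_lit 453198,nat_lit 107926,nat_lit 375184,nat_lit 125264,nat_lit 67140,nat_lit 1404836,nat_lit 23123,nat_lit 21761,nat_lit 334160,nat_lit 105212,nat_lit 2025214,nat_lit 4302,nat_lit 92862,nat_lit 103824,nat_lit 32526,nat_lit 355310,nat_lit 32533,nat_lit 440595,nat_lit 326321,nat_lit 435454,nat_lit 116027,nat_lit 265324,nat_lit 496729,nat_lit 375531,nat_lit 279804,nat_lit 67324,nat_lit 432868,nat_lit 72282,nat_lit 127235,nat_lit 1338289,nat_lit 1114937,nat_lit 21931,nat_lit 1158395,nat_lit 373740,nat_lit 22160,nat_lit 323220,nat_lit 348111,nat_lit 28649,nat_lit 21417,nat_lit 473835,nat_lit 496,nat_lit 5011,nat_lit 109809,nat_lit 323182,nat_lit 507822,nat_lit 70917,nat_lit 465155,nat_lit 4412,nat_lit 72270,nat_lit 22105,nat_lit 4201125,nat_lit 431088,nat_lit 326592,nat_lit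 114931,nat_lit 1486427,nat_lit 312303,nat_lit 1288902,nat_lit 278726,nat_lit 27028,nat_lit 85733,nat_lit 458724,nat_lit 1113684,nat_lit 1492686,nat_lit 1394266,nat_lit 328644,nat_lit 451664,nat_lit 108262,nat_lit 1135020,nat_lit 256,nat_lit 71411,nat_lit 290582,nat_lit 5206,nat_lit 322581,nat_lit 116474,nat_lit 66819,nat_lit 112985,nat_lit 1279,nat_lit 28761,nat_lit 67241,nat_lit 1356,nat_lit 88751,nat_lit 66927,nat_lit 284353,nat_lit 375871,nat_lit 83196,nat_lit 78139,nat_lit 114992,nat_lit 345179,nat_lit 344339,nat_lit 1957,nat_lit 277520,nat_lit 508161,nat_lit 7765,nat_lit 125587,nat_lit 85822,nat_lit 7790,nat_lit 6417,nat_lit 66540,nat_lit 8171,nat_lit 376505,nat_lit 109147,nat_lit 369918,nat_lit 279985,nat_lit 321203,nat_lit 69700,nat_lit 93433,nat_lit 410382,nat_lit 23105,nat_lit 2010201,nat_lit 69713,nat_lit 458437,nat_lit 430316,nat_lit 344838,nat_lit 124330,nat_lit 26262,nat_lit 451866,nat_lit 289369,nat_lit 1661690,nat_lit 410725,nat_lit 1675584,nat_lit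 504815,nat_lit 4462,nat_lit 410001,nat_lit 274497,nat_lit 1375183,nat_lit 125292,nat_lit 441582,nat_lit 67257,nat_lit 282830,nat_lit 82916,nat_lit 263596,nat_lit 345755,nat_lit 28902,nat_lit 500793,nat_lit 283055,nat_lit 93844,nat_lit 282863,nat_lit 113663,nat_lit 268571,nat_lit 1051753,nat_lit 72435,nat_lit 464069,nat_lit 1380335,nat_lit 411310,nat_lit 267630,nat_lit 1642553,nat_lit 116393,nat_lit 1336603,nat_lit 6576,nat_lit 280299,nat_lit 32531,nat_lit 277056,nat_lit 463274,nat_lit 22271,nat_lit 82236,nat_lit 109164,nat_lit 262235,nat_lit 124101,nat_lit 524046,nat_lit 20371,nat_lit 21908,nat_lit 349295,nat_lit 520430,nat_lit 1128788,nat_lit 4204,nat_lit 110790,nat_lit 1463701,nat_lit 1070287,nat_lit 127228,nat_lit 109326,nat_lit 6572,nat_lit 366,nat_lit 4335,nat_lit 315151,nat_lit 91246,nat_lit 412689,nat_lit 86212,nat_lit 290032,nat_lit 66878,nat_lit 282382,nat_lit 109646,nat_lit 452243,nat_lit 315120,nat_lit 289189,nat_lit 1119226,nat_lit 1051749,nat_lit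 285588,nat_lit 1130474,nat_lit 125605,nat_lit 372422,nat_lit 340203,nat_lit 69438,nat_lit 275366,nat_lit 7748,nat_lit 281614,nat_lit 103180,nat_lit 89022,nat_lit 77839,nat_lit 20804,nat_lit 21742,nat_lit 342801,nat_lit 93251,nat_lit 8129,nat_lit 108181,nat_lit 345771,nat_lit 332566,nat_lit 282948,nat_lit 5525145,nat_lit 87471,nat_lit 446233,nat_lit 324591,nat_lit 1109948,nat_lit 517454,nat_lit 1893818,nat_lit 375918,nat_lit 113407,nat_lit 365317,nat_lit 324603,nat_lit 26966,nat_lit 1381690,nat_lit 83251,nat_lit 1306564,nat_lit 279978,nat_lit 72639,nat_lit 1425329,nat_lit 278182,nat_lit 263233,nat_lit 27734,nat_lit 267152,nat_lit 364564,nat_lit 347802,nat_lit 1388977,nat_lit 263164,nat_lit 504004,nat_lit 413412,nat_lit 23491,nat_lit 278294,nat_lit 81841,nat_lit 465596,nat_lit 350790,nat_lit 1157701,nat_lit 1157521,nat_lit 1053102,nat_lit 320718,nat_lit 350825,nat_lit 284012,nat_lit 20078,nat_lit 522929,nat_lit 105194,nat_lit 276736,nat_lit 127402,nat_lit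 87054,nat_lit 113358,nat_lit 355950,nat_lit 372720,nat_lit 285681,nat_lit 289777,nat_lit 130980,nat_lit 108118,nat_lit 1961,nat_lit 105232,nat_lit 421779,nat_lit 1063705,nat_lit 85235,nat_lit 20710,nat_lit 16659,nat_lit 496059,nat_lit 17988,nat_lit 457025,nat_lit 1295253,nat_lit 1363525,nat_lit 459761,nat_lit 1249371,nat_lit 464559,nat_lit 269204,nat_lit 267313,nat_lit 356112,nat_lit 107791,nat_lit 345513,nat_lit 23311,nat_lit 511722,nat_lit 27749,nat_lit 356123,nat_lit 23275,nat_lit 436502,nat_lit 503471,nat_lit 69657,nat_lit 462436,nat_lit 8080,nat_lit 348467,nat_lit 113684,nat_lit 1727247,nat_lit 19,nat_lit 89008,nat_lit 1103,nat_lit 435919,nat_lit 22805,nat_lit 31038,nat_lit 278,nat_lit 509509,nat_lit 110789,nat_lit 1117801,nat_lit 69648,nat_lit 69733,nat_lit 7102,nat_lit 1855174,nat_lit 111599,nat_lit 517808,nat_lit 126020,nat_lit 93435,nat_lit 342293,nat_lit 475086,nat_lit 28686,nat_lit 83536,nat_lit 23525,nat_lit 376825,nat_lit 31758,nat_lit 1359,nat_lit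 20243,nat_lit 463,nat_lit 104113,nat_lit 125948,nat_lit 440901,nat_lit 1661285,nat_lit 289473,nat_lit 1072027,nat_lit 22,nat_lit 409806,nat_lit 129350,nat_lit 332876,nat_lit 502102,nat_lit 88723,nat_lit 267945,nat_lit 1052415,nat_lit 19711,nat_lit 279574,nat_lit 277483,nat_lit 103679,nat_lit 31812,nat_lit 109374,nat_lit 1492403,nat_lit 1325489,nat_lit 282266,nat_lit 32659,nat_lit 345082,nat_lit 126543,nat_lit 289478,nat_lit 326331,nat_lit 87059,nat_lit 81977,nat_lit 6724,nat_lit 87441,nat_lit 70981,nat_lit 4538,nat_lit 498620,nat_lit 1061887,nat_lit 129471,nat_lit 68609,nat_lit 413702,nat_lit 1665642,nat_lit 279782,nat_lit 28580,nat_lit 348602,nat_lit 343834,nat_lit 87440,nat_lit 1108548,nat_lit 332901,nat_lit 70726,nat_lit 5801,nat_lit 1486788,nat_lit 284979,nat_lit 93892,nat_lit 263870,nat_lit 66556,nat_lit 500822,nat_lit 431014,nat_lit 72454,nat_lit 1812,nat_lit 462778,nat_lit 356153,nat_lit 78787,nat_lit 355265,nat_lit 28570,nat_lit 127052,nat_lit 23551,nat_lit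 110832,nat_lit 1752070,nat_lit 355946,nat_lit 376571,nat_lit 1305009,nat_lit 321861,nat_lit 115054,nat_lit 113065,nat_lit 507795,nat_lit 497940,nat_lit 1309675,nat_lit 504809,nat_lit 83537,nat_lit 87273,nat_lit 27755,nat_lit 431077,nat_lit 123980,nat_lit 324004,nat_lit 4255984,nat_lit 1660590,nat_lit 312399,nat_lit 93782,nat_lit 20750,nat_lit 82171,nat_lit 1161534,nat_lit 1130428,nat_lit 1677049,nat_lit 104134,nat_lit 102635,nat_lit 1028,nat_lit 334150,nat_lit 342933,nat_lit 2024533,nat_lit 81985,nat_lit 432484,nat_lit 458640,nat_lit 87044,nat_lit 25700,nat_lit 85759,nat_lit 371606,nat_lit 438358,nat_lit 26348,nat_lit 263428,nat_lit 263188,nat_lit 452921,nat_lit 364593,nat_lit 124177,nat_lit 107962,nat_lit 26939,nat_lit 102764,nat_lit 78249,nat_lit 519770,nat_lit 311345,nat_lit 4272532,nat_lit 1064868,nat_lit 473358,nat_lit 1285009,nat_lit 278804,nat_lit 115708,nat_lit 81726,nat_lit 1332335,nat_lit 285014,nat_lit 126998,nat_lit 1774993,nat_lit 453692,nat_lit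 6566,nat_lit 72511,nat_lit 5230,nat_lit 332558,nat_lit 323589,nat_lit 454566,nat_lit 1069381,nat_lit 16788,nat_lit 333466,nat_lit 1076826,nat_lit 1312495,nat_lit 322617,nat_lit 1158732,nat_lit 81936,nat_lit 4515237,nat_lit 1130820,nat_lit 348603,nat_lit 4102,nat_lit 124015,nat_lit 102485,nat_lit 91471,nat_lit 1107054,nat_lit 21249,nat_lit 16638,nat_lit 1158846,nat_lit 290564,nat_lit 113301,nat_lit 93882,nat_lit 278083,nat_lit 463169,nat_lit 326227,nat_lit 279974,nat_lit 333505,nat_lit 1064597,nat_lit 4289,nat_lit 441348,nat_lit 421099,nat_lit 124266,nat_lit 278275,nat_lit 1158831,nat_lit 348180,nat_lit 1726768,nat_lit 278975,nat_lit 103409,nat_lit 113233,nat_lit 285466,nat_lit 86438,nat_lit 23205,nat_lit 81636,nat_lit 278809,nat_lit 31854,nat_lit 124225,nat_lit 94142,nat_lit 517205,nat_lit 430415,nat_lit 91417,nat_lit 28335,nat_lit 83603,nat_lit 440684,nat_lit 4351,nat_lit 1820310,nat_lit 321169,nat_lit 326885,nat_lit 1108927,nat_lit 441572,nat_lit 4276143,nat_lit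 80960,nat_lit 66560,nat_lit 7940,nat_lit 80550,nat_lit 4159,nat_lit 26308,nat_lit 497939,nat_lit 1024,nat_lit 1290298,nat_lit 1061825,nat_lit 274713,nat_lit 1985,nat_lit 110576,nat_lit 126553,nat_lit 344140,nat_lit 83705,nat_lit 6569,nat_lit 349872,nat_lit 349187,nat_lit 287771,nat_lit 108113,nat_lit 331459,nat_lit 105407,nat_lit 323814,nat_lit 263849,nat_lit 83024,nat_lit 328932,nat_lit 1491269,nat_lit 1074198,nat_lit 129804,nat_lit 27540,nat_lit 1115201,nat_lit 1064848,nat_lit 433061,nat_lit 1071680,nat_lit 4097,nat_lit 443198,nat_lit 1349,nat_lit 349134,nat_lit 1159105,nat_lit 1250324,nat_lit 70747,nat_lit 1371161,nat_lit 31086,nat_lit 70927,nat_lit 1076827,nat_lit 78075,nat_lit 347854,nat_lit 1463572,nat_lit 17164,nat_lit 274624,nat_lit 20238,nat_lit 1371793,nat_lit 7184,nat_lit 65596,nat_lit 94126,nat_lit 452929,nat_lit 1492558,nat_lit 1162300,nat_lit 110656,nat_lit 124211,nat_lit 31999,nat_lit 4100,nat_lit 31504,nat_lit 108891,nat_lit 5363,nat_lit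 21604,nat_lit 269029,nat_lit 1246534,nat_lit 365540,nat_lit 1120837,nat_lit 102505,nat_lit 342705,nat_lit 283561,nat_lit 463098,nat_lit 27333,nat_lit 371796,nat_lit 1836622,nat_lit 5216876,nat_lit 1070400,nat_lit 329137,nat_lit 22188,nat_lit 110513,nat_lit 1304848,nat_lit 1507226,nat_lit 371644,nat_lit 6890,nat_lit 263599,nat_lit 32524,nat_lit 1131796,nat_lit 1129540,nat_lit 80133,nat_lit 345786,nat_lit 375529,nat_lit 5131369,nat_lit 370092,nat_lit 1651029,nat_lit 520388,nat_lit 343807,nat_lit 2013785,nat_lit 1071884,nat_lit 343275,nat_lit 1282822,nat_lit 25924,nat_lit 66651,nat_lit 523012,nat_lit 354670,nat_lit 80667,nat_lit 129429,nat_lit 83310,nat_lit 118442,nat_lit 1311046,nat_lit 281710,nat_lit 70639,nat_lit 1311763,nat_lit 127076,nat_lit 1459961,nat_lit 1462010,nat_lit 93841,nat_lit 1285,nat_lit 5555,nat_lit 81691,nat_lit 93893,nat_lit 1331635,nat_lit 1486789,nat_lit 350954,nat_lit 1391588,nat_lit 460486,nat_lit 7877,nat_lit 115988,nat_lit 88371,nat_lit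 87633,nat_lit 1114175,nat_lit 71984,nat_lit 365809,nat_lit 311632,nat_lit 315076,nat_lit 349860,nat_lit 1284780,nat_lit 28225,nat_lit 371310,nat_lit 1114201,nat_lit 463884,nat_lit 278101,nat_lit 503446,nat_lit 1158806,nat_lit 1130089,nat_lit 1053903,nat_lit 1485722,nat_lit 85004,nat_lit 87788,nat_lit 414725,nat_lit 65852,nat_lit 1245497,nat_lit 351205,nat_lit 442003,nat_lit 503716,nat_lit 460016,nat_lit 1250297,nat_lit 69711,nat_lit 1336342,nat_lit 1464657,nat_lit 118421,nat_lit 82963,nat_lit 1054030,nat_lit 283407,nat_lit 457817,nat_lit 27643,nat_lit 5315,nat_lit 1092,nat_lit 421444,nat_lit 462790,nat_lit 5563,nat_lit 457724,nat_lit 416575,nat_lit 66917,nat_lit 274857,nat_lit 1141989,nat_lit 1315759,nat_lit 4211984,nat_lit 5246894,nat_lit 462780,nat_lit 274799,nat_lit 369900,nat_lit 411280,nat_lit 519086,nat_lit 1052602,nat_lit 452,nat_lit 20740,nat_lit 108886,nat_lit 82260,nat_lit 67326,nat_lit 464315,nat_lit 92934,nat_lit 17326,nat_lit 435622,nat_lit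 323259,nat_lit 2047025,nat_lit 1748924,nat_lit 416432,nat_lit 102651,nat_lit 452185,nat_lit 32747,nat_lit 69952,nat_lit 1061268,nat_lit 311722,nat_lit 1052929,nat_lit 421806,nat_lit 83264,nat_lit 25905,nat_lit 267859,nat_lit 70649,nat_lit 18116,nat_lit 334099,nat_lit 6476,nat_lit 80955,nat_lit 508307,nat_lit 4255978,nat_lit 372992,nat_lit 1731249,nat_lit 443441,nat_lit 1064004,nat_lit 354880,nat_lit 20499,nat_lit 127054,nat_lit 326335,nat_lit 334511,nat_lit 32703,nat_lit 110163,nat_lit 8134,nat_lit 326299,nat_lit 104705,nat_lit 65813,nat_lit 1054374,nat_lit 66964,nat_lit 348137,nat_lit 82284,nat_lit 115652,nat_lit 5259514,nat_lit 78081,nat_lit 69392,nat_lit 17684,nat_lit 77849,nat_lit 107854,nat_lit 93964,nat_lit 109297,nat_lit 92779,nat_lit 88368,nat_lit 474028,nat_lit 1414896,nat_lit 1306627,nat_lit 81600,nat_lit 1071470,nat_lit 369750,nat_lit 25792,nat_lit 32340,nat_lit 1811,nat_lit 416454,nat_lit 267665,nat_lit 20581,nat_lit 65798,nat_lit 102800,nat_lit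 86361,nat_lit 333504,nat_lit 355086,nat_lit 312625,nat_lit 6851,nat_lit 16485,nat_lit 86977,nat_lit 1156753,nat_lit 86948,nat_lit 20241,nat_lit 7141,nat_lit 1361211,nat_lit 1072101,nat_lit 28307,nat_lit 4435,nat_lit 290751,nat_lit 462745,nat_lit 290758,nat_lit 1117803,nat_lit 21446,nat_lit 1142550,nat_lit 7998,nat_lit 1292718,nat_lit 17637,nat_lit 1064964,nat_lit 114947,nat_lit 1317658,nat_lit 1135892,nat_lit 1114139,nat_lit 7076,nat_lit 126910,nat_lit 518938,nat_lit 1332229,nat_lit 431422,nat_lit 1129493,nat_lit 21582,nat_lit 20414,nat_lit 333204,nat_lit 1316165,nat_lit 103850,nat_lit 1303876,nat_lit 21476,nat_lit 349439,nat_lit 1151034,nat_lit 322611,nat_lit 6470,nat_lit 263076,nat_lit 1372156,nat_lit 28676,nat_lit 91141,nat_lit 80835,nat_lit 1074414,nat_lit 431022,nat_lit 372987,nat_lit 82234,nat_lit 2082116,nat_lit 517441,nat_lit 320826,nat_lit 340302,nat_lit 328981,nat_lit 127057,nat_lit 32426,nat_lit 1809,nat_lit 21497,nat_lit 457295,nat_lit 410624,nat_lit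 507813,nat_lit 1133647,nat_lit 69305,nat_lit 1940,nat_lit 87057,nat_lit 342704,nat_lit 127993,nat_lit 328614,nat_lit 87443,nat_lit 349248,nat_lit 473683,nat_lit 17349,nat_lit 267348,nat_lit 331790,nat_lit 32537,nat_lit 1770863,nat_lit 17989,nat_lit 1052783,nat_lit 5614677,nat_lit 118757,nat_lit 460046,nat_lit 17427,nat_lit 108198,nat_lit 105068,nat_lit 17401,nat_lit 1108,nat_lit 1290172,nat_lit 331839,nat_lit 1076465,nat_lit 17670,nat_lit 436671,nat_lit 112900,nat_lit 65775,nat_lit 278265,nat_lit 274688,nat_lit 65817,nat_lit 334405,nat_lit 1643507,nat_lit 419251,nat_lit 1638592,nat_lit 4889,nat_lit 1120917,nat_lit 127995,nat_lit 108865,nat_lit 83151,nat_lit 473708,nat_lit 1124,nat_lit 1049915,nat_lit 1129711,nat_lit 1099068,nat_lit 331795,nat_lit 108268,nat_lit 28411,nat_lit 1119595,nat_lit 4355,nat_lit 1130522,nat_lit 4505941,nat_lit 31418,nat_lit 103411,nat_lit 108186,nat_lit 474894,nat_lit 80299,nat_lit 460441,nat_lit 4201274,nat_lit 112953,nat_lit 1051754,nat_lit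 1107537,nat_lit 1115072,nat_lit 507993,nat_lit 86342,nat_lit 355002,nat_lit 85657,nat_lit 81557,nat_lit 519411,nat_lit 1055084,nat_lit 262549,nat_lit 1419569,nat_lit 1287877,nat_lit 28731,nat_lit 85691,nat_lit 288065,nat_lit 520127,nat_lit 283969,nat_lit 1306990,nat_lit 1290604,nat_lit 355012,nat_lit 80276,nat_lit 4291,nat_lit 1141328,nat_lit 348079,nat_lit 85925,nat_lit 418880,nat_lit 18112,nat_lit 1108969,nat_lit 126917,nat_lit 85937,nat_lit 125887,nat_lit 27754,nat_lit 69636,nat_lit 28229,nat_lit 1305710,nat_lit 365486,nat_lit 333083,nat_lit 68715,nat_lit 290041,nat_lit 345365,nat_lit 22848,nat_lit 126011,nat_lit 1114559,nat_lit 69308,nat_lit 71334,nat_lit 1639630,nat_lit 82966,nat_lit 72358,nat_lit 1292558,nat_lit 376768,nat_lit 443476,nat_lit 420416,nat_lit 355910,nat_lit 1130405,nat_lit 328624,nat_lit 1427,nat_lit 443823,nat_lit 435601,nat_lit 1463872,nat_lit 5266353,nat_lit 1403599,nat_lit 329297,nat_lit 85670,nat_lit 441435,nat_lit 1152699,nat_lit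 130106,nat_lit 124601,nat_lit 507984,nat_lit 18105,nat_lit 1074432,nat_lit 80979,nat_lit 1818686,nat_lit 5114,nat_lit 26900,nat_lit 1115567,nat_lit 103788,nat_lit 21500,nat_lit 102633,nat_lit 25967,nat_lit 110956,nat_lit 5401,nat_lit 1792,nat_lit 88725,nat_lit 17998,nat_lit 1295258,nat_lit 289194,nat_lit 459546,nat_lit 375872,nat_lit 2047770,nat_lit 1098670,nat_lit 1304219,nat_lit 508687,nat_lit 93902,nat_lit 1330233,nat_lit 1245270,nat_lit 1113771,nat_lit 1654777,nat_lit 31420,nat_lit 82163,nat_lit 438597,nat_lit 80625,nat_lit 85222,nat_lit 93209,nat_lit 508677,nat_lit 109459,nat_lit 93865,nat_lit 1106970,nat_lit 1283333,nat_lit 129765,nat_lit 109572,nat_lit 92527,nat_lit 269118,nat_lit 30993,nat_lit 1642518,nat_lit 105196,nat_lit 103770,nat_lit 124485,nat_lit 93164,nat_lit 107756,nat_lit 1294356,nat_lit 1288854,nat_lit 406,nat_lit 435270,nat_lit 1729637,nat_lit 1654015,nat_lit 1063514,nat_lit 4211132,nat_lit 1361157,nat_lit 370030,nat_lit 1855568,nat_lit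 126033,nat_lit 124182,nat_lit 413338,nat_lit 86355,nat_lit 25680,nat_lit 290753,nat_lit 456963,nat_lit 1392441,nat_lit 8102,nat_lit 1683390,nat_lit 83222,nat_lit 414803,nat_lit 326675,nat_lit 1653781,nat_lit 365646,nat_lit 17498,nat_lit 6458,nat_lit 281600,nat_lit 1248837,nat_lit 80154,nat_lit 88321,nat_lit 333552,nat_lit 413690,nat_lit 519273,nat_lit 1292559,nat_lit 17212,nat_lit 320762,nat_lit 312252,nat_lit 1720425,nat_lit 78244,nat_lit 1136302,nat_lit 1051673,nat_lit 107964,nat_lit 438591,nat_lit 1725427,nat_lit 411343,nat_lit 81893,nat_lit 5809,nat_lit 85050,nat_lit 353532,nat_lit 21443,nat_lit 72379,nat_lit 69569,nat_lit 1246874,nat_lit 1060870,nat_lit 66497,nat_lit 457145,nat_lit 436563,nat_lit 116379,nat_lit 1139988,nat_lit 315156,nat_lit 289875,nat_lit 26990,nat_lit 78790,nat_lit 27454,nat_lit 20506,nat_lit 78257,nat_lit 109331,nat_lit 263258,nat_lit 282694,nat_lit 465830,nat_lit 517388,nat_lit 72689,nat_lit 16633,nat_lit 267691,nat_lit 451647,nat_lit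 1288793,nat_lit 1503472,nat_lit 266559,nat_lit 267456,nat_lit 105114,nat_lit 129600,nat_lit 320879,nat_lit 2010710,nat_lit 435951,nat_lit 1762543,nat_lit 369982,nat_lit 288015,nat_lit 77827,nat_lit 88763,nat_lit 440597,nat_lit 460180,nat_lit 1160083,nat_lit 333034,nat_lit 521196,nat_lit 127295,nat_lit 312681,nat_lit 1251641,nat_lit 289729,nat_lit 83684,nat_lit 1835941,nat_lit 66788,nat_lit 517803,nat_lit 1112336,nat_lit 1294422,nat_lit 312553,nat_lit 1370516,nat_lit 1314533,nat_lit 457644,nat_lit 328966,nat_lit 365555,nat_lit 103449,nat_lit 66563,nat_lit 86,nat_lit 28409,nat_lit 32462,nat_lit 17721,nat_lit 1653827,nat_lit 290553,nat_lit 1664060,nat_lit 6910,nat_lit 1306630,nat_lit 107713,nat_lit 1494977,nat_lit 344084,nat_lit 1131582,nat_lit 105066,nat_lit 436800,nat_lit 331796,nat_lit 1391513,nat_lit 102745,nat_lit 65594,nat_lit 1373178,nat_lit 519408,nat_lit 1064538,nat_lit 343726,nat_lit 69521,nat_lit 1710,nat_lit 277157,nat_lit 67007,nat_lit 110160,nat_lit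 1283324,nat_lit 8142,nat_lit 125593,nat_lit 328603,nat_lit 7190,nat_lit 311375,nat_lit 375483,nat_lit 1113164,nat_lit 331798,nat_lit 16750,nat_lit 17724,nat_lit 18160,nat_lit 1370427,nat_lit 92953,nat_lit 268006,nat_lit 1720401,nat_lit 340926,nat_lit 105414,nat_lit 414716,nat_lit 80294,nat_lit 104111,nat_lit 331841,nat_lit 1643519,nat_lit 125614,nat_lit 325977,nat_lit 419248,nat_lit 262464,nat_lit 93206,nat_lit 109332,nat_lit 1310291,nat_lit 344170,nat_lit 80556,nat_lit 110612,nat_lit 312624,nat_lit 5201,nat_lit 431109,nat_lit 110828,nat_lit 376761,nat_lit 343273,nat_lit 500827,nat_lit 277524,nat_lit 70054,nat_lit 93439,nat_lit 289093,nat_lit 22083,nat_lit 502779,nat_lit 1065966,nat_lit 349097,nat_lit 7830,nat_lit 110500,nat_lit 1141397,nat_lit 509587,nat_lit 1708,nat_lit 1051758,nat_lit 126000,nat_lit 313,nat_lit 5393,nat_lit 517401,nat_lit 283563,nat_lit 1664323,nat_lit 1462160,nat_lit 353331,nat_lit 279790,nat_lit 503363,nat_lit 114764,nat_lit 1252249,nat_lit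 108197,nat_lit 5,nat_lit 110799,nat_lit 105115,nat_lit 125185,nat_lit 522585,nat_lit 20164,nat_lit 440686,nat_lit 494,nat_lit 1156155,nat_lit 1108283,nat_lit 1129233,nat_lit 1139760,nat_lit 1156144,nat_lit 7423,nat_lit 105203,nat_lit 1661691,nat_lit 1391212,nat_lit 127899,nat_lit 443478,nat_lit 1112851,nat_lit 1374572,nat_lit 1115,nat_lit 326052,nat_lit 6501,nat_lit 325891,nat_lit 4286890,nat_lit 17345,nat_lit 376494,nat_lit 69189,nat_lit 1288516,nat_lit 1338971,nat_lit 315054,nat_lit 1724163,nat_lit 1157396,nat_lit 127892,nat_lit 350564,nat_lit 27631,nat_lit 23461,nat_lit 129702,nat_lit 20687,nat_lit 6500,nat_lit 284410,nat_lit 285329,nat_lit 418896,nat_lit 109327,nat_lit 462415,nat_lit 1161476,nat_lit 108969,nat_lit 458495,nat_lit 91455,nat_lit 5780,nat_lit 1126403,nat_lit 413716,nat_lit 66831,nat_lit 441008,nat_lit 19697,nat_lit 339984,nat_lit 114453,nat_lit 127407,nat_lit 507633,nat_lit 23206,nat_lit 1967,nat_lit 437009,nat_lit 365462,nat_lit 102510,nat_lit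 118479,nat_lit 1156369,nat_lit 126886,nat_lit 2034708,nat_lit 280255,nat_lit 350892,nat_lit 348140,nat_lit 460019,nat_lit 519194,nat_lit 1399146,nat_lit 1721,nat_lit 23211,nat_lit 369919,nat_lit 1126806,nat_lit 4281423,nat_lit 82326,nat_lit 69327,nat_lit 1055404,nat_lit 16484,nat_lit 369775,nat_lit 373141,nat_lit 82693,nat_lit 263747,nat_lit 1252032,nat_lit 443327,nat_lit 323345,nat_lit 78100,nat_lit 110586,nat_lit 322198,nat_lit 1112657,nat_lit 86955,nat_lit 312998,nat_lit 130745,nat_lit 496037,nat_lit 1840720,nat_lit 356083,nat_lit 22213,nat_lit 438588,nat_lit 1765,nat_lit 280208,nat_lit 345358,nat_lit 311558,nat_lit 102416,nat_lit 1702,nat_lit 313081,nat_lit 278470,nat_lit 278628,nat_lit 1336345,nat_lit 27241,nat_lit 92906,nat_lit 459726,nat_lit 5673395,nat_lit 6847,nat_lit 127040,nat_lit 66981,nat_lit 28246,nat_lit 327995,nat_lit 124591,nat_lit 1380028,nat_lit 94129,nat_lit 113307,nat_lit 20842,nat_lit 1156677,nat_lit 520451,nat_lit 19563,nat_lit 500798,nat_lit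 116132,nat_lit 1120539,nat_lit 322239,nat_lit 315280,nat_lit 457670,nat_lit 78846,nat_lit 130746,nat_lit 114489,nat_lit 78225,nat_lit 412732,nat_lit 322574,nat_lit 22788,nat_lit 454675,nat_lit 332691,nat_lit 109136,nat_lit 69398,nat_lit 1290499,nat_lit 509289,nat_lit 70078,nat_lit 345830,nat_lit 506303,nat_lit 28748,nat_lit 20403,nat_lit 80305,nat_lit 116478,nat_lit 1814266,nat_lit 440655,nat_lit 1113749,nat_lit 94099,nat_lit 16787,nat_lit 315114,nat_lit 419140,nat_lit 263851,nat_lit 85055,nat_lit 376574,nat_lit 1260529,nat_lit 351227,nat_lit 518486,nat_lit 104133,nat_lit 342379,nat_lit 22268,nat_lit 1326778,nat_lit 17663,nat_lit 66793,nat_lit 7397,nat_lit 25676,nat_lit 465489,nat_lit 312641,nat_lit 1134331,nat_lit 31830,nat_lit 1749242,nat_lit 421809,nat_lit 432741,nat_lit 1815468,nat_lit 78777,nat_lit 1283340,nat_lit 129457,nat_lit 4099,nat_lit 92905,nat_lit 327438,nat_lit 124622,nat_lit 443404,nat_lit 103402,nat_lit 442288,nat_lit 32401,nat_lit 282879,nat_lit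 265998,nat_lit 81493,nat_lit 320704,nat_lit 410731,nat_lit 320618,nat_lit 436506,nat_lit 107523,nat_lit 102652,nat_lit 31481,nat_lit 28479,nat_lit 107881,nat_lit 87290,nat_lit 103356,nat_lit 27419,nat_lit 27539,nat_lit 1336409,nat_lit 1370545,nat_lit 278437,nat_lit 278805,nat_lit 1305707,nat_lit 1250309,nat_lit 414662,nat_lit 17487,nat_lit 80236,nat_lit 350481,nat_lit 68694,nat_lit 409657,nat_lit 25907,nat_lit 80292,nat_lit 1065198,nat_lit 347908,nat_lit 349161,nat_lit 130047,nat_lit 502451,nat_lit 20116,nat_lit 23283,nat_lit 462596,nat_lit 1372441,nat_lit 81584,nat_lit 31315,nat_lit 1099441,nat_lit 113046,nat_lit 124142,nat_lit 334576,nat_lit 5043,nat_lit 82149,nat_lit 519193,nat_lit 1399780,nat_lit 1115902,nat_lit 4502,nat_lit 7253,nat_lit 289764,nat_lit 85040,nat_lit 1134565,nat_lit 1756740,nat_lit 504090,nat_lit 8083,nat_lit 83622,nat_lit 435897,nat_lit 436657,nat_lit 23279,nat_lit 127894,nat_lit 1157460,nat_lit 440921,nat_lit 267492,nat_lit 1839418,nat_lit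 320619,nat_lit 20474,nat_lit 329412,nat_lit 288001,nat_lit 28735,nat_lit 1305706,nat_lit 17340,nat_lit 370261,nat_lit 312556,nat_lit 72342,nat_lit 1107264,nat_lit 23487,nat_lit 311609,nat_lit 16464,nat_lit 371779,nat_lit 124331,nat_lit 1838799,nat_lit 373081,nat_lit 437830,nat_lit 110249,nat_lit 110507,nat_lit 66992,nat_lit 350826,nat_lit 443795,nat_lit 85228,nat_lit 327345,nat_lit 1770404,nat_lit 26287,nat_lit 1360148,nat_lit 25707,nat_lit 334147,nat_lit 1072016,nat_lit 497323,nat_lit 93947,nat_lit 269119,nat_lit 313067,nat_lit 102476,nat_lit 1097988,nat_lit 332785,nat_lit 113670,nat_lit 66665,nat_lit 103620,nat_lit 473834,nat_lit 94116,nat_lit 1296036,nat_lit 290556,nat_lit 430995,nat_lit 1828531,nat_lit 1114202,nat_lit 1139737,nat_lit 32433,nat_lit 1292560,nat_lit 19481,nat_lit 315049,nat_lit 16449,nat_lit 92421,nat_lit 17836,nat_lit 329408,nat_lit 340921,nat_lit 452262,nat_lit 263062,nat_lit 1129166,nat_lit 1110331,nat_lit 2013772,nat_lit 20794,nat_lit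 91328,nat_lit 322234,nat_lit 87291,nat_lit 85054,nat_lit 281606,nat_lit 1659651,nat_lit 129793,nat_lit 1380549,nat_lit 281660,nat_lit 32683,nat_lit 327743,nat_lit 410598,nat_lit 498373,nat_lit 17843,nat_lit 1768127,nat_lit 261,nat_lit 108864,nat_lit 27647,nat_lit 315052,nat_lit 1141139,nat_lit 435881,nat_lit 1115140,nat_lit 355073,nat_lit 430106,nat_lit 459542,nat_lit 25798,nat_lit 442427,nat_lit 110265,nat_lit 88383,nat_lit 1327932,nat_lit 1074604,nat_lit 1680,nat_lit 330821,nat_lit 66617,nat_lit 269249,nat_lit 21745,nat_lit 123953,nat_lit 1157380,nat_lit 1077178,nat_lit 1489691,nat_lit 1619,nat_lit 506116,nat_lit 498030,nat_lit 283452,nat_lit 23129,nat_lit 311301,nat_lit 421862,nat_lit 87643,nat_lit 32753,nat_lit 5808,nat_lit 442030,nat_lit 109461,nat_lit 435276,nat_lit 1857216,nat_lit 1246633,nat_lit 290511,nat_lit 115027,nat_lit 413694,nat_lit 111019,nat_lit 85907,nat_lit 17209,nat_lit 1129039,nat_lit 2096870,nat_lit 263226,nat_lit 276913,nat_lit 312666,nat_lit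 311738,nat_lit 6420,nat_lit 5435,nat_lit 78843,nat_lit 107795,nat_lit 289476]
def orb7 : List Nat := [nat_lit 1486528,nat_lit 27564,nat_lit 1151750,nat_lit 1260198,nat_lit 1,nat_lit 27216,nat_lit 26969,nat_lit 1331515,nat_lit 124309,nat_lit 463183,nat_lit 349846,nat_lit 509244,nat_lit 1287859,nat_lit 1675535,nat_lit 81932,nat_lit 110860,nat_lit 20396,nat_lit 1421310,nat_lit 86209,nat_lit 454460,nat_lit 340977,nat_lit 17769,nat_lit 17985,nat_lit 72469,nat_lit 1107280,nat_lit 129612,nat_lit 86286,nat_lit 355348,nat_lit 1294416,nat_lit 333057,nat_lit 1283307,nat_lit 1727057,nat_lit 453695,nat_lit 86805,nat_lit 1336641,nat_lit 87027,nat_lit 1068137,nat_lit 1375142,nat_lit 1064003,nat_lit 343828,nat_lit 465243,nat_lit 1659312,nat_lit 501315,nat_lit 289806,nat_lit 115699,nat_lit 332137,nat_lit 276825,nat_lit 279451,nat_lit 1507227,nat_lit 1665777,nat_lit 29605,nat_lit 285425,nat_lit 82161,nat_lit 430362,nat_lit 1066233,nat_lit 361,nat_lit 267669,nat_lit 1119254,nat_lit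 31150,nat_lit 23489,nat_lit 1216,nat_lit 1338047,nat_lit 1129532,nat_lit 130991,nat_lit 5711,nat_lit 4172,nat_lit 83348,nat_lit 118766,nat_lit 355067,nat_lit 65870,nat_lit 107712,nat_lit 78739,nat_lit 340038,nat_lit 283845,nat_lit 107866,nat_lit 438705,nat_lit 17657,nat_lit 69617,nat_lit 124240,nat_lit 104795,nat_lit 66496,nat_lit 129444,nat_lit 280262,nat_lit 85787,nat_lit 125929,nat_lit 17307,nat_lit 71247,nat_lit 70677,nat_lit 16729,nat_lit 279828,nat_lit 1310974,nat_lit 1110273,nat_lit 430330,nat_lit 20678,nat_lit 1287886,nat_lit 520556,nat_lit 32485,nat_lit 17733,nat_lit 355088,nat_lit 372673,nat_lit 267183,nat_lit 27221,nat_lit 80239,nat_lit 114321,nat_lit 1288496,nat_lit 81497,nat_lit 1388780,nat_lit 365507,nat_lit 1070335,nat_lit 83194,nat_lit 1374809,nat_lit 7236,nat_lit 327482,nat_lit 82348,nat_lit 416058,nat_lit 107590,nat_lit 91473,nat_lit 1331281,nat_lit 1290492,nat_lit 8174,nat_lit 87014,nat_lit 1074508,nat_lit 114374,nat_lit 322533,nat_lit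 92438,nat_lit 1290259,nat_lit 103513,nat_lit 2008112,nat_lit 1261231,nat_lit 27620,nat_lit 71339,nat_lit 94101,nat_lit 290380,nat_lit 114922,nat_lit 31510,nat_lit 21772,nat_lit 415141,nat_lit 110650,nat_lit 1126650,nat_lit 5785,nat_lit 1246639,nat_lit 69825,nat_lit 1665329,nat_lit 509615,nat_lit 322361,nat_lit 503790,nat_lit 72470,nat_lit 1292992,nat_lit 440579,nat_lit 87040,nat_lit 32740,nat_lit 1121252,nat_lit 4478716,nat_lit 4213845,nat_lit 474084,nat_lit 1392708,nat_lit 462480,nat_lit 438182,nat_lit 1305851,nat_lit 114436,nat_lit 443820,nat_lit 5196,nat_lit 465556,nat_lit 1363609,nat_lit 110341,nat_lit 442105,nat_lit 103187,nat_lit 313022,nat_lit 334149,nat_lit 1311082,nat_lit 326911,nat_lit 7249,nat_lit 129427,nat_lit 437317,nat_lit 81137,nat_lit 342720,nat_lit 125188,nat_lit 1644801,nat_lit 282949,nat_lit 282385,nat_lit 284310,nat_lit 462832,nat_lit 444,nat_lit 1121169,nat_lit 1246912,nat_lit 18169,nat_lit 329361,nat_lit 279822,nat_lit 332142,nat_lit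 278933,nat_lit 70767,nat_lit 72687,nat_lit 453439,nat_lit 20057,nat_lit 1111034,nat_lit 1072102,nat_lit 113082,nat_lit 1754174,nat_lit 1683093,nat_lit 442138,nat_lit 83044,nat_lit 115813,nat_lit 78016,nat_lit 27627,nat_lit 262478,nat_lit 1506308,nat_lit 21787,nat_lit 69542,nat_lit 30980,nat_lit 78064,nat_lit 4287045,nat_lit 451601,nat_lit 110682,nat_lit 495664,nat_lit 18005,nat_lit 21699,nat_lit 1806,nat_lit 80795,nat_lit 420155,nat_lit 431867,nat_lit 265457,nat_lit 462654,nat_lit 69573,nat_lit 20569,nat_lit 72014,nat_lit 432923,nat_lit 375889,nat_lit 83371,nat_lit 16745,nat_lit 27556,nat_lit 4206643,nat_lit 418822,nat_lit 277,nat_lit 1486419,nat_lit 416537,nat_lit 124351,nat_lit 20922,nat_lit 5210,nat_lit 269211,nat_lit 8100,nat_lit 1399546,nat_lit 278884,nat_lit 1306278,nat_lit 1063492,nat_lit 18011,nat_lit 93166,nat_lit 262459,nat_lit 115626,nat_lit 80148,nat_lit 16746,nat_lit 1049600,nat_lit 502467,nat_lit 1325377,nat_lit 278165,nat_lit 344486,nat_lit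 431550,nat_lit 410880,nat_lit 329449,nat_lit 85957,nat_lit 369727,nat_lit 284350,nat_lit 413673,nat_lit 410897,nat_lit 414713,nat_lit 328681,nat_lit 460102,nat_lit 7404,nat_lit 518547,nat_lit 113414,nat_lit 1112816,nat_lit 348218,nat_lit 69827,nat_lit 22865,nat_lit 1049806,nat_lit 1314022,nat_lit 20730,nat_lit 21950,nat_lit 27323,nat_lit 289169,nat_lit 83001,nat_lit 507925,nat_lit 1142513,nat_lit 78191,nat_lit 66916,nat_lit 457135,nat_lit 4409,nat_lit 72505,nat_lit 340924,nat_lit 83212,nat_lit 322649,nat_lit 1849,nat_lit 114454,nat_lit 1162481,nat_lit 2047769,nat_lit 71259,nat_lit 1463897,nat_lit 1776229,nat_lit 4927,nat_lit 1099328,nat_lit 26304,nat_lit 311615,nat_lit 347379,nat_lit 353328,nat_lit 8089,nat_lit 348473,nat_lit 110255,nat_lit 334416,nat_lit 1463232,nat_lit 274794,nat_lit 127337,nat_lit 4924,nat_lit 441322,nat_lit 1391278,nat_lit 1134575,nat_lit 325939,nat_lit 322281,nat_lit 113302,nat_lit 4463,nat_lit 19521,nat_lit 332881,nat_lit 69370,nat_lit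 267541,nat_lit 353347,nat_lit 265321,nat_lit 17770,nat_lit 1076243,nat_lit 283982,nat_lit 1069395,nat_lit 32538,nat_lit 82965,nat_lit 113744,nat_lit 1064982,nat_lit 496561,nat_lit 1129722,nat_lit 1306874,nat_lit 282929,nat_lit 1114191,nat_lit 523340,nat_lit 1419952,nat_lit 323344,nat_lit 420763,nat_lit 1721361,nat_lit 105215,nat_lit 129684,nat_lit 370970,nat_lit 113316,nat_lit 32710,nat_lit 124623,nat_lit 17691,nat_lit 345151,nat_lit 442730,nat_lit 376595,nat_lit 72022,nat_lit 277500,nat_lit 371727,nat_lit 1246915,nat_lit 280313,nat_lit 290046,nat_lit 82180,nat_lit 289516,nat_lit 413972,nat_lit 1311982,nat_lit 1293968,nat_lit 1158762,nat_lit 416532,nat_lit 1063491,nat_lit 127302,nat_lit 70933,nat_lit 262212,nat_lit 409792,nat_lit 345430,nat_lit 7252,nat_lit 372635,nat_lit 345839,nat_lit 1055491,nat_lit 26020,nat_lit 1458227,nat_lit 326463,nat_lit 27899,nat_lit 1050047,nat_lit 332015,nat_lit 26942,nat_lit 436505,nat_lit 1055546,nat_lit 1152057,nat_lit 108219,nat_lit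 1061873,nat_lit 290577,nat_lit 263193,nat_lit 1249220,nat_lit 70681,nat_lit 455595,nat_lit 503444,nat_lit 129728,nat_lit 129680,nat_lit 333519,nat_lit 457957,nat_lit 5184,nat_lit 1328720,nat_lit 414118,nat_lit 459534,nat_lit 70400,nat_lit 27203,nat_lit 345843,nat_lit 1484140,nat_lit 290545,nat_lit 31551,nat_lit 327652,nat_lit 17713,nat_lit 22252,nat_lit 69690,nat_lit 6896,nat_lit 102805,nat_lit 451920,nat_lit 268944,nat_lit 1158165,nat_lit 1282452,nat_lit 1119654,nat_lit 1298341,nat_lit 345774,nat_lit 19707,nat_lit 414037,nat_lit 7828,nat_lit 1819696,nat_lit 1304143,nat_lit 83141,nat_lit 520399,nat_lit 7105,nat_lit 283729,nat_lit 109167,nat_lit 376741,nat_lit 321274,nat_lit 1049662,nat_lit 86271,nat_lit 1338004,nat_lit 1051756,nat_lit 1098809,nat_lit 1065025,nat_lit 277145,nat_lit 65617,nat_lit 266238,nat_lit 435620,nat_lit 1129361,nat_lit 28432,nat_lit 31726,nat_lit 2030,nat_lit 1157883,nat_lit 1989,nat_lit 32367,nat_lit 282878,nat_lit 523249,nat_lit 107883,nat_lit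 88686,nat_lit 1323094,nat_lit 465491,nat_lit 23308,nat_lit 1063957,nat_lit 281830,nat_lit 115092,nat_lit 27030,nat_lit 93971,nat_lit 104110,nat_lit 326747,nat_lit 438467,nat_lit 369998,nat_lit 459669,nat_lit 1283134,nat_lit 343737,nat_lit 115946,nat_lit 443652,nat_lit 323152,nat_lit 1161478,nat_lit 1053630,nat_lit 1383226,nat_lit 331514,nat_lit 332885,nat_lit 1064620,nat_lit 323791,nat_lit 340284,nat_lit 1118233,nat_lit 1292609,nat_lit 1381268,nat_lit 343066,nat_lit 111025,nat_lit 85072,nat_lit 21817,nat_lit 102723,nat_lit 103441,nat_lit 110529,nat_lit 1249174,nat_lit 1314030,nat_lit 443824,nat_lit 116398,nat_lit 20462,nat_lit 517145,nat_lit 5940314,nat_lit 438001,nat_lit 282985,nat_lit 27706,nat_lit 71397,nat_lit 1336559,nat_lit 103630,nat_lit 2068484,nat_lit 334768,nat_lit 369990,nat_lit 16405,nat_lit 110798,nat_lit 1324028,nat_lit 111022,nat_lit 1327422,nat_lit 430156,nat_lit 17664,nat_lit 32750,nat_lit 1121087,nat_lit 28990,nat_lit 327374,nat_lit 371635,nat_lit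 262245,nat_lit 1310459,nat_lit 1653316,nat_lit 1403793,nat_lit 115985,nat_lit 125184,nat_lit 5326083,nat_lit 125201,nat_lit 496896,nat_lit 27418,nat_lit 1330243,nat_lit 463171,nat_lit 28244,nat_lit 20368,nat_lit 26043,nat_lit 332097,nat_lit 375790,nat_lit 1391616,nat_lit 1371215,nat_lit 80134,nat_lit 71012,nat_lit 1097985,nat_lit 311363,nat_lit 432954,nat_lit 103743,nat_lit 523329,nat_lit 327699,nat_lit 457818,nat_lit 322480,nat_lit 29038,nat_lit 1251652,nat_lit 1055507,nat_lit 348442,nat_lit 71420,nat_lit 329131,nat_lit 5456,nat_lit 355355,nat_lit 103852,nat_lit 443326,nat_lit 279857,nat_lit 274667,nat_lit 17468,nat_lit 1142342,nat_lit 354587,nat_lit 329380,nat_lit 278085,nat_lit 1455,nat_lit 263420,nat_lit 496913,nat_lit 1850623,nat_lit 327930,nat_lit 1119120,nat_lit 334080,nat_lit 1050,nat_lit 1075909,nat_lit 32528,nat_lit 496051,nat_lit 1069977,nat_lit 27397,nat_lit 441284,nat_lit 457125,nat_lit 27716,nat_lit 1798,nat_lit 5376,nat_lit 2008404,nat_lit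 66830,nat_lit 452275,nat_lit 81835,nat_lit 1066288,nat_lit 124305,nat_lit 104022,nat_lit 287829,nat_lit 81850,nat_lit 1163179,nat_lit 345317,nat_lit 326629,nat_lit 69220,nat_lit 437141,nat_lit 1377359,nat_lit 326067,nat_lit 343040,nat_lit 20230,nat_lit 1379413,nat_lit 1375121,nat_lit 80307,nat_lit 28734,nat_lit 4565590,nat_lit 446107,nat_lit 87300,nat_lit 130982,nat_lit 262917,nat_lit 1290137,nat_lit 323513,nat_lit 289769,nat_lit 1135898,nat_lit 92991,nat_lit 376511,nat_lit 1051755,nat_lit 517391,nat_lit 1325818,nat_lit 1141012,nat_lit 82240,nat_lit 410025,nat_lit 70886,nat_lit 325967,nat_lit 130724,nat_lit 457316,nat_lit 83540,nat_lit 105129,nat_lit 4263164,nat_lit 1118272,nat_lit 8133,nat_lit 71022,nat_lit 356037,nat_lit 69265,nat_lit 1502993,nat_lit 5459,nat_lit 105230,nat_lit 85699,nat_lit 28601,nat_lit 1289221,nat_lit 1394340,nat_lit 1070073,nat_lit 23219,nat_lit 410713,nat_lit 86809,nat_lit 520198,nat_lit 5382,nat_lit 5071,nat_lit 1309374,nat_lit 414032,nat_lit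 1764409,nat_lit 81988,nat_lit 1762704,nat_lit 1157882,nat_lit 354564,nat_lit 369679,nat_lit 81148,nat_lit 87275,nat_lit 127232,nat_lit 326316,nat_lit 20806,nat_lit 457285,nat_lit 69553,nat_lit 327484,nat_lit 82836,nat_lit 66795,nat_lit 311406,nat_lit 348601,nat_lit 2032041,nat_lit 23484,nat_lit 288060,nat_lit 7750,nat_lit 115627,nat_lit 72655,nat_lit 66820,nat_lit 129785,nat_lit 26362,nat_lit 6575,nat_lit 327696,nat_lit 4279886,nat_lit 454889,nat_lit 279807,nat_lit 22251,nat_lit 1066410,nat_lit 5093,nat_lit 344081,nat_lit 282368,nat_lit 86803,nat_lit 332777,nat_lit 1110463,nat_lit 130705,nat_lit 23188,nat_lit 283567,nat_lit 356155,nat_lit 22244,nat_lit 1114892,nat_lit 93903,nat_lit 32688,nat_lit 2016234,nat_lit 312124,nat_lit 410620,nat_lit 27386,nat_lit 1064021,nat_lit 105039,nat_lit 28865,nat_lit 345174,nat_lit 347855,nat_lit 326075,nat_lit 265221,nat_lit 463936,nat_lit 32513,nat_lit 82959,nat_lit 16447,nat_lit 1742144,nat_lit 93871,nat_lit 123963,nat_lit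 276841,nat_lit 92740,nat_lit 131012,nat_lit 107537,nat_lit 70462,nat_lit 21696,nat_lit 289521,nat_lit 430906,nat_lit 1658852,nat_lit 80318,nat_lit 78052,nat_lit 263150,nat_lit 105199,nat_lit 1731516,nat_lit 32661,nat_lit 1721254,nat_lit 1115243,nat_lit 1152228,nat_lit 68851,nat_lit 66980,nat_lit 1115114,nat_lit 102650,nat_lit 371603,nat_lit 16577,nat_lit 1403646,nat_lit 110905,nat_lit 83003,nat_lit 522522,nat_lit 1394411,nat_lit 1052356,nat_lit 501017,nat_lit 84995,nat_lit 104783,nat_lit 1137423,nat_lit 365903,nat_lit 285412,nat_lit 413674,nat_lit 31155,nat_lit 282931,nat_lit 83379,nat_lit 1306713,nat_lit 1064895,nat_lit 1132281,nat_lit 109567,nat_lit 433043,nat_lit 82281,nat_lit 107941,nat_lit 20051,nat_lit 420611,nat_lit 1151055,nat_lit 506117,nat_lit 29628,nat_lit 66329,nat_lit 114799,nat_lit 355916,nat_lit 323251,nat_lit 323390,nat_lit 288025,nat_lit 321092,nat_lit 328625,nat_lit 1065019,nat_lit 1135588,nat_lit 281622,nat_lit 16816,nat_lit 4280660,nat_lit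 413614,nat_lit 6897,nat_lit 1252243,nat_lit 1403236,nat_lit 1495033,nat_lit 277264,nat_lit 1643268,nat_lit 28955,nat_lit 114793,nat_lit 1312017,nat_lit 1289454,nat_lit 4422,nat_lit 415145,nat_lit 328790,nat_lit 21567,nat_lit 1654588,nat_lit 118436,nat_lit 25881,nat_lit 511686,nat_lit 413498,nat_lit 276921,nat_lit 102828,nat_lit 1107697,nat_lit 66480,nat_lit 454720,nat_lit 1388601,nat_lit 365518,nat_lit 26980,nat_lit 88323,nat_lit 345434,nat_lit 85915,nat_lit 369724,nat_lit 29017,nat_lit 340396,nat_lit 114324,nat_lit 1161838,nat_lit 464128,nat_lit 28645,nat_lit 1107286,nat_lit 72368,nat_lit 88325,nat_lit 267249,nat_lit 5696,nat_lit 420890,nat_lit 88827,nat_lit 109546,nat_lit 5715,nat_lit 126185,nat_lit 129459,nat_lit 80703,nat_lit 92836,nat_lit 1309747,nat_lit 322240,nat_lit 1643267,nat_lit 126896,nat_lit 87786,nat_lit 4401,nat_lit 78144,nat_lit 72389,nat_lit 1309694,nat_lit 520511,nat_lit 1301,nat_lit 20115,nat_lit 27070,nat_lit 4865,nat_lit 329038,nat_lit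 414705,nat_lit 125903,nat_lit 266438,nat_lit 108805,nat_lit 1061299,nat_lit 1286,nat_lit 376598,nat_lit 267940,nat_lit 521132,nat_lit 263481,nat_lit 7251,nat_lit 1107603,nat_lit 78065,nat_lit 454401,nat_lit 412686,nat_lit 1129153,nat_lit 4436,nat_lit 1291248,nat_lit 4460545,nat_lit 312575,nat_lit 25612,nat_lit 345331,nat_lit 441060,nat_lit 371651,nat_lit 348240,nat_lit 6544,nat_lit 409872,nat_lit 32320,nat_lit 7147,nat_lit 331968,nat_lit 326378,nat_lit 6919483,nat_lit 27571,nat_lit 462597,nat_lit 87475,nat_lit 332177,nat_lit 438165,nat_lit 81681,nat_lit 1462586,nat_lit 125845,nat_lit 1052593,nat_lit 443285,nat_lit 111600,nat_lit 1371162,nat_lit 70570,nat_lit 123967,nat_lit 28245,nat_lit 66483,nat_lit 27663,nat_lit 69715,nat_lit 348051,nat_lit 262458,nat_lit 276737,nat_lit 88833,nat_lit 1491345,nat_lit 1065193,nat_lit 321979,nat_lit 284305,nat_lit 92485,nat_lit 85041,nat_lit 263057,nat_lit 1486910,nat_lit 17606,nat_lit 473764,nat_lit 4484799,nat_lit 5803,nat_lit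 32505,nat_lit 435258,nat_lit 87089,nat_lit 443413,nat_lit 110188,nat_lit 1361006,nat_lit 1777,nat_lit 70705,nat_lit 452182,nat_lit 439185,nat_lit 320579,nat_lit 32763,nat_lit 372799,nat_lit 1676539,nat_lit 462529,nat_lit 31466,nat_lit 364545,nat_lit 1068655,nat_lit 28666,nat_lit 110590,nat_lit 320,nat_lit 86100,nat_lit 114491,nat_lit 1459,nat_lit 126918,nat_lit 280304,nat_lit 1639622,nat_lit 93124,nat_lit 103359,nat_lit 23539,nat_lit 326294,nat_lit 416020,nat_lit 27,nat_lit 127174,nat_lit 65625,nat_lit 116049,nat_lit 129603,nat_lit 1249025,nat_lit 93198,nat_lit 345532,nat_lit 412677,nat_lit 285438,nat_lit 83045,nat_lit 86251,nat_lit 1107385,nat_lit 17727,nat_lit 17679,nat_lit 1119182,nat_lit 85604,nat_lit 21775,nat_lit 269251,nat_lit 27537,nat_lit 333481,nat_lit 31493,nat_lit 92428,nat_lit 65766,nat_lit 125189,nat_lit 27215,nat_lit 289130,nat_lit 278931,nat_lit 431124,nat_lit 350953,nat_lit 103482,nat_lit 344086,nat_lit 1250051,nat_lit 460201,nat_lit 371450,nat_lit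 6591,nat_lit 26880,nat_lit 66537,nat_lit 28675,nat_lit 1314821,nat_lit 82246,nat_lit 82917,nat_lit 420928,nat_lit 414783,nat_lit 268019,nat_lit 1487190,nat_lit 1156517,nat_lit 31761,nat_lit 29616,nat_lit 2004079,nat_lit 453317,nat_lit 1151322,nat_lit 1069376,nat_lit 473428,nat_lit 344302,nat_lit 1139772,nat_lit 110348,nat_lit 1151803,nat_lit 23212,nat_lit 1393614,nat_lit 262382,nat_lit 70851,nat_lit 1734,nat_lit 114766,nat_lit 437487,nat_lit 1380431,nat_lit 107860,nat_lit 115802,nat_lit 102479,nat_lit 1306427,nat_lit 127233,nat_lit 332220,nat_lit 102508,nat_lit 283564,nat_lit 340207,nat_lit 81574,nat_lit 521113,nat_lit 25877,nat_lit 323507,nat_lit 7941,nat_lit 92821,nat_lit 1363713,nat_lit 92942,nat_lit 278273,nat_lit 259,nat_lit 25915,nat_lit 370944,nat_lit 271,nat_lit 1157723,nat_lit 1315835,nat_lit 1807449,nat_lit 7910,nat_lit 1063185,nat_lit 369859,nat_lit 332796,nat_lit 1753071,nat_lit 431849,nat_lit 320838,nat_lit 414639,nat_lit 29013,nat_lit 27366,nat_lit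 107876,nat_lit 1119568,nat_lit 29589,nat_lit 129329,nat_lit 69743,nat_lit 66449,nat_lit 109284,nat_lit 279999,nat_lit 435519,nat_lit 83524,nat_lit 373180,nat_lit 454420,nat_lit 282895,nat_lit 82958,nat_lit 104719,nat_lit 8165,nat_lit 20570,nat_lit 1304303,nat_lit 109589,nat_lit 444076,nat_lit 354732,nat_lit 81903,nat_lit 111612,nat_lit 1066298,nat_lit 518851,nat_lit 23300,nat_lit 17391,nat_lit 370963,nat_lit 1809406,nat_lit 1101395,nat_lit 114326,nat_lit 325908,nat_lit 1374641,nat_lit 327923,nat_lit 16446,nat_lit 500965,nat_lit 349849,nat_lit 86250,nat_lit 1109242,nat_lit 7269,nat_lit 1430,nat_lit 1295375,nat_lit 452017,nat_lit 1245419,nat_lit 4367,nat_lit 69530,nat_lit 72451,nat_lit 16613,nat_lit 82345,nat_lit 21484,nat_lit 27882,nat_lit 6736,nat_lit 2016598,nat_lit 420848,nat_lit 71403,nat_lit 462443,nat_lit 125295,nat_lit 437489,nat_lit 1486604,nat_lit 82153,nat_lit 495982,nat_lit 69210,nat_lit 375834,nat_lit 502460,nat_lit 1160081,nat_lit 1397059,nat_lit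 80218,nat_lit 78799,nat_lit 266299,nat_lit 452027,nat_lit 20708,nat_lit 1419670,nat_lit 285499,nat_lit 1500236,nat_lit 17210,nat_lit 345509,nat_lit 457321,nat_lit 312900,nat_lit 1158398,nat_lit 371436,nat_lit 1260223,nat_lit 289562,nat_lit 1050188,nat_lit 4438449,nat_lit 22181,nat_lit 82751,nat_lit 110835,nat_lit 1162044,nat_lit 20156,nat_lit 86457,nat_lit 20421,nat_lit 278292,nat_lit 21934,nat_lit 416021,nat_lit 107841,nat_lit 66801,nat_lit 115646,nat_lit 496046,nat_lit 18159,nat_lit 511552,nat_lit 372483,nat_lit 80944,nat_lit 1064849,nat_lit 22209,nat_lit 70992,nat_lit 455678,nat_lit 78102,nat_lit 1463953,nat_lit 7193,nat_lit 508908,nat_lit 66670,nat_lit 459199,nat_lit 322310,nat_lit 69198,nat_lit 2032591,nat_lit 6737,nat_lit 71089,nat_lit 326651,nat_lit 281690,nat_lit 30990,nat_lit 26288,nat_lit 1374803,nat_lit 26902,nat_lit 1069375,nat_lit 262933,nat_lit 444102,nat_lit 127225,nat_lit 1682117,nat_lit 103419,nat_lit 1162862,nat_lit 118522,nat_lit 88656,nat_lit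 83647,nat_lit 80896,nat_lit 457667,nat_lit 88806,nat_lit 92486,nat_lit 78746,nat_lit 1326668,nat_lit 349604,nat_lit 1129380,nat_lit 519153,nat_lit 1479601,nat_lit 129819,nat_lit 7866,nat_lit 508863,nat_lit 111558,nat_lit 28783,nat_lit 282388,nat_lit 72602,nat_lit 1066044,nat_lit 85932,nat_lit 6459,nat_lit 1053951,nat_lit 443481,nat_lit 509694,nat_lit 1392720,nat_lit 1068784,nat_lit 86213,nat_lit 127930,nat_lit 31738,nat_lit 82198,nat_lit 1339044,nat_lit 118478,nat_lit 71409,nat_lit 113001,nat_lit 289534,nat_lit 1751726,nat_lit 1503636,nat_lit 331769,nat_lit 85732,nat_lit 65644,nat_lit 25830,nat_lit 70963,nat_lit 6854,nat_lit 109486,nat_lit 82225,nat_lit 413425,nat_lit 6825,nat_lit 112,nat_lit 1151060,nat_lit 342699,nat_lit 69936,nat_lit 88340,nat_lit 282880,nat_lit 323664,nat_lit 29075,nat_lit 1108720,nat_lit 498672,nat_lit 289113,nat_lit 1506992,nat_lit 460032,nat_lit 115947,nat_lit 27891,nat_lit 1806671,nat_lit 277185,nat_lit 116475,nat_lit 345744,nat_lit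 416705,nat_lit 102682,nat_lit 110668,nat_lit 66900,nat_lit 17499,nat_lit 1151397,nat_lit 1314916,nat_lit 376499,nat_lit 130666,nat_lit 8186,nat_lit 444092,nat_lit 21268,nat_lit 69348,nat_lit 321967,nat_lit 501072,nat_lit 413329,nat_lit 410947,nat_lit 320576,nat_lit 1754555,nat_lit 69697,nat_lit 1328806,nat_lit 333041,nat_lit 332910,nat_lit 1770475,nat_lit 107596,nat_lit 114598,nat_lit 18172,nat_lit 276821,nat_lit 431706,nat_lit 80465,nat_lit 108803,nat_lit 113243,nat_lit 71062,nat_lit 262230,nat_lit 70975,nat_lit 375216,nat_lit 1968,nat_lit 327571,nat_lit 522515,nat_lit 114580,nat_lit 266246,nat_lit 446,nat_lit 81984,nat_lit 88987,nat_lit 6895,nat_lit 109571,nat_lit 454766,nat_lit 266644,nat_lit 289793,nat_lit 82341,nat_lit 85775,nat_lit 1404524,nat_lit 78171,nat_lit 6767,nat_lit 6764,nat_lit 365808,nat_lit 351145,nat_lit 1054028,nat_lit 1121199,nat_lit 262339,nat_lit 348155,nat_lit 1070842,nat_lit 1134323,nat_lit 125241,nat_lit 320518,nat_lit 87403,nat_lit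 498602,nat_lit 1752740,nat_lit 1309695,nat_lit 320515,nat_lit 322543,nat_lit 1114544,nat_lit 1398340,nat_lit 129818,nat_lit 31550,nat_lit 93092,nat_lit 5838,nat_lit 78170,nat_lit 110393,nat_lit 1246441,nat_lit 86035,nat_lit 320933,nat_lit 6577,nat_lit 1115027,nat_lit 269049,nat_lit 441449,nat_lit 312233,nat_lit 70628,nat_lit 430992,nat_lit 31844,nat_lit 1070660,nat_lit 77932,nat_lit 321840,nat_lit 1418330,nat_lit 1112745,nat_lit 1818266,nat_lit 21486,nat_lit 5525,nat_lit 26259,nat_lit 17169,nat_lit 115461,nat_lit 376486,nat_lit 107945,nat_lit 412773,nat_lit 103360,nat_lit 315077,nat_lit 509626,nat_lit 333246,nat_lit 71318,nat_lit 1052678,nat_lit 1157398,nat_lit 322666,nat_lit 1069403,nat_lit 80128,nat_lit 501488,nat_lit 69274,nat_lit 110841,nat_lit 349243,nat_lit 263930,nat_lit 28652,nat_lit 280254,nat_lit 330817,nat_lit 342844,nat_lit 263931,nat_lit 81979,nat_lit 277525,nat_lit 69828,nat_lit 115620,nat_lit 454458,nat_lit 28266,nat_lit 520453,nat_lit 413711,nat_lit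 1502287,nat_lit 457132,nat_lit 458858,nat_lit 23537,nat_lit 1121173,nat_lit 87632,nat_lit 25913,nat_lit 108108,nat_lit 348070,nat_lit 460035,nat_lit 5177,nat_lit 1061870,nat_lit 5123,nat_lit 342777,nat_lit 2074179,nat_lit 20138,nat_lit 109296,nat_lit 1332977,nat_lit 411366,nat_lit 87355,nat_lit 5379,nat_lit 282688,nat_lit 82843,nat_lit 412756,nat_lit 1063529,nat_lit 345849,nat_lit 1130508,nat_lit 460223,nat_lit 347243,nat_lit 126202,nat_lit 501499,nat_lit 509006,nat_lit 17381,nat_lit 412684,nat_lit 107599,nat_lit 464068,nat_lit 86105,nat_lit 17472,nat_lit 31491,nat_lit 7930,nat_lit 126899,nat_lit 1055678,nat_lit 323825,nat_lit 433049,nat_lit 1109934,nat_lit 443796,nat_lit 130993,nat_lit 70926,nat_lit 1315902,nat_lit 1064005,nat_lit 289899,nat_lit 21827,nat_lit 343104,nat_lit 91161,nat_lit 1732,nat_lit 315068,nat_lit 342361,nat_lit 1099350,nat_lit 267204,nat_lit 1328400,nat_lit 5040883,nat_lit 326252,nat_lit 454924,nat_lit 435269,nat_lit 129792,nat_lit 502522,nat_lit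 435790,nat_lit 28905,nat_lit 1941,nat_lit 343045,nat_lit 508245,nat_lit 348524,nat_lit 278467,nat_lit 125974,nat_lit 5440,nat_lit 127056,nat_lit 350531,nat_lit 327588,nat_lit 321217,nat_lit 16697,nat_lit 496719,nat_lit 1742486,nat_lit 1485817,nat_lit 82027,nat_lit 26305,nat_lit 105,nat_lit 26991,nat_lit 437846,nat_lit 1606,nat_lit 326640,nat_lit 4457,nat_lit 409876,nat_lit 17600,nat_lit 32575,nat_lit 109262,nat_lit 443163,nat_lit 82261,nat_lit 1064633,nat_lit 322575,nat_lit 65877,nat_lit 1065876,nat_lit 1097920,nat_lit 4443,nat_lit 1506995,nat_lit 1503236,nat_lit 371953,nat_lit 414612,nat_lit 19477,nat_lit 124481,nat_lit 1134273,nat_lit 1315839,nat_lit 504149,nat_lit 71364,nat_lit 125971,nat_lit 72388,nat_lit 25916,nat_lit 430427,nat_lit 457808,nat_lit 91440,nat_lit 328945,nat_lit 520121,nat_lit 266672,nat_lit 345852,nat_lit 123995,nat_lit 105049,nat_lit 83049,nat_lit 27390,nat_lit 93958,nat_lit 355377,nat_lit 284399,nat_lit 1381636,nat_lit 1292694,nat_lit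 441295,nat_lit 31483,nat_lit 91140,nat_lit 1260607,nat_lit 345328,nat_lit 1151217,nat_lit 77904,nat_lit 1113828,nat_lit 130139,nat_lit 4521,nat_lit 356097,nat_lit 5567,nat_lit 365891,nat_lit 1361004,nat_lit 1108549,nat_lit 458828,nat_lit 83004,nat_lit 125526,nat_lit 71018,nat_lit 334533,nat_lit 348358,nat_lit 1076933,nat_lit 354734,nat_lit 288090,nat_lit 333076,nat_lit 332774,nat_lit 127289,nat_lit 28315,nat_lit 5226,nat_lit 27648,nat_lit 114283,nat_lit 279489,nat_lit 21737,nat_lit 1072021,nat_lit 411334,nat_lit 85068,nat_lit 67236,nat_lit 452350,nat_lit 475065,nat_lit 130116,nat_lit 356244,nat_lit 284229,nat_lit 28750,nat_lit 1315903,nat_lit 1806670,nat_lit 1490537,nat_lit 458778,nat_lit 1261461,nat_lit 126036,nat_lit 125617,nat_lit 6720,nat_lit 1463363,nat_lit 20395,nat_lit 340324,nat_lit 266579,nat_lit 287807,nat_lit 332878,nat_lit 115475,nat_lit 1506380,nat_lit 94187,nat_lit 329457,nat_lit 28756,nat_lit 115014,nat_lit 1252090,nat_lit 110481,nat_lit 1465294,nat_lit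 93169,nat_lit 458986,nat_lit 376431,nat_lit 92431,nat_lit 65614,nat_lit 454918,nat_lit 1653652,nat_lit 17174,nat_lit 1107051,nat_lit 1392283,nat_lit 457647,nat_lit 311564,nat_lit 2003897,nat_lit 323577,nat_lit 114611,nat_lit 26981,nat_lit 320783,nat_lit 432890,nat_lit 1505946,nat_lit 27029,nat_lit 4395923,nat_lit 421875,nat_lit 23141,nat_lit 31145,nat_lit 130020,nat_lit 69737,nat_lit 322323,nat_lit 108230,nat_lit 1069402,nat_lit 1157427,nat_lit 25851,nat_lit 285500,nat_lit 508228,nat_lit 103396,nat_lit 266662,nat_lit 91200,nat_lit 1994410,nat_lit 464195,nat_lit 2009833,nat_lit 1156539,nat_lit 80275,nat_lit 28665,nat_lit 451599,nat_lit 21433,nat_lit 1479731,nat_lit 77934,nat_lit 80208,nat_lit 31342,nat_lit 1140057,nat_lit 431470,nat_lit 376579,nat_lit 274438,nat_lit 1403838,nat_lit 326572,nat_lit 4276559,nat_lit 104768,nat_lit 327449,nat_lit 25684,nat_lit 464313,nat_lit 124010,nat_lit 109289,nat_lit 1749359,nat_lit 1478764,nat_lit 129962,nat_lit 277567,nat_lit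 354565,nat_lit 1774860,nat_lit 414825,nat_lit 28417,nat_lit 70895,nat_lit 1290190,nat_lit 20793,nat_lit 115817,nat_lit 17834,nat_lit 410991,nat_lit 268563,nat_lit 312918,nat_lit 83643,nat_lit 8110,nat_lit 322112,nat_lit 1133584,nat_lit 1076224,nat_lit 107824,nat_lit 497,nat_lit 5718,nat_lit 277071,nat_lit 1288852,nat_lit 1643470,nat_lit 105193,nat_lit 498325,nat_lit 27587,nat_lit 1246545,nat_lit 102595,nat_lit 267532,nat_lit 85241,nat_lit 262591,nat_lit 332,nat_lit 27066,nat_lit 410390,nat_lit 325956,nat_lit 279311,nat_lit 1314574,nat_lit 262,nat_lit 88377,nat_lit 283588,nat_lit 1077014,nat_lit 1246638,nat_lit 1162835,nat_lit 125893,nat_lit 1470,nat_lit 1113172,nat_lit 1127403,nat_lit 102704,nat_lit 127033,nat_lit 339,nat_lit 312236,nat_lit 351130,nat_lit 435635,nat_lit 77929,nat_lit 276817,nat_lit 305,nat_lit 102724,nat_lit 421454,nat_lit 287977,nat_lit 1162906,nat_lit 1220,nat_lit 283540,nat_lit 110577,nat_lit 1316507,nat_lit 1121267,nat_lit 93196,nat_lit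 125329,nat_lit 127046,nat_lit 1108580,nat_lit 80234,nat_lit 1338044,nat_lit 413328,nat_lit 1363769,nat_lit 333392,nat_lit 1041,nat_lit 107825,nat_lit 78022,nat_lit 85225,nat_lit 1986636,nat_lit 7844,nat_lit 82688,nat_lit 103429,nat_lit 1259886,nat_lit 29689,nat_lit 350895,nat_lit 331003,nat_lit 69894,nat_lit 522564,nat_lit 1131718,nat_lit 26958,nat_lit 126569,nat_lit 5060,nat_lit 1640111,nat_lit 25946,nat_lit 269116,nat_lit 266297,nat_lit 105209,nat_lit 1263,nat_lit 5151438,nat_lit 1369350,nat_lit 67259,nat_lit 1099354,nat_lit 6549,nat_lit 4358,nat_lit 124655,nat_lit 27284,nat_lit 32529,nat_lit 1784134,nat_lit 88425,nat_lit 115,nat_lit 1720572,nat_lit 323611,nat_lit 274693,nat_lit 5521,nat_lit 20673,nat_lit 8115,nat_lit 29011,nat_lit 1129046,nat_lit 1638633,nat_lit 129621,nat_lit 103428,nat_lit 454596,nat_lit 1312101,nat_lit 520133,nat_lit 1162324,nat_lit 275406,nat_lit 430396,nat_lit 114772,nat_lit 421804,nat_lit 287993,nat_lit 345326,nat_lit 1249532,nat_lit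 80899,nat_lit 69203,nat_lit 17324,nat_lit 78166,nat_lit 508329,nat_lit 29588,nat_lit 416409,nat_lit 262336,nat_lit 1626,nat_lit 69978,nat_lit 1030,nat_lit 413291,nat_lit 1134828,nat_lit 267854,nat_lit 322291,nat_lit 371632,nat_lit 83628,nat_lit 279578,nat_lit 31849,nat_lit 508698,nat_lit 83691,nat_lit 130300,nat_lit 8108,nat_lit 28261,nat_lit 91483,nat_lit 4414,nat_lit 72592,nat_lit 416524,nat_lit 375791,nat_lit 1775024,nat_lit 1479738,nat_lit 1298110,nat_lit 116118,nat_lit 1822438,nat_lit 78841,nat_lit 1156755,nat_lit 442137,nat_lit 69993,nat_lit 416527,nat_lit 21487,nat_lit 28401,nat_lit 1732174,nat_lit 311658,nat_lit 1053796,nat_lit 129813,nat_lit 1250289,nat_lit 349630,nat_lit 1397516,nat_lit 453434,nat_lit 1049510,nat_lit 342299,nat_lit 5008,nat_lit 283705,nat_lit 113219,nat_lit 1721253,nat_lit 116454,nat_lit 1114547,nat_lit 1141500,nat_lit 80186,nat_lit 263404,nat_lit 283754,nat_lit 458838,nat_lit 1065878,nat_lit 72337,nat_lit 458859,nat_lit 26310,nat_lit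 334763,nat_lit 1990,nat_lit 1818,nat_lit 31343,nat_lit 92565,nat_lit 1161539,nat_lit 371023,nat_lit 1250747,nat_lit 7188,nat_lit 31825,nat_lit 8143,nat_lit 265918,nat_lit 497391,nat_lit 20133,nat_lit 1746629,nat_lit 263867,nat_lit 1134668,nat_lit 452347,nat_lit 4182,nat_lit 354580,nat_lit 285628,nat_lit 69652,nat_lit 104761,nat_lit 94121,nat_lit 30,nat_lit 25833,nat_lit 78073,nat_lit 21759,nat_lit 16666,nat_lit 1485204,nat_lit 87396,nat_lit 1306831,nat_lit 78143,nat_lit 22255,nat_lit 1413436,nat_lit 503866,nat_lit 354988,nat_lit 124494,nat_lit 1807806,nat_lit 2069510,nat_lit 77825,nat_lit 274660,nat_lit 454969,nat_lit 289809,nat_lit 277552,nat_lit 129306,nat_lit 87038,nat_lit 7247,nat_lit 29590,nat_lit 492,nat_lit 78142,nat_lit 279788,nat_lit 371739,nat_lit 267866,nat_lit 1099331,nat_lit 31834,nat_lit 70897,nat_lit 4410,nat_lit 416570,nat_lit 105067,nat_lit 20812,nat_lit 1109571,nat_lit 20927,nat_lit 1963,nat_lit 28908,nat_lit 31052,nat_lit 114938,nat_lit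 266572,nat_lit 80624,nat_lit 65642,nat_lit 1075521,nat_lit 418899,nat_lit 85701,nat_lit 371515,nat_lit 432435,nat_lit 430083,nat_lit 283398,nat_lit 1063663,nat_lit 502681,nat_lit 65587,nat_lit 266582,nat_lit 262926,nat_lit 1134505,nat_lit 268602,nat_lit 495636,nat_lit 4452414,nat_lit 130053,nat_lit 343018,nat_lit 327876,nat_lit 416452,nat_lit 1288510,nat_lit 1162489,nat_lit 16667,nat_lit 108,nat_lit 92417,nat_lit 109481,nat_lit 103358,nat_lit 25605,nat_lit 416410,nat_lit 347840,nat_lit 113060,nat_lit 323590,nat_lit 92927,nat_lit 72390,nat_lit 1627,nat_lit 347204,nat_lit 1424067,nat_lit 262500,nat_lit 86122,nat_lit 1726206,nat_lit 112911,nat_lit 27370,nat_lit 334148,nat_lit 23445,nat_lit 124667,nat_lit 6464,nat_lit 455614,nat_lit 414721,nat_lit 1893382,nat_lit 1120921,nat_lit 331519,nat_lit 435226,nat_lit 465684,nat_lit 1107520,nat_lit 28655,nat_lit 25918,nat_lit 1108399,nat_lit 21423,nat_lit 1108396,nat_lit 496401,nat_lit 81830,nat_lit 420889,nat_lit 415460,nat_lit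 376388,nat_lit 1393427,nat_lit 1833657,nat_lit 1359931,nat_lit 88428,nat_lit 1838768,nat_lit 88826,nat_lit 102491,nat_lit 21275,nat_lit 438702,nat_lit 410636,nat_lit 20378,nat_lit 86075,nat_lit 504819,nat_lit 1114894,nat_lit 289804,nat_lit 2003860,nat_lit 1137406,nat_lit 86352,nat_lit 115033,nat_lit 288021,nat_lit 21440,nat_lit 31851,nat_lit 349611,nat_lit 323241,nat_lit 80131,nat_lit 80698,nat_lit 1284672,nat_lit 1363716,nat_lit 85777,nat_lit 81007,nat_lit 87702,nat_lit 127984,nat_lit 433134,nat_lit 376772,nat_lit 267024,nat_lit 1245247,nat_lit 66470,nat_lit 1721539,nat_lit 421883,nat_lit 1141777,nat_lit 71238,nat_lit 102746,nat_lit 22161,nat_lit 5061,nat_lit 71235,nat_lit 1507300,nat_lit 446213,nat_lit 1130426,nat_lit 442262,nat_lit 1331625,nat_lit 1070740,nat_lit 83006,nat_lit 28310,nat_lit 1282115,nat_lit 27697,nat_lit 103827,nat_lit 322132,nat_lit 129604,nat_lit 410867,nat_lit 1134820,nat_lit 446451,nat_lit 432748,nat_lit 1462284,nat_lit 23228,nat_lit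 1261232,nat_lit 26256,nat_lit 1063932,nat_lit 4280037,nat_lit 70037,nat_lit 104704,nat_lit 91561,nat_lit 20709,nat_lit 414522,nat_lit 118724,nat_lit 1620,nat_lit 420518,nat_lit 503823,nat_lit 28267,nat_lit 88403,nat_lit 1131578,nat_lit 348102,nat_lit 77846,nat_lit 1683204,nat_lit 23471,nat_lit 126547,nat_lit 91184,nat_lit 20044,nat_lit 1053669,nat_lit 102761,nat_lit 1331110,nat_lit 518544,nat_lit 509039,nat_lit 102403,nat_lit 342329,nat_lit 1653817,nat_lit 315134,nat_lit 279315,nat_lit 455088,nat_lit 1130836,nat_lit 1070403,nat_lit 87791,nat_lit 27068,nat_lit 108222,nat_lit 509594,nat_lit 351210,nat_lit 459093,nat_lit 7956,nat_lit 409878,nat_lit 354665,nat_lit 1459200,nat_lit 1130051,nat_lit 290387,nat_lit 462911,nat_lit 1131947,nat_lit 458433,nat_lit 65818,nat_lit 474095,nat_lit 345854,nat_lit 437187,nat_lit 20901,nat_lit 91475,nat_lit 127251,nat_lit 280303,nat_lit 334406,nat_lit 438636,nat_lit 21583,nat_lit 85017,nat_lit 6560422,nat_lit 1140051,nat_lit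 118426,nat_lit 129428,nat_lit 312627,nat_lit 80150,nat_lit 7876,nat_lit 108820,nat_lit 278100,nat_lit 289893,nat_lit 105158,nat_lit 364944,nat_lit 16660,nat_lit 80655,nat_lit 414918,nat_lit 21393,nat_lit 1305237,nat_lit 420441,nat_lit 2032987,nat_lit 21499,nat_lit 1112401,nat_lit 355923,nat_lit 502677,nat_lit 1131940,nat_lit 1098666,nat_lit 278181,nat_lit 17492,nat_lit 431081,nat_lit 1303795,nat_lit 89070,nat_lit 91219,nat_lit 501183,nat_lit 323222,nat_lit 66922,nat_lit 113648,nat_lit 414649,nat_lit 78268,nat_lit 88345,nat_lit 290809,nat_lit 262223,nat_lit 1107007,nat_lit 129619,nat_lit 110566,nat_lit 342378,nat_lit 333499,nat_lit 282641,nat_lit 364566,nat_lit 327996,nat_lit 17425,nat_lit 430145,nat_lit 282340,nat_lit 325969,nat_lit 7909,nat_lit 92496,nat_lit 1396422,nat_lit 289541,nat_lit 443839,nat_lit 318,nat_lit 31807,nat_lit 1984,nat_lit 1113706,nat_lit 116464,nat_lit 443756,nat_lit 497999,nat_lit 451587,nat_lit 347820,nat_lit 498428,nat_lit 1061289,nat_lit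 459115,nat_lit 1486832,nat_lit 283396,nat_lit 1246553,nat_lit 454422,nat_lit 1863449,nat_lit 1052686,nat_lit 129734,nat_lit 1852388,nat_lit 265875,nat_lit 16654,nat_lit 27898,nat_lit 70910,nat_lit 7937,nat_lit 1101419,nat_lit 1129045,nat_lit 268005,nat_lit 85755,nat_lit 508,nat_lit 502465,nat_lit 86811,nat_lit 465828,nat_lit 353349,nat_lit 23450,nat_lit 371737,nat_lit 1463571,nat_lit 366335,nat_lit 333388,nat_lit 32742,nat_lit 69888,nat_lit 17473,nat_lit 4373,nat_lit 100,nat_lit 69382,nat_lit 21760,nat_lit 464192,nat_lit 328689,nat_lit 1463887,nat_lit 1063503,nat_lit 372414,nat_lit 5183,nat_lit 68699,nat_lit 353329,nat_lit 1295419,nat_lit 1666297,nat_lit 340272,nat_lit 430144,nat_lit 17457,nat_lit 110585,nat_lit 503700,nat_lit 1831228,nat_lit 372634,nat_lit 356324,nat_lit 93294,nat_lit 113217,nat_lit 278297,nat_lit 109548,nat_lit 104143,nat_lit 274675,nat_lit 6757,nat_lit 6756,nat_lit 348238,nat_lit 276842,nat_lit 1070094,nat_lit 1107371,nat_lit 1492649,nat_lit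 266252,nat_lit 105201,nat_lit 454976,nat_lit 485,nat_lit 1053013,nat_lit 266432,nat_lit 350955,nat_lit 80302,nat_lit 420117,nat_lit 20801,nat_lit 69609,nat_lit 504078,nat_lit 77845,nat_lit 327450,nat_lit 26035,nat_lit 509675,nat_lit 113723,nat_lit 124492,nat_lit 511742,nat_lit 5358,nat_lit 66468,nat_lit 326374,nat_lit 69829,nat_lit 5103,nat_lit 288026,nat_lit 1306603,nat_lit 1290474,nat_lit 7148,nat_lit 89024,nat_lit 20677,nat_lit 69296,nat_lit 312324,nat_lit 322116,nat_lit 313019,nat_lit 68857,nat_lit 1141068,nat_lit 70854,nat_lit 81598,nat_lit 327614,nat_lit 1681724,nat_lit 1403569,nat_lit 464563,nat_lit 1304153,nat_lit 350982,nat_lit 411285,nat_lit 332108,nat_lit 1113072,nat_lit 1065872,nat_lit 72646,nat_lit 329306,nat_lit 326288,nat_lit 277070,nat_lit 67221,nat_lit 129338,nat_lit 269307,nat_lit 83707,nat_lit 1283820,nat_lit 458768,nat_lit 463184,nat_lit 28564,nat_lit 1388901,nat_lit 431769,nat_lit 103684,nat_lit 267525,nat_lit 1110208,nat_lit 263744,nat_lit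 1283,nat_lit 28906,nat_lit 22863,nat_lit 452266,nat_lit 25828,nat_lit 4420,nat_lit 265235,nat_lit 263066,nat_lit 1371205,nat_lit 343103,nat_lit 1328017,nat_lit 436656,nat_lit 127332,nat_lit 279322,nat_lit 1142720,nat_lit 1131579,nat_lit 413692,nat_lit 1323971,nat_lit 1290566,nat_lit 5860271,nat_lit 17775,nat_lit 277395,nat_lit 112963,nat_lit 329020,nat_lit 1294014,nat_lit 82254,nat_lit 523002,nat_lit 347194,nat_lit 1656113,nat_lit 315306,nat_lit 1098510,nat_lit 28351,nat_lit 500985,nat_lit 68635,nat_lit 1644867,nat_lit 266511,nat_lit 340019,nat_lit 69291,nat_lit 274665,nat_lit 109290,nat_lit 436588,nat_lit 130758,nat_lit 321113,nat_lit 324502,nat_lit 7851,nat_lit 1119936,nat_lit 78078,nat_lit 348089,nat_lit 267708,nat_lit 86373,nat_lit 65769,nat_lit 92761,nat_lit 1895675,nat_lit 312070,nat_lit 118422,nat_lit 22790,nat_lit 1071766,nat_lit 314987,nat_lit 432875,nat_lit 1065068,nat_lit 277137,nat_lit 8185,nat_lit 279811,nat_lit 83606,nat_lit 114240,nat_lit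 110579,nat_lit 31771,nat_lit 1658513,nat_lit 517822,nat_lit 430863,nat_lit 497404,nat_lit 356289,nat_lit 520435,nat_lit 344080,nat_lit 281705,nat_lit 72508,nat_lit 415310,nat_lit 501427,nat_lit 496723,nat_lit 1339280,nat_lit 508267,nat_lit 87052,nat_lit 104709,nat_lit 281851,nat_lit 343642,nat_lit 437967,nat_lit 65792,nat_lit 334591,nat_lit 20399,nat_lit 110852,nat_lit 376592,nat_lit 509507,nat_lit 411050,nat_lit 110230,nat_lit 289556,nat_lit 1107289,nat_lit 1152764,nat_lit 1106969,nat_lit 328596,nat_lit 114604,nat_lit 1330224,nat_lit 23294,nat_lit 458822,nat_lit 267505,nat_lit 1070656,nat_lit 80809,nat_lit 69708,nat_lit 103828,nat_lit 102719,nat_lit 517121,nat_lit 1261311,nat_lit 110323,nat_lit 289876,nat_lit 27200,nat_lit 92990,nat_lit 72603,nat_lit 436668,nat_lit 85230,nat_lit 1137660,nat_lit 1112817,nat_lit 20564,nat_lit 285585,nat_lit 279313,nat_lit 22107,nat_lit 320526,nat_lit 1751345,nat_lit 5797,nat_lit 4879,nat_lit 1323343,nat_lit 20163,nat_lit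 1614,nat_lit 413457,nat_lit 115011,nat_lit 93434,nat_lit 1312172,nat_lit 350959,nat_lit 65776,nat_lit 323652,nat_lit 364812,nat_lit 365553,nat_lit 70894,nat_lit 80875,nat_lit 454931,nat_lit 458412,nat_lit 1463360,nat_lit 437339,nat_lit 1260523,nat_lit 349290,nat_lit 108974,nat_lit 1107610,nat_lit 7061,nat_lit 322329,nat_lit 2036540,nat_lit 267941,nat_lit 17424,nat_lit 70425,nat_lit 412694,nat_lit 282640,nat_lit 289701,nat_lit 463808,nat_lit 5875,nat_lit 72463,nat_lit 431023,nat_lit 127313,nat_lit 104085,nat_lit 282428,nat_lit 127913,nat_lit 1363940,nat_lit 4112,nat_lit 22811,nat_lit 65893,nat_lit 1729587,nat_lit 69969,nat_lit 356096,nat_lit 113471,nat_lit 354661,nat_lit 26985,nat_lit 275370,nat_lit 85075,nat_lit 1895492,nat_lit 460011,nat_lit 108281,nat_lit 315115,nat_lit 1389502,nat_lit 356272,nat_lit 438016,nat_lit 287827,nat_lit 5839,nat_lit 326372,nat_lit 16460,nat_lit 1072068,nat_lit 411284,nat_lit 124230,nat_lit 278270,nat_lit 103361,nat_lit 1070844,nat_lit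 1770758,nat_lit 442350,nat_lit 458820,nat_lit 70907,nat_lit 70550,nat_lit 124265,nat_lit 66623,nat_lit 345361]
def orb8 : List Nat := [nat_lit 72703,nat_lit 70460,nat_lit 27737,nat_lit 328980,nat_lit 267344,nat_lit 28595,nat_lit 65806,nat_lit 312238,nat_lit 93438,nat_lit 290795,nat_lit 1071872,nat_lit 1491251,nat_lit 348177,nat_lit 1074246,nat_lit 1452,nat_lit 344420,nat_lit 314944,nat_lit 7758,nat_lit 268561,nat_lit 312555,nat_lit 289743,nat_lit 112915,nat_lit 451836,nat_lit 442636,nat_lit 16495,nat_lit 267707,nat_lit 324524,nat_lit 1659994,nat_lit 27715,nat_lit 354563,nat_lit 1161819,nat_lit 1309371,nat_lit 508220,nat_lit 110822,nat_lit 438213,nat_lit 115696,nat_lit 322499,nat_lit 441109,nat_lit 80963,nat_lit 26885,nat_lit 71002,nat_lit 451930,nat_lit 66841,nat_lit 1114512,nat_lit 1388750,nat_lit 1077230,nat_lit 16731,nat_lit 327887,nat_lit 102714,nat_lit 1134187,nat_lit 421617,nat_lit 496901,nat_lit 290561,nat_lit 437180,nat_lit 501059,nat_lit 365564,nat_lit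 25669,nat_lit 2015342,nat_lit 348110,nat_lit 5455,nat_lit 85904,nat_lit 496048,nat_lit 503702,nat_lit 411024,nat_lit 1066223,nat_lit 266241,nat_lit 65786,nat_lit 130988,nat_lit 7770,nat_lit 285380,nat_lit 81641,nat_lit 279801,nat_lit 5180,nat_lit 71013,nat_lit 354585,nat_lit 1811505,nat_lit 28654,nat_lit 1962,nat_lit 5115,nat_lit 279558,nat_lit 93946,nat_lit 1374468,nat_lit 80582,nat_lit 453200,nat_lit 1360804,nat_lit 498453,nat_lit 103364,nat_lit 129294,nat_lit 355089,nat_lit 65603,nat_lit 289814,nat_lit 457134,nat_lit 5221,nat_lit 80879,nat_lit 1380694,nat_lit 29006,nat_lit 332014,nat_lit 1052595,nat_lit 508096,nat_lit 86294,nat_lit 451941,nat_lit 1110010,nat_lit 1489690,nat_lit 20921,nat_lit 1099505,nat_lit 70579,nat_lit 369722,nat_lit 266047,nat_lit 443397,nat_lit 442281,nat_lit 263087,nat_lit 29584,nat_lit 1325460,nat_lit 83547,nat_lit 86121,nat_lit 315283,nat_lit 86378,nat_lit 509126,nat_lit 69614,nat_lit 92915,nat_lit 463168,nat_lit 21824,nat_lit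 1306289,nat_lit 326059,nat_lit 1361214,nat_lit 4527,nat_lit 265878,nat_lit 457813,nat_lit 1159219,nat_lit 20452,nat_lit 464581,nat_lit 70918,nat_lit 457811,nat_lit 1246894,nat_lit 85702,nat_lit 126204,nat_lit 5140371,nat_lit 1306260,nat_lit 131002,nat_lit 1421209,nat_lit 1098992,nat_lit 1048832,nat_lit 16491,nat_lit 311401,nat_lit 312377,nat_lit 431187,nat_lit 267270,nat_lit 348437,nat_lit 27673,nat_lit 342337,nat_lit 1754115,nat_lit 279780,nat_lit 1326097,nat_lit 28268,nat_lit 4460,nat_lit 5487,nat_lit 1119430,nat_lit 311404,nat_lit 431548,nat_lit 282644,nat_lit 458672,nat_lit 5564,nat_lit 347206,nat_lit 89020,nat_lit 103829,nat_lit 353515,nat_lit 1360787,nat_lit 1119567,nat_lit 523065,nat_lit 372485,nat_lit 105236,nat_lit 451908,nat_lit 324527,nat_lit 266134,nat_lit 1134278,nat_lit 1114198,nat_lit 4520976,nat_lit 334188,nat_lit 327365,nat_lit 1310437,nat_lit 17728,nat_lit 87731,nat_lit 1107035,nat_lit 115123,nat_lit 17166,nat_lit 365851,nat_lit 1252083,nat_lit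 1251648,nat_lit 334756,nat_lit 27057,nat_lit 28694,nat_lit 83535,nat_lit 27413,nat_lit 4211023,nat_lit 369678,nat_lit 113216,nat_lit 342713,nat_lit 419158,nat_lit 1101754,nat_lit 1070779,nat_lit 523973,nat_lit 1045,nat_lit 4524,nat_lit 376603,nat_lit 342782,nat_lit 1294,nat_lit 67226,nat_lit 83631,nat_lit 16492,nat_lit 348581,nat_lit 17984,nat_lit 25935,nat_lit 354735,nat_lit 432453,nat_lit 321806,nat_lit 1097753,nat_lit 5231,nat_lit 1304218,nat_lit 463813,nat_lit 25606,nat_lit 81518,nat_lit 1054979,nat_lit 413589,nat_lit 1280,nat_lit 70980,nat_lit 1306261,nat_lit 83262,nat_lit 1363536,nat_lit 28988,nat_lit 1729,nat_lit 1160177,nat_lit 1117785,nat_lit 1064619,nat_lit 322572,nat_lit 27660,nat_lit 20841,nat_lit 87023,nat_lit 269230,nat_lit 263059,nat_lit 65791,nat_lit 262387,nat_lit 110190,nat_lit 1382124,nat_lit 1248318,nat_lit 279973,nat_lit 82842,nat_lit 327763,nat_lit 274836,nat_lit 321103,nat_lit 462782,nat_lit 431866,nat_lit 520432,nat_lit 25679,nat_lit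 22106,nat_lit 127910,nat_lit 130026,nat_lit 80881,nat_lit 1331183,nat_lit 1394240,nat_lit 4926,nat_lit 125371,nat_lit 81486,nat_lit 321221,nat_lit 126548,nat_lit 455012,nat_lit 323947,nat_lit 1135017,nat_lit 113681,nat_lit 520612,nat_lit 289513,nat_lit 290021,nat_lit 31087,nat_lit 4281775,nat_lit 441028,nat_lit 1282372,nat_lit 6831,nat_lit 312513,nat_lit 282310,nat_lit 461824,nat_lit 287985,nat_lit 127397,nat_lit 91567,nat_lit 4371,nat_lit 115007,nat_lit 274682,nat_lit 279535,nat_lit 347961,nat_lit 1250726,nat_lit 31140,nat_lit 520176,nat_lit 334522,nat_lit 5100,nat_lit 262225,nat_lit 1259803,nat_lit 1494958,nat_lit 113263,nat_lit 4869,nat_lit 289857,nat_lit 28442,nat_lit 1070021,nat_lit 431705,nat_lit 69689,nat_lit 454913,nat_lit 88382,nat_lit 326403,nat_lit 266508,nat_lit 115459,nat_lit 1376235,nat_lit 86847,nat_lit 127082,nat_lit 115769,nat_lit 1770508,nat_lit 130815,nat_lit 1250202,nat_lit 369902,nat_lit 414992,nat_lit 80132,nat_lit 1361299,nat_lit 262915,nat_lit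 1360154,nat_lit 269297,nat_lit 342633,nat_lit 1480382,nat_lit 502464,nat_lit 320958,nat_lit 342460,nat_lit 496899,nat_lit 276924,nat_lit 113734,nat_lit 1986879,nat_lit 93177,nat_lit 86353,nat_lit 436652,nat_lit 31822,nat_lit 93107,nat_lit 517452,nat_lit 17814,nat_lit 81978,nat_lit 502107,nat_lit 29604,nat_lit 113232,nat_lit 66835,nat_lit 91242,nat_lit 2020,nat_lit 268017,nat_lit 130033,nat_lit 102426,nat_lit 332563,nat_lit 4372,nat_lit 17662,nat_lit 496720,nat_lit 103681,nat_lit 1076282,nat_lit 2036624,nat_lit 22806,nat_lit 1063488,nat_lit 21519,nat_lit 347200,nat_lit 1731,nat_lit 1075887,nat_lit 16581,nat_lit 437503,nat_lit 437183,nat_lit 129795,nat_lit 126993,nat_lit 7963,nat_lit 342932,nat_lit 503791,nat_lit 6929,nat_lit 1157732,nat_lit 70659,nat_lit 65898,nat_lit 129958,nat_lit 17390,nat_lit 127939,nat_lit 65814,nat_lit 1314501,nat_lit 334585,nat_lit 285669,nat_lit 460355,nat_lit 452943,nat_lit 72015,nat_lit 78147,nat_lit 31769,nat_lit 278211,nat_lit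 4542158,nat_lit 88852,nat_lit 266606,nat_lit 77908,nat_lit 114331,nat_lit 1069163,nat_lit 69273,nat_lit 1478713,nat_lit 344494,nat_lit 114417,nat_lit 125606,nat_lit 104090,nat_lit 5699,nat_lit 263088,nat_lit 1061292,nat_lit 518734,nat_lit 311631,nat_lit 353300,nat_lit 7066,nat_lit 323605,nat_lit 265882,nat_lit 351219,nat_lit 366320,nat_lit 31792,nat_lit 420116,nat_lit 416572,nat_lit 31419,nat_lit 322113,nat_lit 263444,nat_lit 409,nat_lit 1418323,nat_lit 332204,nat_lit 86796,nat_lit 1489689,nat_lit 1161551,nat_lit 127299,nat_lit 267347,nat_lit 66479,nat_lit 1337,nat_lit 327940,nat_lit 438697,nat_lit 105221,nat_lit 290580,nat_lit 267697,nat_lit 1249529,nat_lit 438288,nat_lit 88676,nat_lit 267519,nat_lit 1495034,nat_lit 435257,nat_lit 438638,nat_lit 322243,nat_lit 370107,nat_lit 1052922,nat_lit 26188,nat_lit 17603,nat_lit 283882,nat_lit 435903,nat_lit 262929,nat_lit 66671,nat_lit 495665,nat_lit 1136899,nat_lit 263163,nat_lit 267203,nat_lit 413434,nat_lit 20748,nat_lit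 267946,nat_lit 1363882,nat_lit 1044,nat_lit 20140,nat_lit 27711,nat_lit 520449,nat_lit 285289,nat_lit 1061824,nat_lit 72347,nat_lit 86785,nat_lit 70673,nat_lit 328506,nat_lit 83697,nat_lit 16719,nat_lit 70059,nat_lit 108816,nat_lit 78053,nat_lit 72345,nat_lit 263878,nat_lit 279445,nat_lit 32422,nat_lit 1054998,nat_lit 5802,nat_lit 116143,nat_lit 323643,nat_lit 109318,nat_lit 1295164,nat_lit 88721,nat_lit 372332,nat_lit 1653786,nat_lit 496947,nat_lit 129770,nat_lit 5013,nat_lit 315078,nat_lit 82255,nat_lit 87619,nat_lit 376560,nat_lit 1064892,nat_lit 21520,nat_lit 1726195,nat_lit 114885,nat_lit 266159,nat_lit 81898,nat_lit 26931,nat_lit 1113873,nat_lit 1849660,nat_lit 110256,nat_lit 266170,nat_lit 1162833,nat_lit 1987,nat_lit 104186,nat_lit 17322,nat_lit 124166,nat_lit 8113,nat_lit 81676,nat_lit 70916,nat_lit 26046,nat_lit 1818608,nat_lit 1851451,nat_lit 1049509,nat_lit 354667,nat_lit 421563,nat_lit 5227497,nat_lit 1311739,nat_lit 113300,nat_lit 524202,nat_lit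 267174,nat_lit 72336,nat_lit 22171,nat_lit 93134,nat_lit 265807,nat_lit 350489,nat_lit 1282324,nat_lit 495930,nat_lit 31312,nat_lit 499,nat_lit 31299,nat_lit 83523,nat_lit 1063994,nat_lit 263152,nat_lit 1282074,nat_lit 365571,nat_lit 4476906,nat_lit 1414735,nat_lit 1375321,nat_lit 1750015,nat_lit 284976,nat_lit 92480,nat_lit 314964,nat_lit 282431,nat_lit 93076,nat_lit 116145,nat_lit 23468,nat_lit 2003862,nat_lit 1643589,nat_lit 85753,nat_lit 82160,nat_lit 285452,nat_lit 462059,nat_lit 473918,nat_lit 103408,nat_lit 1121215,nat_lit 125356,nat_lit 340374,nat_lit 126894,nat_lit 281670,nat_lit 130022,nat_lit 20132,nat_lit 66985,nat_lit 452868,nat_lit 114351,nat_lit 327443,nat_lit 78054,nat_lit 31828,nat_lit 1136947,nat_lit 507803,nat_lit 5317,nat_lit 370095,nat_lit 6800,nat_lit 81819,nat_lit 86382,nat_lit 87461,nat_lit 1284709,nat_lit 1660102,nat_lit 66475,nat_lit 4215125,nat_lit 1250284,nat_lit 1283758,nat_lit 125584,nat_lit 1076158,nat_lit 1835075,nat_lit 375225,nat_lit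 1328847,nat_lit 364569,nat_lit 320592,nat_lit 1135929,nat_lit 443974,nat_lit 266581,nat_lit 431385,nat_lit 68846,nat_lit 269295,nat_lit 1425343,nat_lit 81509,nat_lit 1158148,nat_lit 103483,nat_lit 451867,nat_lit 350483,nat_lit 65731,nat_lit 465203,nat_lit 1748732,nat_lit 6918383,nat_lit 415033,nat_lit 4110,nat_lit 28949,nat_lit 332905,nat_lit 65787,nat_lit 1141334,nat_lit 129292,nat_lit 105450,nat_lit 21614,nat_lit 1765124,nat_lit 262398,nat_lit 372543,nat_lit 278725,nat_lit 20154,nat_lit 1295962,nat_lit 4886,nat_lit 115819,nat_lit 356241,nat_lit 1754517,nat_lit 1158393,nat_lit 85760,nat_lit 19705,nat_lit 65599,nat_lit 80922,nat_lit 353297,nat_lit 349440,nat_lit 325937,nat_lit 1162299,nat_lit 465667,nat_lit 323668,nat_lit 442715,nat_lit 1294067,nat_lit 522559,nat_lit 27227,nat_lit 17497,nat_lit 105113,nat_lit 1063686,nat_lit 72677,nat_lit 116037,nat_lit 326427,nat_lit 27748,nat_lit 327958,nat_lit 86358,nat_lit 312307,nat_lit 279987,nat_lit 7771,nat_lit 1680464,nat_lit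 92762,nat_lit 438337,nat_lit 342598,nat_lit 111013,nat_lit 365973,nat_lit 72460,nat_lit 278086,nat_lit 463846,nat_lit 460219,nat_lit 447,nat_lit 322363,nat_lit 80209,nat_lit 104812,nat_lit 116051,nat_lit 1134955,nat_lit 108860,nat_lit 105041,nat_lit 333051,nat_lit 123921,nat_lit 1331137,nat_lit 16473,nat_lit 1372585,nat_lit 1131749,nat_lit 114323,nat_lit 115763,nat_lit 322324,nat_lit 343758,nat_lit 1381,nat_lit 109585,nat_lit 1098006,nat_lit 1310634,nat_lit 289881,nat_lit 103749,nat_lit 124181,nat_lit 1330179,nat_lit 329393,nat_lit 284995,nat_lit 326399,nat_lit 473345,nat_lit 86293,nat_lit 81840,nat_lit 22259,nat_lit 65892,nat_lit 431700,nat_lit 289363,nat_lit 31633,nat_lit 16494,nat_lit 6924,nat_lit 32489,nat_lit 4636244,nat_lit 282278,nat_lit 17420,nat_lit 279795,nat_lit 85754,nat_lit 80986,nat_lit 1310491,nat_lit 70668,nat_lit 333077,nat_lit 7232,nat_lit 65627,nat_lit 506193,nat_lit 267322,nat_lit 108977,nat_lit 109205,nat_lit 28736,nat_lit 5059,nat_lit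 267516,nat_lit 1131434,nat_lit 28870,nat_lit 1098640,nat_lit 265872,nat_lit 4544236,nat_lit 105139,nat_lit 31025,nat_lit 463893,nat_lit 342734,nat_lit 460123,nat_lit 1492735,nat_lit 20732,nat_lit 442041,nat_lit 1315057,nat_lit 442126,nat_lit 1117882,nat_lit 114710,nat_lit 1306202,nat_lit 442772,nat_lit 31750,nat_lit 5199,nat_lit 103619,nat_lit 340211,nat_lit 446225,nat_lit 328721,nat_lit 285434,nat_lit 266468,nat_lit 420867,nat_lit 1066729,nat_lit 131050,nat_lit 16825,nat_lit 1489340,nat_lit 522596,nat_lit 85909,nat_lit 465253,nat_lit 1360101,nat_lit 1645251,nat_lit 27621,nat_lit 1414862,nat_lit 372335,nat_lit 342676,nat_lit 25796,nat_lit 327740,nat_lit 1485078,nat_lit 126010,nat_lit 1069392,nat_lit 5361,nat_lit 268651,nat_lit 1130244,nat_lit 1327333,nat_lit 1287756,nat_lit 6863,nat_lit 102406,nat_lit 20419,nat_lit 93179,nat_lit 29077,nat_lit 27281,nat_lit 1248853,nat_lit 129796,nat_lit 465562,nat_lit 314986,nat_lit 110484,nat_lit 110619,nat_lit 1651627,nat_lit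 327312,nat_lit 1666811,nat_lit 324537,nat_lit 102655,nat_lit 1359953,nat_lit 6889,nat_lit 94148,nat_lit 1137577,nat_lit 116142,nat_lit 268547,nat_lit 5225,nat_lit 322564,nat_lit 1137402,nat_lit 31417,nat_lit 2005673,nat_lit 503893,nat_lit 114372,nat_lit 116044,nat_lit 372475,nat_lit 446131,nat_lit 523020,nat_lit 20484,nat_lit 85056,nat_lit 1465,nat_lit 4529091,nat_lit 1287856,nat_lit 375804,nat_lit 91460,nat_lit 4516156,nat_lit 283733,nat_lit 1113691,nat_lit 334105,nat_lit 91376,nat_lit 6912,nat_lit 91206,nat_lit 415311,nat_lit 19534,nat_lit 1131920,nat_lit 1069339,nat_lit 353715,nat_lit 1134340,nat_lit 274756,nat_lit 290707,nat_lit 457497,nat_lit 341,nat_lit 25961,nat_lit 5807,nat_lit 65883,nat_lit 288083,nat_lit 274672,nat_lit 102481,nat_lit 275375,nat_lit 365491,nat_lit 312683,nat_lit 503814,nat_lit 32518,nat_lit 354894,nat_lit 1380330,nat_lit 130990,nat_lit 349249,nat_lit 1156302,nat_lit 111513,nat_lit 93850,nat_lit 285498,nat_lit 23473,nat_lit 511984,nat_lit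 19473,nat_lit 1114373,nat_lit 107604,nat_lit 347823,nat_lit 27628,nat_lit 20224,nat_lit 328085,nat_lit 414780,nat_lit 72016,nat_lit 16699,nat_lit 323492,nat_lit 1305708,nat_lit 93806,nat_lit 274500,nat_lit 475057,nat_lit 289707,nat_lit 1131862,nat_lit 1309262,nat_lit 283667,nat_lit 290708,nat_lit 517390,nat_lit 442042,nat_lit 21403,nat_lit 357,nat_lit 1060955,nat_lit 4155,nat_lit 323350,nat_lit 411331,nat_lit 289360,nat_lit 6970,nat_lit 1151230,nat_lit 277310,nat_lit 1425321,nat_lit 107846,nat_lit 329126,nat_lit 262393,nat_lit 340371,nat_lit 87322,nat_lit 287849,nat_lit 1833983,nat_lit 289092,nat_lit 278592,nat_lit 283753,nat_lit 1310483,nat_lit 345137,nat_lit 435918,nat_lit 1248873,nat_lit 104809,nat_lit 430188,nat_lit 16448,nat_lit 1246531,nat_lit 364848,nat_lit 343953,nat_lit 31057,nat_lit 1157545,nat_lit 31982,nat_lit 87365,nat_lit 263588,nat_lit 504070,nat_lit 126889,nat_lit 107726,nat_lit 69945,nat_lit 107953,nat_lit 80176,nat_lit 6480,nat_lit 20037,nat_lit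 102735,nat_lit 102763,nat_lit 1069840,nat_lit 441356,nat_lit 340915,nat_lit 31801,nat_lit 419052,nat_lit 332716,nat_lit 17615,nat_lit 26347,nat_lit 81477,nat_lit 322554,nat_lit 102801,nat_lit 85081,nat_lit 438204,nat_lit 321849,nat_lit 104127,nat_lit 82750,nat_lit 4156,nat_lit 1769050,nat_lit 26265,nat_lit 277242,nat_lit 4652009,nat_lit 109252,nat_lit 462566,nat_lit 1787,nat_lit 72369,nat_lit 7077,nat_lit 283924,nat_lit 7189,nat_lit 1292644,nat_lit 67264,nat_lit 1053807,nat_lit 1852842,nat_lit 416448,nat_lit 1773914,nat_lit 5476,nat_lit 354892,nat_lit 5436,nat_lit 109201,nat_lit 287811,nat_lit 435878,nat_lit 108800,nat_lit 289807,nat_lit 80492,nat_lit 65850,nat_lit 1284432,nat_lit 420945,nat_lit 86078,nat_lit 18107,nat_lit 1114454,nat_lit 1292731,nat_lit 26025,nat_lit 1245611,nat_lit 1332163,nat_lit 82282,nat_lit 356089,nat_lit 326214,nat_lit 1049598,nat_lit 349209,nat_lit 20453,nat_lit 355226,nat_lit 473513,nat_lit 431551,nat_lit 347225,nat_lit 1749221,nat_lit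 343108,nat_lit 94195,nat_lit 27393,nat_lit 17172,nat_lit 1281,nat_lit 457292,nat_lit 282981,nat_lit 125589,nat_lit 77851,nat_lit 20587,nat_lit 66921,nat_lit 22206,nat_lit 444158,nat_lit 23545,nat_lit 31055,nat_lit 1317487,nat_lit 1336335,nat_lit 334534,nat_lit 1420179,nat_lit 342928,nat_lit 328900,nat_lit 20883,nat_lit 371708,nat_lit 1500177,nat_lit 334588,nat_lit 321860,nat_lit 443390,nat_lit 282988,nat_lit 414126,nat_lit 125244,nat_lit 326229,nat_lit 70746,nat_lit 89023,nat_lit 81808,nat_lit 17729,nat_lit 435946,nat_lit 504128,nat_lit 453551,nat_lit 113411,nat_lit 416569,nat_lit 431526,nat_lit 88976,nat_lit 1375940,nat_lit 5467,nat_lit 1290044,nat_lit 323900,nat_lit 334835,nat_lit 68623,nat_lit 500805,nat_lit 327339,nat_lit 25934,nat_lit 334140,nat_lit 334169,nat_lit 274661,nat_lit 113070,nat_lit 32532,nat_lit 66873,nat_lit 1050366,nat_lit 282363,nat_lit 498027,nat_lit 80490,nat_lit 25914,nat_lit 115089,nat_lit 289429,nat_lit 1664111,nat_lit 1310383,nat_lit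 87102,nat_lit 438700,nat_lit 332096,nat_lit 130835,nat_lit 1642896,nat_lit 520529,nat_lit 1312505,nat_lit 323990,nat_lit 322623,nat_lit 129812,nat_lit 130069,nat_lit 80918,nat_lit 431360,nat_lit 66469,nat_lit 457148,nat_lit 1338969,nat_lit 497941,nat_lit 66451,nat_lit 1992000,nat_lit 278929,nat_lit 1052394,nat_lit 93275,nat_lit 1399721,nat_lit 1063694,nat_lit 1464659,nat_lit 288078,nat_lit 1115070,nat_lit 435564,nat_lit 22256,nat_lit 1312083,nat_lit 105050,nat_lit 265833,nat_lit 1392229,nat_lit 262928,nat_lit 1808691,nat_lit 519398,nat_lit 65971,nat_lit 19519,nat_lit 278954,nat_lit 349945,nat_lit 343036,nat_lit 1337686,nat_lit 18091,nat_lit 326211,nat_lit 87017,nat_lit 1763635,nat_lit 457486,nat_lit 410822,nat_lit 25691,nat_lit 262403,nat_lit 7235,nat_lit 372678,nat_lit 311718,nat_lit 1323342,nat_lit 1292693,nat_lit 420531,nat_lit 453355,nat_lit 1403675,nat_lit 1050046,nat_lit 103184,nat_lit 114668,nat_lit 103866,nat_lit 32574,nat_lit 23440,nat_lit 116057,nat_lit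 71087,nat_lit 503727,nat_lit 17214,nat_lit 88854,nat_lit 71237,nat_lit 72261,nat_lit 421786,nat_lit 328507,nat_lit 268972,nat_lit 26191,nat_lit 69435,nat_lit 31308,nat_lit 474091,nat_lit 311600,nat_lit 265883,nat_lit 1070009,nat_lit 27387,nat_lit 113044,nat_lit 1817,nat_lit 460206,nat_lit 431420,nat_lit 19457,nat_lit 1282875,nat_lit 1403889,nat_lit 1107023,nat_lit 115812,nat_lit 110851,nat_lit 113242,nat_lit 1288554,nat_lit 104121,nat_lit 1134934,nat_lit 369742,nat_lit 1850345,nat_lit 80874,nat_lit 102847,nat_lit 31041,nat_lit 110267,nat_lit 25685,nat_lit 81670,nat_lit 2016686,nat_lit 113066,nat_lit 6741,nat_lit 103404,nat_lit 1720377,nat_lit 110505,nat_lit 1049366,nat_lit 1113075,nat_lit 1372582,nat_lit 2032,nat_lit 1311723,nat_lit 127257,nat_lit 70067,nat_lit 1250496,nat_lit 25926,nat_lit 109797,nat_lit 465914,nat_lit 290501,nat_lit 23547,nat_lit 72678,nat_lit 1785834,nat_lit 118756,nat_lit 288149,nat_lit 91459,nat_lit 66316,nat_lit 81811,nat_lit 105446,nat_lit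 16451,nat_lit 1292944,nat_lit 320603,nat_lit 1076160,nat_lit 290544,nat_lit 1055460,nat_lit 85583,nat_lit 496944,nat_lit 457617,nat_lit 1863440,nat_lit 1310633,nat_lit 113083,nat_lit 1260570,nat_lit 1252287,nat_lit 414033,nat_lit 92758,nat_lit 1377259,nat_lit 81145,nat_lit 320859,nat_lit 91456,nat_lit 289808,nat_lit 274715,nat_lit 1135685,nat_lit 290481,nat_lit 414121,nat_lit 82748,nat_lit 1310355,nat_lit 1151312,nat_lit 5137509,nat_lit 20716,nat_lit 127312,nat_lit 125372,nat_lit 32662,nat_lit 522949,nat_lit 274703,nat_lit 371627,nat_lit 1424335,nat_lit 21,nat_lit 321102,nat_lit 329018,nat_lit 438022,nat_lit 70885,nat_lit 356017,nat_lit 1377963,nat_lit 103678,nat_lit 20492,nat_lit 519056,nat_lit 113651,nat_lit 91187,nat_lit 115603,nat_lit 85233,nat_lit 4186,nat_lit 6905,nat_lit 1063252,nat_lit 520179,nat_lit 443626,nat_lit 266223,nat_lit 16620,nat_lit 506128,nat_lit 17429,nat_lit 66758,nat_lit 454971,nat_lit 20908,nat_lit 30982,nat_lit 267070,nat_lit 349201,nat_lit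 25966,nat_lit 289690,nat_lit 28438,nat_lit 265897,nat_lit 333056,nat_lit 1306522,nat_lit 1625,nat_lit 1727152,nat_lit 67152,nat_lit 333081,nat_lit 473452,nat_lit 23231,nat_lit 7955,nat_lit 1070277,nat_lit 327315,nat_lit 1643568,nat_lit 1063313,nat_lit 1053457,nat_lit 16579,nat_lit 365487,nat_lit 355308,nat_lit 430443,nat_lit 333397,nat_lit 108817,nat_lit 1392444,nat_lit 349441,nat_lit 1819699,nat_lit 87345,nat_lit 266158,nat_lit 280149,nat_lit 347388,nat_lit 446032,nat_lit 343294,nat_lit 276922,nat_lit 26961,nat_lit 1314047,nat_lit 277488,nat_lit 110825,nat_lit 82362,nat_lit 16812,nat_lit 91569,nat_lit 277754,nat_lit 124501,nat_lit 269113,nat_lit 2009409,nat_lit 85221,nat_lit 457491,nat_lit 330815,nat_lit 504145,nat_lit 520460,nat_lit 6739,nat_lit 7833,nat_lit 32507,nat_lit 87097,nat_lit 504726,nat_lit 285646,nat_lit 7226,nat_lit 432900,nat_lit 365999,nat_lit 17393,nat_lit 31056,nat_lit 1642,nat_lit 29681,nat_lit 1339284,nat_lit 372716,nat_lit 1076847,nat_lit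 1986896,nat_lit 1328563,nat_lit 77909,nat_lit 66330,nat_lit 22842,nat_lit 322255,nat_lit 32410,nat_lit 1052601,nat_lit 130747,nat_lit 85649,nat_lit 349377,nat_lit 349099,nat_lit 1461307,nat_lit 451846,nat_lit 329104,nat_lit 1361228,nat_lit 91212,nat_lit 116463,nat_lit 32512,nat_lit 1288524,nat_lit 21870,nat_lit 81834,nat_lit 413934,nat_lit 4394660,nat_lit 115481,nat_lit 1316543,nat_lit 7140,nat_lit 431423,nat_lit 451822,nat_lit 21505,nat_lit 113678,nat_lit 16442,nat_lit 334096,nat_lit 110833,nat_lit 31084,nat_lit 65621,nat_lit 16655,nat_lit 1306516,nat_lit 1295340,nat_lit 23465,nat_lit 365580,nat_lit 278955,nat_lit 1055633,nat_lit 1842108,nat_lit 413924,nat_lit 130636,nat_lit 1074511,nat_lit 111536,nat_lit 71953,nat_lit 356094,nat_lit 1129563,nat_lit 83534,nat_lit 114259,nat_lit 320617,nat_lit 81573,nat_lit 16590,nat_lit 80901,nat_lit 498683,nat_lit 1159572,nat_lit 1137231,nat_lit 65963,nat_lit 458987,nat_lit 1053609,nat_lit 262916,nat_lit 495620,nat_lit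 349462,nat_lit 66362,nat_lit 282611,nat_lit 118463,nat_lit 278721,nat_lit 88655,nat_lit 431105,nat_lit 326058,nat_lit 340881,nat_lit 1130243,nat_lit 129855,nat_lit 443332,nat_lit 108910,nat_lit 1374789,nat_lit 1339329,nat_lit 1260592,nat_lit 496916,nat_lit 85582,nat_lit 107584,nat_lit 1097935,nat_lit 19546,nat_lit 1983,nat_lit 113344,nat_lit 323669,nat_lit 71939,nat_lit 1088,nat_lit 451813,nat_lit 343999,nat_lit 87310,nat_lit 267349,nat_lit 27669,nat_lit 115803,nat_lit 1070065,nat_lit 457370,nat_lit 2044,nat_lit 30976,nat_lit 88661,nat_lit 22202,nat_lit 5030,nat_lit 5171,nat_lit 504812,nat_lit 372305,nat_lit 103347,nat_lit 7834,nat_lit 285356,nat_lit 110992,nat_lit 70036,nat_lit 1115729,nat_lit 274689,nat_lit 21589,nat_lit 1305264,nat_lit 110480,nat_lit 113068,nat_lit 72001,nat_lit 28730,nat_lit 118771,nat_lit 1419536,nat_lit 444140,nat_lit 1420225,nat_lit 4430170,nat_lit 78783,nat_lit 371276,nat_lit 279300,nat_lit 69738,nat_lit 23530,nat_lit 1252302,nat_lit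 1304844,nat_lit 1303809,nat_lit 1070320,nat_lit 4438,nat_lit 125647,nat_lit 29072,nat_lit 322138,nat_lit 20032,nat_lit 6926,nat_lit 69979,nat_lit 31001,nat_lit 1315838,nat_lit 500741,nat_lit 334590,nat_lit 289212,nat_lit 1331097,nat_lit 72462,nat_lit 19692,nat_lit 290731,nat_lit 109206,nat_lit 1338304,nat_lit 5882,nat_lit 31795,nat_lit 1372400,nat_lit 31062,nat_lit 1303909,nat_lit 321968,nat_lit 80958,nat_lit 102756,nat_lit 1158129,nat_lit 372379,nat_lit 342723,nat_lit 109120,nat_lit 116079,nat_lit 1245268,nat_lit 372943,nat_lit 1378035,nat_lit 1311667,nat_lit 342298,nat_lit 325907,nat_lit 1391,nat_lit 523929,nat_lit 114355,nat_lit 452166,nat_lit 446031,nat_lit 92564,nat_lit 31636,nat_lit 87020,nat_lit 342846,nat_lit 118457,nat_lit 7867,nat_lit 27558,nat_lit 506175,nat_lit 7257,nat_lit 2024762,nat_lit 348154,nat_lit 21422,nat_lit 1052606,nat_lit 65808,nat_lit 108880,nat_lit 329371,nat_lit 1113174,nat_lit 109550,nat_lit 69295,nat_lit 282618,nat_lit 93083,nat_lit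 263246,nat_lit 27713,nat_lit 453699,nat_lit 521195,nat_lit 1336755,nat_lit 320581,nat_lit 431082,nat_lit 22810,nat_lit 104805,nat_lit 23472,nat_lit 4209600,nat_lit 458435,nat_lit 327728,nat_lit 103430,nat_lit 372415,nat_lit 414954,nat_lit 1993361,nat_lit 1396288,nat_lit 267068,nat_lit 1729537,nat_lit 324011,nat_lit 21267,nat_lit 1110336,nat_lit 1502996,nat_lit 92868,nat_lit 4636314,nat_lit 277198,nat_lit 92858,nat_lit 332906,nat_lit 285267,nat_lit 21612,nat_lit 107598,nat_lit 1399728,nat_lit 87729,nat_lit 82838,nat_lit 1831230,nat_lit 114457,nat_lit 86102,nat_lit 1831219,nat_lit 1063315,nat_lit 356015,nat_lit 80974,nat_lit 348156,nat_lit 266666,nat_lit 87347,nat_lit 311396,nat_lit 107884,nat_lit 109653,nat_lit 25664,nat_lit 274684,nat_lit 1303878,nat_lit 78058,nat_lit 1723493,nat_lit 125200,nat_lit 288191,nat_lit 355315,nat_lit 116310,nat_lit 6897745,nat_lit 451668,nat_lit 463041,nat_lit 1502225,nat_lit 116155,nat_lit 344091,nat_lit 435542,nat_lit 70404,nat_lit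 340174,nat_lit 69717,nat_lit 1310480,nat_lit 323610,nat_lit 1063683,nat_lit 1762993,nat_lit 113422,nat_lit 508182,nat_lit 1106948,nat_lit 69716,nat_lit 80528,nat_lit 274835,nat_lit 497326,nat_lit 1063312,nat_lit 376783,nat_lit 1391632,nat_lit 4303,nat_lit 70053,nat_lit 1108410,nat_lit 27395,nat_lit 436480,nat_lit 1723982,nat_lit 266000,nat_lit 71342,nat_lit 355379,nat_lit 502031,nat_lit 275350,nat_lit 2021,nat_lit 282427,nat_lit 29119,nat_lit 462873,nat_lit 411370,nat_lit 21434,nat_lit 1074542,nat_lit 1283419,nat_lit 443386,nat_lit 1157441,nat_lit 21781,nat_lit 109156,nat_lit 285263,nat_lit 88665,nat_lit 5439,nat_lit 1331093,nat_lit 6586,nat_lit 65779,nat_lit 279856,nat_lit 78145,nat_lit 1729942,nat_lit 1129066,nat_lit 279450,nat_lit 267514,nat_lit 123955,nat_lit 65941,nat_lit 7835,nat_lit 1130810,nat_lit 267584,nat_lit 263089,nat_lit 87060,nat_lit 1158970,nat_lit 322308,nat_lit 20495,nat_lit 88857,nat_lit 282704,nat_lit 20400,nat_lit 460182,nat_lit 464129,nat_lit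 431812,nat_lit 372933,nat_lit 284069,nat_lit 110352,nat_lit 71340,nat_lit 86348,nat_lit 330837,nat_lit 82158,nat_lit 1038,nat_lit 457963,nat_lit 365820,nat_lit 28924,nat_lit 113413,nat_lit 116453,nat_lit 285374,nat_lit 17301,nat_lit 69742,nat_lit 1388602,nat_lit 520447,nat_lit 290044,nat_lit 1069327,nat_lit 289349,nat_lit 110906,nat_lit 26031,nat_lit 411,nat_lit 129705,nat_lit 355071,nat_lit 462442,nat_lit 16689,nat_lit 323348,nat_lit 107839,nat_lit 86443,nat_lit 366323,nat_lit 283397,nat_lit 31756,nat_lit 1249049,nat_lit 413956,nat_lit 16635,nat_lit 1314469,nat_lit 87315,nat_lit 342,nat_lit 414142,nat_lit 262222,nat_lit 311387,nat_lit 78822,nat_lit 94182,nat_lit 91385,nat_lit 1118228,nat_lit 88773,nat_lit 8090,nat_lit 1380550,nat_lit 290028,nat_lit 349107,nat_lit 501004,nat_lit 91334,nat_lit 110931,nat_lit 1162832,nat_lit 262588,nat_lit 1249622,nat_lit 71366,nat_lit 70993,nat_lit 267668,nat_lit 1773764,nat_lit 31748,nat_lit 312382,nat_lit 364644,nat_lit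 26196,nat_lit 1396398,nat_lit 20756,nat_lit 26901,nat_lit 66622,nat_lit 130063,nat_lit 69227,nat_lit 462619,nat_lit 1134246,nat_lit 92507,nat_lit 68863,nat_lit 345023,nat_lit 1245414,nat_lit 16831,nat_lit 340016,nat_lit 441281,nat_lit 4330,nat_lit 268608,nat_lit 369978,nat_lit 1464979,nat_lit 263083,nat_lit 285338,nat_lit 31423,nat_lit 465668,nat_lit 1160166,nat_lit 1658950,nat_lit 68836,nat_lit 87024,nat_lit 94131,nat_lit 111609,nat_lit 1947,nat_lit 1489871,nat_lit 4201466,nat_lit 82003,nat_lit 4324,nat_lit 1064000,nat_lit 105166,nat_lit 1246896,nat_lit 31301,nat_lit 80954,nat_lit 330772,nat_lit 1659187,nat_lit 71344,nat_lit 21444,nat_lit 108876,nat_lit 28324,nat_lit 72425,nat_lit 464150,nat_lit 114419,nat_lit 1336332,nat_lit 323596,nat_lit 1421647,nat_lit 1066671,nat_lit 274793,nat_lit 1332966,nat_lit 414634,nat_lit 321108,nat_lit 85763,nat_lit 453860,nat_lit 68625,nat_lit 1069968,nat_lit 17509,nat_lit 1094,nat_lit 265899,nat_lit 86804,nat_lit 267276,nat_lit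 17359,nat_lit 1339342,nat_lit 285593,nat_lit 354579,nat_lit 508147,nat_lit 322196,nat_lit 502694,nat_lit 4263529,nat_lit 102843,nat_lit 113391,nat_lit 27758,nat_lit 67163,nat_lit 7749,nat_lit 1074438,nat_lit 517199,nat_lit 4516,nat_lit 290502,nat_lit 289043,nat_lit 20281,nat_lit 457305,nat_lit 458830,nat_lit 18118,nat_lit 72259,nat_lit 20,nat_lit 94143,nat_lit 1115057,nat_lit 464127,nat_lit 412673,nat_lit 287760,nat_lit 83050,nat_lit 7948,nat_lit 29018,nat_lit 1064539,nat_lit 6932,nat_lit 7993,nat_lit 334798,nat_lit 126544,nat_lit 130661,nat_lit 125615,nat_lit 20048,nat_lit 21521,nat_lit 503813,nat_lit 114582,nat_lit 83215,nat_lit 2024465,nat_lit 88431,nat_lit 108862,nat_lit 84993,nat_lit 1861888,nat_lit 25882,nat_lit 71103,nat_lit 284330,nat_lit 92826,nat_lit 72468,nat_lit 66924,nat_lit 28334,nat_lit 324006,nat_lit 508145,nat_lit 322660,nat_lit 289532,nat_lit 127036,nat_lit 4303504,nat_lit 520187,nat_lit 464304,nat_lit 7109,nat_lit 1063531,nat_lit 23451,nat_lit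 4282646,nat_lit 78741,nat_lit 118377,nat_lit 331355,nat_lit 1308940,nat_lit 29594,nat_lit 85052,nat_lit 1749931,nat_lit 289211,nat_lit 1315014,nat_lit 283665,nat_lit 1983425,nat_lit 123982,nat_lit 409856,nat_lit 4452410,nat_lit 1840895,nat_lit 7162,nat_lit 102677,nat_lit 129307,nat_lit 440634,nat_lit 462652,nat_lit 1156522,nat_lit 29107,nat_lit 16452,nat_lit 17428,nat_lit 1612,nat_lit 16652,nat_lit 70848,nat_lit 1463361,nat_lit 463108,nat_lit 70676,nat_lit 5454,nat_lit 1071694,nat_lit 1404906,nat_lit 1248367,nat_lit 444154,nat_lit 23526,nat_lit 508218,nat_lit 315332,nat_lit 28677,nat_lit 323136,nat_lit 109808,nat_lit 114704,nat_lit 1114435,nat_lit 66554,nat_lit 1101467,nat_lit 8187,nat_lit 453525,nat_lit 6911,nat_lit 1644097,nat_lit 312332,nat_lit 453356,nat_lit 70718,nat_lit 473859,nat_lit 1393615,nat_lit 446033,nat_lit 5136,nat_lit 108812,nat_lit 347833,nat_lit 409967,nat_lit 452865,nat_lit 1293338,nat_lit 323248,nat_lit 123,nat_lit 80190,nat_lit 498326,nat_lit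 1372073,nat_lit 431381,nat_lit 6564,nat_lit 70643,nat_lit 465664,nat_lit 1053806,nat_lit 326309,nat_lit 460049,nat_lit 489,nat_lit 17484,nat_lit 31,nat_lit 517135,nat_lit 441347,nat_lit 113641,nat_lit 322124,nat_lit 27710,nat_lit 437950,nat_lit 66822,nat_lit 27705,nat_lit 1762661,nat_lit 442617,nat_lit 278868,nat_lit 1664015,nat_lit 416090,nat_lit 474063,nat_lit 347193,nat_lit 503460,nat_lit 5203,nat_lit 124100,nat_lit 124500,nat_lit 1063695,nat_lit 1376207,nat_lit 274767,nat_lit 20460,nat_lit 371716,nat_lit 113638,nat_lit 93894,nat_lit 262373,nat_lit 420121,nat_lit 1115115,nat_lit 333396,nat_lit 1246437,nat_lit 115622,nat_lit 355084,nat_lit 7103,nat_lit 278443,nat_lit 1070782,nat_lit 85019,nat_lit 129627,nat_lit 435947,nat_lit 103529,nat_lit 109200,nat_lit 87481,nat_lit 1850469,nat_lit 272,nat_lit 323606,nat_lit 92869,nat_lit 431382,nat_lit 326062,nat_lit 1114085,nat_lit 1371118,nat_lit 110913,nat_lit 6579,nat_lit 347187,nat_lit 86022,nat_lit 105025,nat_lit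 87482,nat_lit 320591,nat_lit 1101412,nat_lit 114330,nat_lit 285253,nat_lit 114411,nat_lit 1306987,nat_lit 1121019,nat_lit 69604,nat_lit 31411,nat_lit 4416,nat_lit 1790,nat_lit 1284758,nat_lit 81660,nat_lit 6907,nat_lit 523920,nat_lit 1289232,nat_lit 1101541,nat_lit 105222,nat_lit 500987,nat_lit 20481,nat_lit 1054384,nat_lit 81563,nat_lit 1494963,nat_lit 2038031,nat_lit 1070336,nat_lit 2082118,nat_lit 114329,nat_lit 86032,nat_lit 278084,nat_lit 328505,nat_lit 1142356,nat_lit 508986,nat_lit 77930,nat_lit 278849,nat_lit 78030,nat_lit 1338,nat_lit 279321,nat_lit 125203,nat_lit 8084,nat_lit 262937,nat_lit 82924,nat_lit 444090,nat_lit 105210,nat_lit 1284715,nat_lit 262931,nat_lit 129622,nat_lit 1245425,nat_lit 1304939,nat_lit 6550,nat_lit 70915,nat_lit 23534,nat_lit 323902,nat_lit 438289,nat_lit 1658883,nat_lit 123964,nat_lit 452265,nat_lit 26284,nat_lit 1055057,nat_lit 1616,nat_lit 81552,nat_lit 2079342,nat_lit 1387,nat_lit 4528,nat_lit 21427,nat_lit 279568,nat_lit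 267860,nat_lit 1806673,nat_lit 376826,nat_lit 20884,nat_lit 507582,nat_lit 1119510,nat_lit 7145,nat_lit 365584,nat_lit 1070790,nat_lit 81499,nat_lit 129817,nat_lit 333483,nat_lit 376639,nat_lit 351226,nat_lit 69883,nat_lit 267370,nat_lit 289210,nat_lit 114451,nat_lit 94118,nat_lit 287998,nat_lit 81508,nat_lit 21756,nat_lit 289813,nat_lit 267983,nat_lit 17173,nat_lit 267200,nat_lit 70421,nat_lit 473516,nat_lit 322540,nat_lit 28271,nat_lit 342336,nat_lit 342724,nat_lit 70640,nat_lit 1134618,nat_lit 1117881,nat_lit 1397678,nat_lit 87460,nat_lit 21711,nat_lit 4509612,nat_lit 118358,nat_lit 451584,nat_lit 1680655,nat_lit 22084,nat_lit 6908,nat_lit 409705,nat_lit 87268,nat_lit 495941,nat_lit 1098000,nat_lit 105275,nat_lit 26032,nat_lit 1142467,nat_lit 333050,nat_lit 29104,nat_lit 414799,nat_lit 1066244,nat_lit 4274494,nat_lit 438266,nat_lit 67243,nat_lit 431525,nat_lit 334757,nat_lit 1392326,nat_lit 68838,nat_lit 1284,nat_lit 1730965,nat_lit 16814,nat_lit 5881,nat_lit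 328121,nat_lit 116016,nat_lit 23232,nat_lit 268004,nat_lit 506176,nat_lit 20158,nat_lit 82878,nat_lit 23524,nat_lit 101,nat_lit 267862,nat_lit 465209,nat_lit 1728,nat_lit 281850,nat_lit 372542,nat_lit 31163,nat_lit 86101,nat_lit 340908,nat_lit 31141,nat_lit 464236,nat_lit 442426,nat_lit 21420,nat_lit 107546,nat_lit 430998,nat_lit 91481,nat_lit 87397,nat_lit 497322,nat_lit 332698,nat_lit 80623,nat_lit 125861,nat_lit 284245,nat_lit 22203,nat_lit 81151,nat_lit 372671,nat_lit 321870,nat_lit 502372,nat_lit 20505,nat_lit 21910,nat_lit 88430,nat_lit 1283748,nat_lit 70974,nat_lit 93786,nat_lit 465508,nat_lit 70656,nat_lit 31994,nat_lit 1133569,nat_lit 1291249,nat_lit 1070443,nat_lit 22891,nat_lit 27759,nat_lit 345422,nat_lit 104115,nat_lit 7398,nat_lit 28782,nat_lit 321841,nat_lit 91492,nat_lit 23233,nat_lit 69653,nat_lit 127182,nat_lit 435941,nat_lit 81553,nat_lit 1068819,nat_lit 6484,nat_lit 70741,nat_lit 323840,nat_lit 105360,nat_lit 1380004,nat_lit 278286,nat_lit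 284239,nat_lit 322641,nat_lit 105406,nat_lit 1289294,nat_lit 80485,nat_lit 355327,nat_lit 412730,nat_lit 69184,nat_lit 28915,nat_lit 87467,nat_lit 82190,nat_lit 411323,nat_lit 323660,nat_lit 1465324,nat_lit 85590,nat_lit 110846,nat_lit 118769,nat_lit 458305,nat_lit 1102,nat_lit 30979,nat_lit 1653157,nat_lit 1396388,nat_lit 262251,nat_lit 1115056,nat_lit 83055,nat_lit 105045,nat_lit 365652,nat_lit 29612,nat_lit 289475,nat_lit 114618,nat_lit 282522,nat_lit 4880,nat_lit 1687227,nat_lit 17167,nat_lit 1369488,nat_lit 4113,nat_lit 523966,nat_lit 282574,nat_lit 283654,nat_lit 332561,nat_lit 415322,nat_lit 31759,nat_lit 1813187,nat_lit 82277,nat_lit 19520,nat_lit 327963,nat_lit 1725638,nat_lit 127283,nat_lit 1331115,nat_lit 376474,nat_lit 511595,nat_lit 1295294,nat_lit 67153,nat_lit 130875,nat_lit 442303,nat_lit 266490,nat_lit 1336590,nat_lit 130030,nat_lit 1982820,nat_lit 463892,nat_lit 1807451,nat_lit 1397689,nat_lit 1054286,nat_lit 267580,nat_lit 465809,nat_lit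 113636,nat_lit 1747267,nat_lit 431692,nat_lit 81852,nat_lit 263913,nat_lit 77828,nat_lit 20900,nat_lit 70593,nat_lit 93972,nat_lit 282601,nat_lit 284345,nat_lit 288057,nat_lit 1052646,nat_lit 92950,nat_lit 366321,nat_lit 444057,nat_lit 344079,nat_lit 327941,nat_lit 80956,nat_lit 25658,nat_lit 1380714,nat_lit 5182,nat_lit 1617,nat_lit 5438,nat_lit 446383,nat_lit 413807,nat_lit 1137411,nat_lit 4264976,nat_lit 113647,nat_lit 105038,nat_lit 413754,nat_lit 1328575,nat_lit 2003025,nat_lit 365974,nat_lit 87278,nat_lit 1070188,nat_lit 72510,nat_lit 5424,nat_lit 414917,nat_lit 266298,nat_lit 517830,nat_lit 332851,nat_lit 1098673,nat_lit 376601,nat_lit 105126]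
noncomputable def orbW : List (List Nat) := (orb0 ++ orb1 ++ orb2 ++ orb3 ++ orb4 ++ orb5 ++ orb6 ++ orb7 ++ orb8).map (decF 16)

end Cfsg.Agent.Lib.McLCent.Data
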